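import Cfsg.Agent.Lib.Spor.MTwelve.Model
import Cfsg.Agent.Lib.Spor.MTwelve.RealCentData
import Cfsg.Agent.Lib.Spor.MathieuSimple
import Cfsg.Agent.Lib.Spor.GolayDodecad
import Cfsg.Agent.Lib.Local.FS.MathieuPerms
import Cfsg.Agent.Lib.Local.FS.SimpleM11
import Cfsg.Prelude.Def_SporadicB

/-!
In the concrete Mathieu group of degree twelve the centraliser of a two-central involution is the model group.
-/

set_option autoImplicit false
set_option maxRecDepth 100000
set_option maxHeartbeats 1000000

namespace Cfsg.Agent.MTwelve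

open Cfsg Cfsg.Agent.Spor Cfsg.Agent.Local.FS.Mathieu MulAction
open scoped Pointwise

/-- image of the number of a point -/
def extIdx (x : C0) (i : ℕ) : ℕ := (extRow x.idx.val >>> (5 * i)) % 32

/-- the image list -/
def extLst (x : C0) : List ℕ := (List.range 24).map (extIdx x)

/-- a point of the dodecad -/
def bpt (i : Fin 12) : GolayPt := pt (ptTab.getD i.val 0)

theorem ext_range (x : C0) {i : ℕ} (hi : i < 24) : extIdx x i < 24 ∧ extIdx x⁻¹ (extIdx x i) = i := by
  have h := C0.forall_of_all (p := fun x => (List.range 24).all fun i =>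
    decide (extIdx x i < 24) && extIdx x⁻¹ (extIdx x i) == i) (by decide +kernel) x
  have := List.all_eq_true.1 h i (List.mem_range.2 hi)
  simpa using this

/-- an element of the model as a permutation of the twenty-four points -/
def emb (x : C0) : Equiv.Perm GolayPt where
  toFun p := pt (extIdx x (idx p))
  invFun p := pt (extIdx x⁻¹ (idx p))
  left_inv p := by
    show pt (extIdx x⁻¹ (idx (pt (extIdx x (idx p))))) = p
    rw [idx_pt _ (ext_range x (idx_lt p)).1, (ext_range x (idx_lt p)).2, pt_idx]
  right_inv p := by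
    have h := ext_range x⁻¹ (idx_lt p)
    rw [inv_inv] at h
    show pt (extIdx x (idx (pt (extIdx x⁻¹ (idx p))))) = p
    rw [idx_pt _ h.1, h.2, pt_idx]

theorem lst_emb (x : C0) : lst (emb x) = extLst x := by
  refine List.map_congr_left fun i hi => ?_
  show idx (pt (extIdx x (idx (pt i)))) = extIdx x i
  rw [idx_pt i (List.mem_range.1 hi), idx_pt _ (ext_range x (List.mem_range.1 hi)).1]

theorem emb_mem (x : C0) : emb x ∈ Spor.M12 := by
  refine m12_mem_of_lst ?_
  rw [lst_emb]
  exact C0.forall_of_all (p := fun x => inCode (extLst x) && (pmask (extLst x) 340831 == 340831))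
    (by decide +kernel) x

theorem emb_bpt (x : C0) (i : Fin 12) : emb x (bpt i) = bpt (C0.img x i) := by
  have h := C0.forall_of_all (p := fun x => (List.finRange 12).all fun i =>
    decide (ptTab.getD i.val 0 < 24) && extIdx x (ptTab.getD i.val 0) == ptTab.getD (C0.img x i).val 0)
    (by decide +kernel) x
  have := List.all_eq_true.1 h i (List.mem_finRange i)
  simp only [Bool.and_eq_true, decide_eq_true_eq, beq_iff_eq] at this
  show pt (extIdx x (idx (pt (ptTab.getD i.val 0)))) = _
  rw [idx_pt _ this.1, this.2]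
  rfl

theorem bpt_injective : Function.Injective bpt := by
  have h : ∀ i j : Fin 12, bpt i = bpt j → i = j := by decide +kernel
  exact fun i j => h i j

theorem bpt_image : Finset.univ.image bpt = Cfsg.Spor.squareDodecad := by decide +kernel

/-- the centraliser model inside the concrete group -/
def embHom : C0 →* ↥Spor.M12 :=
  MonoidHom.mk' (fun x => ⟨emb x, emb_mem x⟩) fun x y => by
    apply Subtype.ext
    have h : (emb x * emb y)⁻¹ * emb (x * y) = 1 :=
      eq_one_of_fix_ten (mul_mem (inv_mem (mul_mem (emb_mem x).1 (emb_mem y).1)) (emb_mem _).1)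
        (F := Finset.univ.image bpt)
        (by rw [Finset.card_image_of_injective _ bpt_injective, Finset.card_univ, Fintype.card_fin]; norm_num)
        fun p hp => by
          obtain ⟨i, -, rfl⟩ := Finset.mem_image.1 hp
          show (emb x * emb y).symm (emb (x * y) (bpt i)) = bpt i
          rw [Equiv.symm_apply_eq, Equiv.Perm.mul_apply]
          simp only [emb_bpt, C0.img_mul]
    exact (inv_mul_eq_one.1 h).symm

theorem embHom_injective : Function.Injective embHom := fun x y h => C0.img_injective fun p => by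
  have := congrArg (fun g : ↥Spor.M12 => (g : Equiv.Perm GolayPt) (bpt p)) h
  simp only [embHom, MonoidHom.mk'_apply, emb_bpt] at this
  exact bpt_injective this

theorem z0_facts : ∀ x : C0, x * C0.z0 = C0.z0 * x := fun x =>
  eq_of_beq (C0.forall_of_all (p := fun x => x * C0.z0 == C0.z0 * x) (by decide +kernel) x)

theorem z0_fix : ∀ i : Fin 12, C0.img C0.z0 i = i ↔ i.val < 4 := by decide +kernel

/-- the four fixed points of the central involution in the dodecad -/
def quad : Finset GolayPt := (Finset.univ.filter fun i : Fin 12 => i.val < 4).image bpt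

theorem quad_index : (stabilizer ↥Spor.M12 quad).index = 495 := by
  have hd := Cfsg.Agent.Local.FS.squareDodecad_mem
  have hq : quad ∈ Finset.powersetCard 4 Cfsg.Spor.squareDodecad := by decide +kernel
  have horb : orbit ↥Spor.M12 quad
      = (Finset.powersetCard 4 Cfsg.Spor.squareDodecad : Set (Finset GolayPt)) := by
    ext s
    constructor
    · rintro ⟨g, rfl⟩
      obtain ⟨h1, h2⟩ := Finset.mem_powersetCard.1 hq
      have hg : (g : Equiv.Perm GolayPt) • Cfsg.Spor.squareDodecad = Cfsg.Spor.squareDodecad := g.2.2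
      refine Finset.mem_coe.2 (Finset.mem_powersetCard.2 ⟨?_, (Finset.card_smul_finset _ _).trans h2⟩)
      rw [← hg]
      exact Finset.smul_finset_subset_smul_finset h1
    · intro hs
      obtain ⟨h1, h2⟩ := Finset.mem_powersetCard.1 (Finset.mem_coe.1 hs)
      obtain ⟨a, ha, has⟩ := Finset.exists_mem_notMem_of_card_lt_card
        (by rw [h2, hd.2]; norm_num : s.card < Cfsg.Spor.squareDodecad.card)
      let e := s.equivFinOfCardEq h2
      let x : Fin 5 ↪ GolayPt := ⟨fun i => bpt ⟨i.val, by omega⟩, fun i j h => Fin.ext (by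
        simpa using congrArg Fin.val (bpt_injective h))⟩
      let y : Fin 5 ↪ GolayPt := ⟨Fin.snoc (fun i => (e.symm i : GolayPt)) a,
        Fin.snoc_injective_iff.2 ⟨fun i j h => e.symm.injective (Subtype.ext h),
          fun ⟨i, hi⟩ => has (hi ▸ (e.symm i).2)⟩⟩
      obtain ⟨g, hg, -⟩ := dodecad_five_trans hd x y
        (fun i => bpt_image ▸ Finset.mem_image_of_mem _ (Finset.mem_univ _))
        (fun i => by
          induction i using Fin.lastCases with
          | last =>
            show Fin.snoc (α := fun _ => GolayPt) (fun i => (e.symm i : GolayPt)) a (Fin.last 4) ∈ _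
            rw [Fin.snoc_last]; exact ha
          | cast i => simpa [y] using h1 (e.symm i).2)
      refine ⟨⟨g.1.1, g.1.2, g.2⟩, ?_⟩
      show (g.1.1 : Equiv.Perm GolayPt) • quad = s
      refine Finset.eq_of_subset_of_card_le (fun p hp => ?_) ?_
      · obtain ⟨q, hq', rfl⟩ := Finset.mem_smul_finset.1 hp
        obtain ⟨i, hi, rfl⟩ := Finset.mem_image.1 hq'
        have hi4 : i.val < 4 := (Finset.mem_filter.1 hi).2
        have hgi := hg (Fin.castSucc ⟨i.val, hi4⟩)
        simp only [x, y, Function.Embedding.coeFn_mk, Fin.snoc_castSucc] at hgi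
        rw [Equiv.Perm.smul_def]
        exact hgi ▸ (e.symm _).2
      · rw [Finset.card_smul_finset, (Finset.mem_powersetCard.1 hq).2, h2]
  rw [index_stabilizer, horb, Set.ncard_coe_finset, Finset.card_powersetCard, hd.2]
  rfl

theorem range_embHom : embHom.range = Subgroup.centralizer ({embHom C0.z0} : Set ↥Spor.M12) := by
  refine Subgroup.eq_of_le_of_card_ge ?_ ?_
  · rintro _ ⟨x, rfl⟩
    rw [Subgroup.mem_centralizer_singleton_iff, ← map_mul, ← map_mul, z0_facts]
  · have hle : Subgroup.centralizer ({embHom C0.z0} : Set ↥Spor.M12) ≤ stabilizer ↥Spor.M12 quad := by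
      intro g hg
      rw [Subgroup.mem_centralizer_singleton_iff] at hg
      show (g : Equiv.Perm GolayPt) • quad = quad
      refine Finset.eq_of_subset_of_card_le (fun p hp => ?_) (Finset.card_smul_finset _ _).ge
      obtain ⟨q, hq, rfl⟩ := Finset.mem_smul_finset.1 hp
      obtain ⟨i, hi, rfl⟩ := Finset.mem_image.1 hq
      have hi4 := (z0_fix i).2 (Finset.mem_filter.1 hi).2
      have hgd : (g : Equiv.Perm GolayPt) • Cfsg.Spor.squareDodecad = Cfsg.Spor.squareDodecad := g.2.2
      have hgi : (g : Equiv.Perm GolayPt) (bpt i) ∈ Finset.univ.image bpt := by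
        rw [bpt_image, ← hgd, ← Equiv.Perm.smul_def]
        exact Finset.smul_mem_smul_finset (bpt_image ▸ Finset.mem_image_of_mem _ (Finset.mem_univ _))
      obtain ⟨j, -, hj⟩ := Finset.mem_image.1 hgi
      have h := congrArg (fun k : ↥Spor.M12 => (k : Equiv.Perm GolayPt) (bpt i)) hg
      simp only [Subgroup.coe_mul, Equiv.Perm.mul_apply, embHom, MonoidHom.mk'_apply, emb_bpt, hi4, ← hj] at h
      rw [Equiv.Perm.smul_def, ← hj]
      exact Finset.mem_image_of_mem _
        (Finset.mem_filter.2 ⟨Finset.mem_univ _, (z0_fix j).1 (bpt_injective h.symm)⟩)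
    have h1 := Subgroup.card_le_of_le hle
    have h2 := Subgroup.card_mul_index (stabilizer ↥Spor.M12 quad)
    rw [quad_index, card_m12] at h2
    rw [← Nat.card_congr (MonoidHom.ofInjective embHom_injective).toEquiv, C0.card]
    omega

theorem involution_eq_z0 (x : C0) (hx : x * x = 1) (h1 : x ≠ 1)
    (h : 64 ∣ Nat.card (Subgroup.centralizer ({x} : Set C0))) : x = C0.z0 := by
  have hc : Nat.card (Subgroup.centralizer ({x} : Set C0))
      = (Finset.univ.filter fun i : Fin 192 => C0.mk i * x == x * C0.mk i).card := by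
    rw [← Fintype.card_subtype, ← Nat.card_eq_fintype_card]
    exact Nat.card_congr ((C0.equivFin.symm.subtypeEquiv fun i => by
      rw [Subgroup.mem_centralizer_singleton_iff, beq_iff_eq]; rfl).symm)
  rw [hc] at h
  have := C0.forall_of_all (p := fun x => decide (x * x = 1 → x ≠ 1 →
      64 ∣ (Finset.univ.filter fun i : Fin 192 => C0.mk i * x == x * C0.mk i).card → x = C0.z0))
    (by decide +kernel) x
  exact of_decide_eq_true this hx h1 h

/-- The centraliser of a two-central involution. -/
theorem realCent (u : ↥Cfsg.Spor.M12) (hu : Cfsg.IsTwoCentralInvolution u) :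
    Nonempty (↥(Subgroup.centralizer ({u} : Set ↥Cfsg.Spor.M12)) ≃* C0) := by
  classical
  have : Fact (Nat.Prime 2) := ⟨Nat.prime_two⟩
  obtain ⟨hord, P, huP, hPu⟩ := hu
  obtain ⟨Q, hQ⟩ : ∃ Q : Subgroup C0, Nat.card Q = 2 ^ 6 :=
    Sylow.exists_subgroup_card_pow_prime 2 (by rw [C0.card]; norm_num)
  have hQ' : Nat.card (Q.map embHom) = 2 ^ (Nat.card ↥Spor.M12).factorization 2 := by
    rw [← Nat.card_congr (Q.equivMapOfInjective embHom embHom_injective).toEquiv, hQ, card_m12]
    congr 1
    rw [show (95040 : ℕ) = 2 ^ 6 * 1485 from rfl, Nat.factorization_mul (by norm_num) (by norm_num),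
      Finsupp.add_apply, Nat.prime_two.factorization_pow, Finsupp.single_eq_same,
      Nat.factorization_eq_zero_of_not_dvd (by norm_num)]
  obtain ⟨g, hg⟩ := MulAction.exists_smul_eq ↥Spor.M12 P (Sylow.ofCard (Q.map embHom) hQ')
  have hgP : ∀ a ∈ P, g * a * g⁻¹ ∈ Q.map embHom := fun a ha => by
    have h1 : MulAut.conj g • a ∈ MulAut.conj g • (P : Subgroup ↥Spor.M12) :=
      Subgroup.smul_mem_pointwise_smul a _ _ ha
    rw [← Sylow.pointwise_smul_def, show MulAut.conj g • P = g • P from rfl, hg] at h1
    simpa using h1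
  have hPg : ∀ y ∈ Q.map embHom, g⁻¹ * y * g ∈ P := fun y hy => by
    have h1 : y ∈ (Sylow.ofCard (Q.map embHom) hQ' : Subgroup ↥Spor.M12) := hy
    rw [← hg] at h1
    obtain ⟨a, ha, rfl⟩ := Subgroup.mem_map.1 h1
    show g⁻¹ * (MulAut.conj g a) * g ∈ (P : Subgroup ↥Spor.M12)
    simpa [mul_assoc] using ha
  obtain ⟨x, hxQ, hx⟩ := Subgroup.mem_map.1 (hgP u huP)
  have hxc : ∀ q ∈ Q, q * x = x * q := fun q hq => embHom_injective (by
    rw [map_mul, map_mul, hx]
    have h := hPu _ (hPg _ (Subgroup.mem_map_of_mem _ hq))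
    have h2 := congrArg (fun z => g * z * g⁻¹) h
    simp only [mul_assoc, mul_inv_cancel_left, mul_inv_cancel, mul_one] at h2 ⊢
    exact h2)
  have hox : orderOf x = 2 := by
    rw [← orderOf_injective embHom embHom_injective x, hx, ← MulAut.conj_apply,
      ← MulEquiv.coe_toMonoidHom, orderOf_injective _ (MulAut.conj g).injective, hord]
  have hxz : x = C0.z0 := by
    refine involution_eq_z0 x ?_ (fun h => by simp [h] at hox) ?_
    · have := pow_orderOf_eq_one x
      rwa [hox, pow_two] at this
    · rw [show (64 : ℕ) = 2 ^ 6 from rfl, ← hQ]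
      exact Subgroup.card_dvd_of_le fun q hq => Subgroup.mem_centralizer_singleton_iff.2 (hxc q hq)
  have hu' : embHom C0.z0 = g * u * g⁻¹ := by rw [← hxz, hx]
  have hmap : (Subgroup.centralizer ({u} : Set ↥Spor.M12)).map (MulAut.conj g).toMonoidHom
      = embHom.range := by
    rw [range_embHom, hu']
    ext y
    rw [Subgroup.mem_map_equiv, Subgroup.mem_centralizer_singleton_iff, Subgroup.mem_centralizer_singleton_iff,
      ← (MulAut.conj g).injective.eq_iff, map_mul, map_mul, MulEquiv.apply_symm_apply, MulAut.conj_apply]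
  exact ⟨(((MulAut.conj g).subgroupMap _).trans (MulEquiv.subgroupCongr hmap)).trans
    (MonoidHom.ofInjective embHom_injective).symm⟩

end Cfsg.Agent.MTwelve
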