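import Cfsg.Agent.Lib.Spor.MTwelve.Model
import Cfsg.Agent.Lib.Char.ZStar
import Cfsg.Agent.S0111

/-!
Fusion of involutions in a simple group with the involution centraliser of the Mathieu group of degree twelve.
-/

set_option autoImplicit false
set_option linter.style.haveILetI false

namespace Cfsg.Agent.MTwelve

open C0

/-- the number of elements commuting with a given one -/
def cn (x : C0) : ℕ := (Finset.univ.filter fun c : C0 => c * x = x * c).card

/-- the list of all elements -/
def allEl : List C0 := (List.range 192).map el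

theorem mem_allEl (x : C0) : x ∈ allEl := by
  refine List.mem_map.2 ⟨x.idx.val, List.mem_range.2 x.idx.isLt, ?_⟩
  cases x with | mk i => simp [el, ofNat', Nat.mod_eq_of_lt i.isLt]

/-- the elements commuting with a given one, as a list -/
def centList (x : C0) : List C0 := allEl.filter fun c => c * x == x * c

theorem mem_centList {x c : C0} : c ∈ centList x ↔ c * x = x * c := by
  simp [centList, mem_allEl]

theorem kd_eq_one (x : C0) : kd x = 1 ↔ x = z0 := by
  have h := forall_of_all (p := fun x => (kd x == 1) == (x == z0)) (by decide +kernel) x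
  have h' := eq_of_beq h
  constructor
  · intro e; simpa [e] using h'.symm
  · intro e; simpa [e] using h'

theorem kd_invol (x : C0) : (x * x = 1 ∧ x ≠ 1) ↔ (1 ≤ kd x ∧ kd x ≤ 4) := by
  have h := forall_of_all (p := fun x => decide ((x * x = 1 ∧ x ≠ 1) ↔ (1 ≤ kd x ∧ kd x ≤ 4)))
    (by decide +kernel) x
  exact of_decide_eq_true h

/-- representatives of the four classes of involutions -/
def invRep : ℕ → C0
  | 1 => z0
  | 2 => r0
  | 3 => a0
  | _ => b0

theorem exists_conj_rep (x : C0) (h1 : 1 ≤ kd x) (h4 : kd x ≤ 4) : ∃ c : C0, c * invRep (kd x) * c⁻¹ = x := by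
  have h := forall_of_all (p := fun x => !(decide (1 ≤ kd x ∧ kd x ≤ 4)) ||
    allEl.any fun c => c * invRep (kd x) * c⁻¹ == x) (by decide +kernel) x
  simp only [h1, h4, and_self, decide_true, Bool.not_true, Bool.false_or, List.any_eq_true] at h
  obtain ⟨c, -, hc⟩ := h
  exact ⟨c, eq_of_beq hc⟩

theorem commutator_b0 : ∃ x y : C0, x * b0 = b0 * x ∧ y * b0 = b0 * y ∧ x * y * x⁻¹ * y⁻¹ = z0 := by
  have h : (centList b0).any (fun x => (centList b0).any fun y => x * y * x⁻¹ * y⁻¹ == z0) = true := by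
    decide +kernel
  obtain ⟨x, hx, h2⟩ := List.any_eq_true.1 h
  obtain ⟨y, hy, h3⟩ := List.any_eq_true.1 h2
  exact ⟨x, y, mem_centList.1 hx, mem_centList.1 hy, eq_of_beq h3⟩

theorem cn_list (x : C0) : cn x = (centList x).length := by
  have hnd : allEl.Nodup := by decide +kernel
  rw [cn, ← List.toFinset_card_of_nodup (l := centList x) (hnd.filter _)]
  congr 1
  ext c
  simp [mem_centList]

theorem cn_b0 : cn b0 = 16 := by rw [cn_list]; decide +kernel

theorem cn_a0 : cn a0 = 32 := by rw [cn_list]; decide +kernel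

theorem no_flip_b {w : C0} (h2 : w * w = 1) (h1 : w ≠ 1) (hz : w ≠ z0) (hc : cn w = 16) {x y : C0}
    (hx : x * w = w * x) (hy : y * w = w * y) : x * y * x⁻¹ * y⁻¹ ≠ w := by
  rw [cn_list] at hc
  have h := forall_of_all (p := fun w => !(w * w == 1 && !(w == 1) && !(w == z0) && (centList w).length == 16) ||
    (centList w).all fun x => (centList w).all fun y => !(x * y * x⁻¹ * y⁻¹ == w)) (by decide +kernel) w
  simp [h2, h1, hz, hc] at h
  exact h x (mem_centList.2 hx) y (mem_centList.2 hy)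

theorem flip_a {w : C0} (h2 : w * w = 1) (h1 : w ≠ 1) (hz : w ≠ z0) (hc : cn w = 32) : kd w = 3 := by
  rw [cn_list] at hc
  have h := forall_of_all (p := fun w => !(w * w == 1 && !(w == 1) && !(w == z0) && (centList w).length == 32) ||
    kd w == 3) (by decide +kernel) w
  simpa [h2, h1, hz, hc] using h

theorem pair_r0 : ∃ c d : C0, c * r0 = r0 * c ∧ d * r0 = r0 * d ∧ c ≠ d ∧ (kd c = 3 ∨ kd c = 4) ∧
    (kd d = 3 ∨ kd d = 4) ∧ c * d = z0 := by
  have h : (centList r0).any (fun c => (centList r0).any fun d => !(c == d) && (kd c == 3 || kd c == 4) &&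
      (kd d == 3 || kd d == 4) && c * d == z0) = true := by decide +kernel
  obtain ⟨x, hx, h2⟩ := List.any_eq_true.1 h
  obtain ⟨y, hy, h3⟩ := List.any_eq_true.1 h2
  simp only [Bool.and_eq_true, Bool.or_eq_true, beq_iff_eq, Bool.not_eq_true', beq_eq_false_iff_ne] at h3
  exact ⟨x, y, mem_centList.1 hx, mem_centList.1 hy, h3.1.1.1, h3.1.1.2, h3.1.2, h3.2⟩

theorem no_flip_r {w : C0} (hw : kd w = 2) {c d : C0} (hc : c * w = w * c) (hd : d * w = w * d) (hne : c ≠ d)
    (hkc : kd c = 3 ∨ kd c = 4) (hkd : kd d = 3 ∨ kd d = 4) : c * d = z0 := by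
  have h := forall_of_all (p := fun w => !(kd w == 2) || (centList w).all fun c => (centList w).all fun d =>
    c == d || !((kd c == 3 || kd c == 4) && (kd d == 3 || kd d == 4)) || c * d == z0) (by decide +kernel) w
  simp only [hw, beq_self_eq_true, Bool.not_true, Bool.false_or, List.all_eq_true] at h
  have h3 := h c (mem_centList.2 hc) d (mem_centList.2 hd)
  rcases hkc with e | e <;> rcases hkd with e' | e' <;> simpa [e, e', hne] using h3

/-- the subgroup Q -/
def inQ (x : C0) : Bool := [0, 1, 3, 4, 6, 8].contains (kd x)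

/-- the Sylow subgroup containing the fixed outer involution -/
def inS (x : C0) : Bool := inQ x || inQ (r0 * x)

theorem inS_mul (x y : C0) (hx : inS x = true) (hy : inS y = true) :
    inS (x * y) = true ∧ (inQ x = true → inQ y = true → inQ (x * y) = true) ∧
      (inQ x = false → inQ y = false → inQ (x * y) = true) := by
  have h := forall_of_all (p := fun x => !(inS x) || allEl.all fun y => !(inS y) ||
    (inS (x * y) && ((inQ x == inQ y) == inQ (x * y)))) (by decide +kernel) x
  simp only [hx, Bool.not_true, Bool.false_or, List.all_eq_true] at h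
  have h2 := h y (mem_allEl y)
  simp only [hy, Bool.not_true, Bool.false_or, Bool.and_eq_true, beq_iff_eq] at h2
  refine ⟨h2.1, fun a b => ?_, fun a b => ?_⟩ <;> simpa [a, b] using h2.2.symm

theorem inS_inv (x : C0) (hx : inS x = true) : inS x⁻¹ = true ∧ inQ x⁻¹ = inQ x := by
  have h := forall_of_all (p := fun x => !(inS x) || (inS x⁻¹ && inQ x⁻¹ == inQ x)) (by decide +kernel) x
  simpa [hx] using h

/-- the Sylow subgroup of the model -/
def S0g : Subgroup C0 where
  carrier := {x | inS x = true}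
  one_mem' := by show inS 1 = true; decide +kernel
  mul_mem' := fun {x y} hx hy => (inS_mul x y hx hy).1
  inv_mem' := fun {x} hx => (inS_inv x hx).1

/-- the subgroup of index two -/
def Q0g : Subgroup C0 where
  carrier := {x | inQ x = true}
  one_mem' := by show inQ 1 = true; decide +kernel
  mul_mem' := fun {x y} hx hy => (inS_mul x y (by simp [inS, show inQ x = true from hx])
    (by simp [inS, show inQ y = true from hy])).2.1 hx hy
  inv_mem' := fun {x} hx => by
    show inQ x⁻¹ = true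
    rw [(inS_inv x (by simp [inS, show inQ x = true from hx])).2]; exact hx

theorem Q0g_le : Q0g ≤ S0g := fun x hx => by
  show inS x = true
  simp [inS, show inQ x = true from hx]

theorem card_S0g : Nat.card S0g = 64 := by
  have e : Nat.card S0g = (Finset.univ.filter fun x : C0 => inS x = true).card := by
    rw [← Fintype.card_subtype, ← Nat.card_eq_fintype_card]; rfl
  rw [e]
  have hnd : allEl.Nodup := by decide +kernel
  have : (Finset.univ.filter fun x : C0 => inS x = true) = (allEl.filter inS).toFinset := by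
    ext c; simp [mem_allEl]
  rw [this, List.toFinset_card_of_nodup (hnd.filter _)]
  decide +kernel

theorem S0g_center (x : C0) (h2 : x * x = 1) (hx : x ≠ 1) (hc : ∀ s ∈ S0g, x * s = s * x) : x = z0 := by
  have h := forall_of_all (p := fun x => !(x * x == 1 && !(x == 1)) || x == z0 ||
    allEl.any fun s => inS s && !(x * s == s * x)) (by decide +kernel) x
  simp only [h2, hx, beq_self_eq_true, beq_iff_eq, Bool.or_eq_true, List.any_eq_true, Bool.and_eq_true,
    Bool.not_eq_true', beq_eq_false_iff_ne] at h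
  rcases h with (h | h) | ⟨s, -, hs, hne⟩
  · simp [hx] at h
  · exact h
  · exact absurd (hc s hs) hne

theorem z0_central (c : C0) : c * z0 = z0 * c :=
  eq_of_beq (forall_of_all (p := fun c => c * z0 == z0 * c) (by decide +kernel) c)

theorem inQ_sq (c : C0) (hc : inQ c = true) : ∃ a b : C0, (a * a) * (b * b) = c := by
  have h := forall_of_all (p := fun c => !(inQ c) || allEl.any fun a => allEl.any fun b => a * a * (b * b) == c)
    (by decide +kernel) c
  simp only [hc, Bool.not_true, Bool.false_or, List.any_eq_true] at h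
  obtain ⟨a, -, b, -, h⟩ := h
  exact ⟨a, b, eq_of_beq h⟩

theorem cube_coset (c d : C0) :
    inQ (c * c * c) = true ∨ inQ (d * d * d) = true ∨ inQ (c⁻¹ * d * (c⁻¹ * d) * (c⁻¹ * d)) = true := by
  have h := forall_of_all (p := fun c => inQ (c * c * c) || allEl.all fun d => inQ (d * d * d) ||
    inQ (c⁻¹ * d * (c⁻¹ * d) * (c⁻¹ * d))) (by decide +kernel) c
  simp only [Bool.or_eq_true, List.all_eq_true] at h
  rcases h with h | h
  · exact Or.inl h
  · exact Or.inr (h d (mem_allEl d))

theorem cent_three_inQ {w c : C0} (hw : kd w = 3) (hc : c * w = w * c) (h3 : inQ (c * c * c) = true) :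
    inQ c = true := by
  have h := forall_of_all (p := fun w => !(kd w == 3) || (centList w).all fun c => !(inQ (c * c * c)) || inQ c)
    (by decide +kernel) w
  simp [hw] at h
  rcases h c (mem_centList.2 hc) with h | h
  · rw [h3] at h; exact absurd h (by decide)
  · exact h

theorem commutator_Q {x y : C0} (hx : inQ x = true) (hy : inQ y = true) :
    x * y * x⁻¹ * y⁻¹ = 1 ∨ x * y * x⁻¹ * y⁻¹ = z0 := by
  have h := forall_of_all (p := fun x => !(inQ x) || (allEl.filter inQ).all fun y =>
    x * y * x⁻¹ * y⁻¹ == 1 || x * y * x⁻¹ * y⁻¹ == z0) (by decide +kernel) x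
  simp [hx] at h
  rcases h y (mem_allEl y) with e | e
  · rw [hy] at e; exact absurd e (by decide)
  · exact e

theorem commutator_a0 : ∃ x y : C0, inQ x = true ∧ inQ y = true ∧ x * a0 = a0 * x ∧ y * a0 = a0 * y ∧
    x * y * x⁻¹ * y⁻¹ = z0 := by
  have h : ((centList a0).filter inQ).any (fun x => ((centList a0).filter inQ).any fun y =>
      x * y * x⁻¹ * y⁻¹ == z0) = true := by
    decide +kernel
  obtain ⟨x, hx, h2⟩ := List.any_eq_true.1 h
  obtain ⟨y, hy, h3⟩ := List.any_eq_true.1 h2
  rw [List.mem_filter] at hx hy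
  exact ⟨x, y, hx.2, hy.2, mem_centList.1 hx.1, mem_centList.1 hy.1, eq_of_beq h3⟩

/-- an involution with the centraliser of the model -/
structure Setup (G : Type*) [Group G] where
  /-- the involution -/
  z : G
  /-- the parametrisation of its centraliser -/
  ι : C0 →* G
  inj : Function.Injective ι
  range_eq : ι.range = Subgroup.centralizer ({z} : Set G)
  map_z : ι z0 = z

namespace Setup

variable {G : Type*} [Group G] (D : Setup G)

theorem z_sq : D.z * D.z = 1 := by
  rw [← D.map_z, ← map_mul, show z0 * z0 = (1 : C0) by decide +kernel, map_one]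

theorem z_ne : D.z ≠ 1 := fun h => by
  have : z0 = (1 : C0) := D.inj (by rw [D.map_z, h, map_one])
  exact absurd this (by decide +kernel)

theorem z_order : orderOf D.z = 2 := orderOf_eq_prime (by rw [sq]; exact D.z_sq) D.z_ne

theorem commute_z (c : C0) : D.ι c * D.z = D.z * D.ι c := by
  rw [← D.map_z, ← map_mul, ← map_mul, z0_central]

theorem exists_pre {g : G} (hg : g * D.z = D.z * g) : ∃ c, D.ι c = g := by
  have : g ∈ Subgroup.centralizer ({D.z} : Set G) := Subgroup.mem_centralizer_singleton_iff.2 hg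
  rwa [← D.range_eq] at this

/-- conjugate to the involution -/
def IsX (c : C0) : Prop := IsConj D.z (D.ι c)

theorem isX_conj (c d : C0) : D.IsX (d * c * d⁻¹) ↔ D.IsX c := by
  have h : IsConj (D.ι c) (D.ι (d * c * d⁻¹)) := isConj_iff.2 ⟨D.ι d, by simp⟩
  exact ⟨fun h' => h'.trans h.symm, fun h' => h'.trans h⟩

theorem isX_kd {c : C0} (h : D.IsX c) : 1 ≤ kd c ∧ kd c ≤ 4 := by
  refine (kd_invol c).1 ?_
  obtain ⟨g, hg⟩ := isConj_iff.1 h
  have h2 : orderOf (D.ι c) = 2 := by
    rw [← hg, ← MulAut.conj_apply, MulEquiv.orderOf_eq, D.z_order]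
  rw [orderOf_injective _ D.inj, orderOf_eq_prime_iff, sq] at h2
  exact h2

theorem isX_rep {c : C0} (h1 : 1 ≤ kd c) (h4 : kd c ≤ 4) : D.IsX c ↔ D.IsX (invRep (kd c)) := by
  obtain ⟨d, hd⟩ := exists_conj_rep c h1 h4
  conv_lhs => rw [← hd]
  exact D.isX_conj _ _

/-- Moving a conjugate of the involution to the involution. -/
theorem flip {x : C0} (h : D.IsX x) : ∃ (w : C0) (φ : C0 → C0), φ z0 = w ∧ φ x = z0 ∧ w * w = 1 ∧ w ≠ 1 ∧
    D.IsX w ∧ (∀ c, c * x = x * c → φ c * w = w * φ c ∧ IsConj (D.ι c) (D.ι (φ c))) ∧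
    (∀ c d, c * x = x * c → d * x = x * d → φ (c * d) = φ c * φ d) ∧
    (∀ c d, c * x = x * c → d * x = x * d → φ c = φ d → c = d) ∧
    (∀ d, d * w = w * d → ∃ c, c * x = x * c ∧ φ c = d) := by
  classical
  obtain ⟨g, hg⟩ := isConj_iff.1 h
  have hkey : ∀ c, c * x = x * c → ∃ d, D.ι d = g⁻¹ * D.ι c * g := fun c hc => D.exists_pre (by
    have e : D.ι c * D.ι x = D.ι x * D.ι c := by rw [← map_mul, hc, map_mul]
    rw [← hg] at e
    calc g⁻¹ * D.ι c * g * D.z = g⁻¹ * (D.ι c * (g * D.z * g⁻¹)) * g := by group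
      _ = g⁻¹ * (g * D.z * g⁻¹ * D.ι c) * g := by rw [e]
      _ = D.z * (g⁻¹ * D.ι c * g) := by group)
  let φ : C0 → C0 := fun c => if hc : c * x = x * c then (hkey c hc).choose else 1
  have hφ : ∀ c, c * x = x * c → D.ι (φ c) = g⁻¹ * D.ι c * g := fun c hc => by
    simp only [φ, dif_pos hc]
    exact (hkey c hc).choose_spec
  have hz : z0 * x = x * z0 := (z0_central x).symm
  refine ⟨φ z0, φ, rfl, D.inj ?_, D.inj ?_, fun e => ?_, ?_, fun c hc => ⟨D.inj ?_, isConj_iff.2 ⟨g⁻¹, ?_⟩⟩,
    fun c d hc hd => D.inj ?_, fun c d hc hd e => D.inj ?_, fun d hd => ?_⟩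
  · rw [hφ x rfl, ← hg, D.map_z]; group
  · rw [map_mul, hφ _ hz, map_one, D.map_z]
    calc g⁻¹ * D.z * g * (g⁻¹ * D.z * g) = g⁻¹ * (D.z * D.z) * g := by group
      _ = 1 := by rw [D.z_sq]; group
  · have := congrArg D.ι e
    rw [hφ _ hz, map_one, D.map_z] at this
    exact D.z_ne (by
      calc D.z = g * (g⁻¹ * D.z * g) * g⁻¹ := by group
        _ = 1 := by rw [this]; group)
  · refine isConj_iff.2 ⟨g⁻¹, ?_⟩
    rw [hφ _ hz, D.map_z, inv_inv]
  · rw [map_mul, map_mul, hφ c hc, hφ _ hz]
    have := congrArg (fun t => g⁻¹ * D.ι t * g) (z0_central c)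
    simp only [map_mul] at this
    simpa [mul_assoc] using this
  · rw [hφ c hc, inv_inv]
  · rw [map_mul, hφ c hc, hφ d hd, hφ _ (by rw [mul_assoc, hd, ← mul_assoc, hc, mul_assoc]), map_mul]
    group
  · have h2 := congrArg D.ι e
    rw [hφ c hc, hφ d hd] at h2
    exact mul_left_cancel (mul_right_cancel h2)
  · have hcm : g * D.ι d * g⁻¹ * D.z = D.z * (g * D.ι d * g⁻¹) := by
      have e : D.ι d * (g⁻¹ * D.z * g) = g⁻¹ * D.z * g * D.ι d := by
        rw [show g⁻¹ * D.z * g = D.ι (φ z0) by rw [hφ _ hz, D.map_z], ← map_mul, hd, map_mul]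
      calc g * D.ι d * g⁻¹ * D.z = g * (D.ι d * (g⁻¹ * D.z * g)) * g⁻¹ := by group
        _ = g * (g⁻¹ * D.z * g * D.ι d) * g⁻¹ := by rw [e]
        _ = D.z * (g * D.ι d * g⁻¹) := by group
    obtain ⟨c, hc⟩ := D.exists_pre hcm
    have hcx : c * x = x * c := D.inj (by
      rw [map_mul, map_mul, hc, ← hg]
      have e2 := D.commute_z d
      calc g * D.ι d * g⁻¹ * (g * D.z * g⁻¹) = g * (D.ι d * D.z) * g⁻¹ := by group
        _ = g * (D.z * D.ι d) * g⁻¹ := by rw [e2]
        _ = g * D.z * g⁻¹ * (g * D.ι d * g⁻¹) := by group)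
    refine ⟨c, hcx, D.inj ?_⟩
    rw [hφ c hcx, hc]; group

theorem flip_cn {x : C0} {w : C0} {φ : C0 → C0}
    (hm : ∀ c, c * x = x * c → φ c * w = w * φ c) (hi : ∀ c d, c * x = x * c → d * x = x * d → φ c = φ d → c = d)
    (hs : ∀ d, d * w = w * d → ∃ c, c * x = x * c ∧ φ c = d) : cn w = cn x := by
  refine (Finset.card_bij (fun c _ => φ c) (fun c hc => ?_) (fun c hc d hd e => ?_) fun d hd => ?_).symm
  · simp only [Finset.mem_filter, Finset.mem_univ, true_and] at hc ⊢
    exact hm c hc
  · simp only [Finset.mem_filter, Finset.mem_univ, true_and] at hc hd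
    exact hi c d hc hd e
  · simp only [Finset.mem_filter, Finset.mem_univ, true_and] at hd
    obtain ⟨c, hc, e⟩ := hs d hd
    exact ⟨c, by simp [hc], e⟩

theorem not_isX_b0 : ¬ D.IsX b0 := by
  intro h
  obtain ⟨w, φ, hz, hx, hw2, hw1, -, hm, hmul, hi, hs⟩ := D.flip h
  have hwz : w ≠ z0 := fun e => by
    have := hi z0 b0 (z0_central b0).symm rfl (by rw [hz, hx, e])
    exact absurd this (by decide +kernel)
  obtain ⟨x, y, hcx, hcy, he⟩ := commutator_b0
  refine no_flip_b hw2 hw1 hwz ((flip_cn (fun c hc => (hm c hc).1) hi hs).trans cn_b0) (hm x hcx).1 (hm y hcy).1 ?_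
  have hy' : y⁻¹ * b0 = b0 * y⁻¹ := (Commute.inv_left hcy).eq
  have hx' : x⁻¹ * b0 = b0 * x⁻¹ := (Commute.inv_left hcx).eq
  have hxy : x * y * b0 = b0 * (x * y) := (Commute.mul_left hcx hcy).eq
  have hxyx : x * y * x⁻¹ * b0 = b0 * (x * y * x⁻¹) := (Commute.mul_left hxy hx').eq
  have h1 : φ 1 = 1 := by
    have := hmul 1 1 (by simp) (by simp)
    rwa [one_mul, left_eq_mul] at this
  have hinv : ∀ c, c * b0 = b0 * c → φ c⁻¹ = (φ c)⁻¹ := fun c hc => by
    refine eq_inv_of_mul_eq_one_left ?_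
    rw [← hmul _ _ (Commute.inv_left hc).eq hc, inv_mul_cancel, h1]
  rw [← hinv x hcx, ← hinv y hcy, ← hmul x y hcx hcy, ← hmul _ _ hxy hx', ← hmul _ _ hxyx hy', he, hz]

variable [Finite G]

/-- a Sylow subgroup -/
theorem exists_sylow : ∃ P : Sylow 2 G, (P : Subgroup G) = S0g.map D.ι := by
  have hT : IsPGroup 2 (S0g.map D.ι) := IsPGroup.of_card (n := 6) (by
    rw [Subgroup.card_map_of_injective D.inj, card_S0g]; norm_num)
  obtain ⟨P, hP⟩ := hT.exists_le_sylow
  refine ⟨P, le_antisymm ?_ hP⟩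
  haveI : Nontrivial (P : Subgroup G) := by
    rw [Subgroup.nontrivial_iff_ne_bot]
    intro e
    have := hP (Subgroup.mem_map_of_mem D.ι (show z0 ∈ S0g from by show inS z0 = true; decide +kernel))
    rw [e, Subgroup.mem_bot, D.map_z] at this
    exact D.z_ne this
  haveI := P.2.center_nontrivial
  obtain ⟨n, hn⟩ := (P.2.to_subgroup (Subgroup.center (P : Subgroup G))).exists_card_eq
  have h2 : 2 ∣ Nat.card (Subgroup.center (P : Subgroup G)) := by
    rcases n with - | n
    · rw [pow_zero] at hn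
      exact absurd (Finite.one_lt_card (α := Subgroup.center (P : Subgroup G))) (by omega)
    · rw [hn]; exact dvd_pow_self 2 (by omega)
  obtain ⟨⟨⟨i, hiP⟩, hic⟩, hi⟩ := exists_prime_orderOf_dvd_card' 2 h2
  rw [Subgroup.orderOf_mk, Subgroup.orderOf_mk, orderOf_eq_prime_iff, sq] at hi
  have hcomm : ∀ p ∈ (P : Subgroup G), p * i = i * p := fun p hp =>
    congrArg Subtype.val (Subgroup.mem_center_iff.1 hic ⟨p, hp⟩)
  have hzi : i * D.z = D.z * i := by
    rw [← D.map_z]
    exact (hcomm _ (hP (Subgroup.mem_map_of_mem D.ι (show z0 ∈ S0g from by show inS z0 = true; decide +kernel)))).symm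
  obtain ⟨c, hc⟩ := D.exists_pre hzi
  have : c = z0 := S0g_center c (D.inj (by rw [map_mul, hc, hi.1, map_one])) (fun e => hi.2 (by rw [← hc, e, map_one]))
    fun s hs => D.inj (by rw [map_mul, map_mul, hc]; exact (hcomm _ (hP (Subgroup.mem_map_of_mem D.ι hs))).symm)
  rw [this, D.map_z] at hc
  intro p hp
  obtain ⟨d, hd⟩ := D.exists_pre (hc ▸ hcomm p hp)
  -- the preimage lies in a subgroup of two-power order containing the chosen one
  have hle : S0g ≤ (P : Subgroup G).comap D.ι := fun s hs => hP (Subgroup.mem_map_of_mem D.ι hs)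
  have h64 : Nat.card ((P : Subgroup G).comap D.ι) ≤ 64 := by
    have hp2 : IsPGroup 2 ((P : Subgroup G).comap D.ι) := P.2.comap_of_injective D.ι D.inj
    obtain ⟨k, hk⟩ := hp2.exists_card_eq
    have hdvd := Subgroup.card_subgroup_dvd_card ((P : Subgroup G).comap D.ι)
    rw [C0.card, hk] at hdvd
    rw [hk]
    have : k ≤ 6 := by
      by_contra hlt
      have h7 : 2 ^ 7 ∣ 192 := (pow_dvd_pow 2 (by omega)).trans hdvd
      norm_num at h7
    calc 2 ^ k ≤ 2 ^ 6 := Nat.pow_le_pow_right (by norm_num) this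
      _ = 64 := by norm_num
  rw [Subgroup.eq_of_le_of_card_ge hle (by rw [card_S0g]; exact h64), ← hd]
  exact Subgroup.mem_map_of_mem D.ι (show d ∈ (P : Subgroup G).comap D.ι by rw [Subgroup.mem_comap, hd]; exact hp)

theorem r0_fuse (hperf : ∀ H : Subgroup G, H.index ≠ 2) :
    ∃ c, inQ c = true ∧ kd c ≠ 2 ∧ 1 ≤ kd c ∧ kd c ≤ 4 ∧ IsConj (D.ι r0) (D.ι c) := by
  obtain ⟨P, hP⟩ := D.exists_sylow
  have hQP : Q0g.map D.ι ≤ (P : Subgroup G) := hP ▸ Subgroup.map_mono Q0g_le
  have hrel : (Q0g.map D.ι).relIndex (P : Subgroup G) = 2 := by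
    rw [hP, Subgroup.relIndex_map_map_of_injective _ _ D.inj]
    refine Subgroup.index_eq_two_iff.2 ⟨⟨r0, show inS r0 = true by decide +kernel⟩, fun x => ?_⟩
    have hx := x.2
    simp only [Subgroup.mem_subgroupOf, Subgroup.coe_mul]
    have h := forall_of_all (p := fun x => !(inS x) || xor (inQ (x * r0)) (inQ x)) (by decide +kernel) x.1
    simp [show inS x.1 = true from hx] at h
    simp only [show ∀ y : C0, y ∈ Q0g ↔ inQ y = true from fun _ => Iff.rfl]
    cases h1 : inQ x.1 <;> cases h2 : inQ (x.1 * r0) <;> simp_all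
  have hu : orderOf (D.ι r0) = 2 := by
    rw [orderOf_injective _ D.inj]
    exact orderOf_eq_prime (by rw [sq]; decide +kernel) (by decide +kernel)
  have huQ : D.ι r0 ∉ Q0g.map D.ι := fun h => by
    obtain ⟨c, hc, e⟩ := Subgroup.mem_map.1 h
    rw [D.inj e] at hc
    exact absurd (show inQ r0 = true from hc) (by decide +kernel)
  rcases S0111.result P (Q0g.map D.ι) hQP hrel (D.ι r0) hu
    (hP ▸ Subgroup.mem_map_of_mem D.ι (show r0 ∈ S0g from by show inS r0 = true; decide +kernel)) huQ with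
    ⟨M, -, hM, -⟩ | ⟨g, hg⟩
  · exact absurd hM (hperf M)
  obtain ⟨c, hc, e⟩ := Subgroup.mem_map.1 hg
  have h2 : orderOf (D.ι c) = 2 := by rw [e, ← MulAut.conj_apply, MulEquiv.orderOf_eq, hu]
  rw [orderOf_injective _ D.inj, orderOf_eq_prime_iff, sq] at h2
  obtain ⟨h1, h4⟩ := (kd_invol c).1 h2
  refine ⟨c, hc, fun e2 => ?_, h1, h4, isConj_iff.2 ⟨g, e.symm⟩⟩
  have := show inQ c = true from hc
  simp [inQ, e2] at this

/-- If a non-central involution of the core is conjugate to the central one, there is no subgroup of index two. -/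
theorem no_index_of_a0 (ha : D.IsX a0) (H : Subgroup G) : H.index ≠ 2 := by
  intro hi
  haveI := Subgroup.normal_of_index_eq_two hi
  have hsq : ∀ c : C0, D.ι (c * c) ∈ H := fun c => by
    rw [map_mul]
    exact H.mul_self_mem_of_index_two hi _
  have hQ : ∀ c, inQ c = true → D.ι c ∈ H := fun c hc => by
    obtain ⟨a, b, rfl⟩ := inQ_sq c hc
    rw [map_mul]
    exact mul_mem (hsq a) (hsq b)
  have hcube : ∀ c : C0, inQ (c * c * c) = true → D.ι c ∈ H := fun c hc => by
    have e : D.ι c = D.ι ((c * c) * (c * c)) * (D.ι (c * c * c))⁻¹ := by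
      simp only [map_mul]; group
    rw [e]
    exact mul_mem (by rw [map_mul]; exact mul_mem (hsq c) (hsq c)) (inv_mem (hQ _ hc))
  -- some element of the centraliser lies outside
  have hout : ∃ d, D.ι d ∉ H := by
    by_contra hall
    push Not at hall
    obtain ⟨P, hP⟩ := D.exists_sylow
    have hle : (P : Subgroup G) ≤ H := by
      rw [hP]
      rintro _ ⟨c, -, rfl⟩
      exact hall c
    haveI : Fact (Nat.Prime 2) := ⟨Nat.prime_two⟩
    have h2 := P.not_dvd_index
    have h3 := Subgroup.index_dvd_of_le hle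
    rw [hi] at h3
    exact h2 h3
  obtain ⟨d, hd⟩ := hout
  have hiff : ∀ c : C0, D.ι c ∈ H ↔ inQ (c * c * c) = true := fun c => by
    refine ⟨fun hc => ?_, hcube c⟩
    rcases cube_coset c d with h | h | h
    · exact h
    · exact absurd (hcube d h) hd
    · refine absurd ?_ hd
      have : D.ι d = D.ι c * D.ι (c⁻¹ * d) := by rw [← map_mul, mul_inv_cancel_left]
      rw [this]
      exact mul_mem hc (hcube _ h)
  obtain ⟨w, φ, hz, hx, hw2, hw1, -, hm, hmul, hij, hs⟩ := D.flip ha
  have hwz : w ≠ z0 := fun e => by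
    have := hij z0 a0 (z0_central a0).symm rfl (by rw [hz, hx, e])
    exact absurd this (by decide +kernel)
  have hw3 : kd w = 3 := flip_a hw2 hw1 hwz ((flip_cn (fun c hc => (hm c hc).1) hij hs).trans cn_a0)
  have hQφ : ∀ c, inQ c = true → c * a0 = a0 * c → inQ (φ c) = true := fun c hc hca => by
    obtain ⟨g, hg⟩ := isConj_iff.1 (hm c hca).2
    refine cent_three_inQ hw3 (hm c hca).1 ((hiff _).1 ?_)
    rw [← hg]
    exact Subgroup.Normal.conj_mem inferInstance _ (hQ c hc) g
  obtain ⟨x, y, hxQ, hyQ, hcx, hcy, he⟩ := commutator_a0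
  have h1 : φ 1 = 1 := by
    have := hmul 1 1 (by simp) (by simp)
    rwa [one_mul, left_eq_mul] at this
  have hinv : ∀ c, c * a0 = a0 * c → φ c⁻¹ = (φ c)⁻¹ := fun c hc => by
    refine eq_inv_of_mul_eq_one_left ?_
    rw [← hmul _ _ (Commute.inv_left hc).eq hc, inv_mul_cancel, h1]
  have hy' : y⁻¹ * a0 = a0 * y⁻¹ := (Commute.inv_left hcy).eq
  have hx' : x⁻¹ * a0 = a0 * x⁻¹ := (Commute.inv_left hcx).eq
  have hxy : x * y * a0 = a0 * (x * y) := (Commute.mul_left hcx hcy).eq
  have hxyx : x * y * x⁻¹ * a0 = a0 * (x * y * x⁻¹) := (Commute.mul_left hxy hx').eq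
  have hw : φ x * φ y * (φ x)⁻¹ * (φ y)⁻¹ = w := by
    rw [← hinv x hcx, ← hinv y hcy, ← hmul x y hcx hcy, ← hmul _ _ hxy hx', ← hmul _ _ hxyx hy', he, hz]
  rcases commutator_Q (hQφ x hxQ hcx) (hQφ y hyQ hcy) with e | e
  · exact hw1 (hw.symm.trans e)
  · exact hwz (hw.symm.trans e)

variable [IsSimpleGroup G]

theorem no_index_two (hG : ¬ IsMulCommutative G) (H : Subgroup G) : H.index ≠ 2 := fun h => by
  haveI := Subgroup.normal_of_index_eq_two h
  rcases IsSimpleGroup.eq_bot_or_eq_top_of_normal H inferInstance with e | e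
  · rw [e, Subgroup.index_bot] at h
    haveI : Fact (Nat.Prime 2) := ⟨Nat.prime_two⟩
    haveI := isCyclic_of_prime_card h
    exact hG ⟨⟨fun a b => IsCyclic.commGroup.mul_comm a b⟩⟩
  · rw [e, Subgroup.index_top] at h; omega

theorem isX_a0 (hG : ¬ IsMulCommutative G) : D.IsX a0 := by
  by_contra ha
  have hb := D.not_isX_b0
  have hX : ∀ {c}, D.IsX c → c = z0 ∨ kd c = 2 := fun {c} h => by
    obtain ⟨h1, h4⟩ := D.isX_kd h
    have h' := (D.isX_rep h1 h4).1 h
    interval_cases e : kd c
    · exact Or.inl ((kd_eq_one c).1 e)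
    · exact Or.inr rfl
    · exact absurd h' ha
    · exact absurd h' hb
  by_cases hr : D.IsX r0
  · obtain ⟨w, φ, hz, hx, hw2, hw1, hwX, hm, hmul, hi, hs⟩ := D.flip hr
    have hwz : w ≠ z0 := fun e => by
      have := hi z0 r0 (z0_central r0).symm rfl (by rw [hz, hx, e])
      exact absurd this (by decide +kernel)
    have hw : kd w = 2 := (hX hwX).resolve_left hwz
    obtain ⟨c, d, hc, hd, hne, hkc, hkd, hcd⟩ := pair_r0
    have hk : ∀ c, c * r0 = r0 * c → (kd c = 3 ∨ kd c = 4) → kd (φ c) = 3 ∨ kd (φ c) = 4 := fun c hc hkc => by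
      have hconj := (hm c hc).2
      have hi2 : φ c * φ c = 1 ∧ φ c ≠ 1 := by
        have h2 := (kd_invol c).2 (by omega)
        constructor
        · refine D.inj ?_
          obtain ⟨g, hg⟩ := isConj_iff.1 hconj
          have h3 : D.ι c * D.ι c = 1 := by rw [← map_mul, h2.1, map_one]
          rw [map_mul, map_one, ← hg]
          calc g * D.ι c * g⁻¹ * (g * D.ι c * g⁻¹) = g * (D.ι c * D.ι c) * g⁻¹ := by group
            _ = 1 := by rw [h3]; group
        · intro e
          rw [e, map_one, isConj_one_left] at hconj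
          exact h2.2 (D.inj (by rw [hconj, map_one]))
      obtain ⟨h1, h4⟩ := (kd_invol _).1 hi2
      have hnX : ¬ D.IsX c := fun h => by
        have := (D.isX_rep (by omega) (by omega)).1 h
        rcases hkc with e | e <;> rw [e] at this
        · exact ha this
        · exact hb this
      by_contra hne'
      refine hnX (IsConj.trans ((D.isX_rep h1 h4).2 ?_) hconj.symm)
      have : kd (φ c) = 1 ∨ kd (φ c) = 2 := by omega
      rcases this with e | e <;> rw [e]
      · show IsConj D.z (D.ι z0)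
        rw [D.map_z]
      · exact hr
    have := no_flip_r hw (hm c hc).1 (hm d hd).1 (fun e => hne (hi c d hc hd e)) (hk c hc hkc) (hk d hd hkd)
    rw [← hmul c d hc hd, hcd, hz] at this
    exact hwz this
  · -- the involution would be isolated
    have hiso : Cfsg.IsIsolatedInvolution D.z := by
      refine ⟨D.z_order, fun g hg => ?_⟩
      obtain ⟨c, hc⟩ := D.exists_pre hg.symm
      have hX' : D.IsX c := by rw [IsX, hc]; exact isConj_iff.2 ⟨g, rfl⟩
      rcases hX hX' with e | e
      · rw [← hc, e, D.map_z]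
      · exact absurd ((D.isX_rep (by omega) (by omega)).1 hX') (by rw [e]; exact hr)
    have hO : Cfsg.oddCore G = ⊥ := by
      rcases IsSimpleGroup.eq_bot_or_eq_top_of_normal (Cfsg.oddCore G) inferInstance with h | h
      · exact h
      · exfalso
        have hodd := Cfsg.Agent.Char.card_oddCore_odd G
        rw [h, Subgroup.card_top] at hodd
        have h2 : 2 ∣ Nat.card G := by rw [← D.z_order]; exact orderOf_dvd_natCard D.z
        exact Nat.not_even_iff_odd.2 hodd (even_iff_two_dvd.2 h2)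
    have hcen : D.z ∈ Subgroup.center G := Subgroup.mem_center_iff.2 fun g =>
      (Cfsg.Agent.Char.zStar_central ⟨D.z_sq, D.z_ne, Cfsg.Agent.Fusion.isolated_odd hiso⟩ hO g).symm
    rcases IsSimpleGroup.eq_bot_or_eq_top_of_normal (Subgroup.center G) inferInstance with h | h
    · exact D.z_ne (Subgroup.mem_bot.1 (h ▸ hcen))
    · exact hG ⟨⟨fun a b => (Subgroup.mem_center_iff.1 (h ▸ Subgroup.mem_top a) b).symm⟩⟩

end Setup

end Cfsg.Agent.MTwelve
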