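import Cfsg.Agent.Lib.Spor.MTwelve.CentT

/-!
The centraliser of the second class of involutions as a direct product with a symmetric group.
-/

set_option autoImplicit false
set_option linter.style.haveILetI false
set_option linter.unusedSectionVars false

namespace Cfsg.Agent.MTwelve

open C0

/-- the target of the retraction -/
abbrev Two := Multiplicative (ZMod 2)

/-- the generator -/
def gen2 : Two := Multiplicative.ofAdd 1

/-- the retraction on the centraliser of the fixed involution -/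
def theta0 (w : C0) : Two := if ∃ a, w = dh a then 1 else gen2

theorem theta0_mul (v w : C0) (hv : v * b0 = b0 * v) (hw : w * b0 = b0 * w) :
    theta0 (v * w) = theta0 v * theta0 w := by
  have h := forall_of_all (p := fun v => !(v * b0 == b0 * v) ||
    (centList b0).all fun w => theta0 (v * w) == theta0 v * theta0 w) (by decide +kernel) v
  simp [hv] at h
  exact h w (mem_centList.2 hw)

theorem w_pairs : ∀ c ∈ ([z0, el 24, el 25, el 37, el 40] : List C0), c * b0 = b0 * c ∧ c * c = 1 ∧ c ≠ 1 ∧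
    c ≠ b0 ∧ ∀ d ∈ ([z0, el 24, el 25, el 37, el 40] : List C0), (d = c ∨ d = c * b0) → d = c := by decide +kernel

/-- conjugate permutations move equally many points -/
theorem isDbl_conj {n : ℕ} {v : Equiv.Perm (Fin n)} (h : IsDbl v) (g : Equiv.Perm (Fin n)) :
    IsDbl (g * v * g⁻¹) := by
  refine ⟨?_, ?_⟩
  · calc g * v * g⁻¹ * (g * v * g⁻¹) = g * (v * v) * g⁻¹ := by group
      _ = 1 := by rw [h.1]; group
  · rw [← h.2]
    refine (Finset.card_bij (fun i _ => g i) (fun i hi => ?_) (fun i _ j _ e => g.injective e) fun j hj => ?_).symm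
    · rw [Finset.mem_filter] at hi ⊢
      refine ⟨Finset.mem_univ _, fun e => hi.2 (g.injective ?_)⟩
      simpa using e
    · rw [Finset.mem_filter] at hj
      refine ⟨g.symm j, ?_, Equiv.apply_symm_apply g j⟩
      rw [Finset.mem_filter]
      refine ⟨Finset.mem_univ _, fun e => hj.2 ?_⟩
      show g (v (g.symm j)) = j
      rw [e, Equiv.apply_symm_apply]

namespace Setup

variable {G : Type*} [Group G] (D : Setup G) [Finite G] (hG : D.IsX a0)
include hG

omit hG in
theorem card_N : Nat.card (Subgroup.zpowers D.t') = 2 := by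
  rw [Nat.card_zpowers]
  exact orderOf_eq_prime (by rw [sq]; exact D.t'_sq) fun e => by
    have h2 := D.t_order
    rw [show D.t = 1 from congrArg Subtype.val e, orderOf_one] at h2
    omega

omit hG in
theorem card_Ct_eq {n : ℕ} (ψ : (D.Ct ⧸ Subgroup.zpowers D.t') ≃* Equiv.Perm (Fin n)) :
    Nat.card D.Ct = n.factorial * 2 := by
  rw [Subgroup.card_eq_card_quotient_mul_card_subgroup (Subgroup.zpowers D.t'), D.card_N, Nat.card_congr ψ.toEquiv,
    Nat.card_perm, Nat.card_fin]

/-- The direct product decomposition, and the first class inside it. -/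
theorem model {n : ℕ} (hn : n = 4 ∨ n = 5)
    (fd : ∀ v : Equiv.Perm (Fin n), v * v = 1 → v ≠ 1 →
      (Finset.univ.filter fun g => g * v = v * g).card = 8 → IsDbl v)
    (fc : ∀ v : Equiv.Perm (Fin n), IsDbl v → ∀ w : Equiv.Perm (Fin n), IsDbl w → ∃ g, g * v * g⁻¹ = w)
    (fn : ∀ v : Equiv.Perm (Fin n), IsDbl v → ∀ w : Equiv.Perm (Fin n), w * w = 1 →
      ∃ g, g * w * g⁻¹ * v = v * (g * w * g⁻¹))
    (ft : ∀ v : Equiv.Perm (Fin n), IsDbl v →
      (Finset.univ.filter fun w : Equiv.Perm (Fin n) => w * w = 1 ∧ w ≠ 1 ∧ ¬ IsDbl w ∧ w * v = v * w).card ≤ 2)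
    (ψ : (D.Ct ⧸ Subgroup.zpowers D.t') ≃* Equiv.Perm (Fin n)) :
    ∃ Φ : D.Ct ≃* Two × Equiv.Perm (Fin n), Φ D.t' = (gen2, 1) ∧
      ∀ y : D.Ct, IsConj D.z (y : G) ↔ ((Φ y).1 = 1 ∧ IsDbl (Φ y).2) := by
  classical
  -- the retraction
  let Wg : Subgroup C0 := Subgroup.centralizer ({b0} : Set C0)
  have hWg : ∀ w : Wg, (w : C0) * b0 = b0 * w := fun w => Subgroup.mem_centralizer_singleton_iff.1 w.2
  let κ : Wg →* D.Ct :=
    { toFun := fun w => ⟨D.ι w, D.iota_mem_Ct (hWg w)⟩
      map_one' := Subtype.ext (map_one D.ι)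
      map_mul' := fun a b => Subtype.ext (map_mul D.ι (a : C0) b) }
  have hκ : Function.Injective κ := fun a b e => Subtype.ext (D.inj (congrArg Subtype.val e))
  let θW : Wg →* Two :=
    { toFun := fun w => theta0 w
      map_one' := by show theta0 1 = 1; decide +kernel
      map_mul' := fun a b => theta0_mul _ _ (hWg a) (hWg b) }
  let j : Two →* D.Ct :=
    { toFun := fun a => if a = 1 then 1 else D.t'
      map_one' := if_pos rfl
      map_mul' := fun a b => by
        have hc : ∀ a : Two, a = 1 ∨ a = gen2 := by decide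
        have h1 : gen2 ≠ 1 := by decide
        have h2 : gen2 * gen2 = 1 := by decide
        rcases hc a with rfl | rfl <;> rcases hc b with rfl | rfl <;> simp [h1, h2, D.t'_sq] }
  have hjg : j gen2 = D.t' := by
    show (if gen2 = 1 then 1 else D.t') = D.t'
    exact if_neg (show gen2 ≠ 1 by decide)
  have hj : ∀ a e, j a * e = e * j a := fun a e => by
    show (if a = 1 then 1 else D.t') * e = e * (if a = 1 then 1 else D.t')
    split
    · rw [one_mul, mul_one]
    · exact D.t'_comm e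
  have hb : b0 ∈ Wg := Subgroup.mem_centralizer_singleton_iff.2 rfl
  have hjS : ∀ a, j a ∈ κ.range := fun a => by
    show (if a = 1 then 1 else D.t') ∈ κ.range
    split
    · exact one_mem _
    · exact ⟨⟨b0, hb⟩, rfl⟩
  have hθ : ∀ a, (θW.comp (MonoidHom.ofInjective hκ).symm.toMonoidHom) ⟨j a, hjS a⟩ = a := fun a => by
    have hc : ∀ a : Two, a = 1 ∨ a = gen2 := by decide
    show θW ((MonoidHom.ofInjective hκ).symm ⟨j a, hjS a⟩) = a
    rcases hc a with rfl | rfl
    · rw [show (⟨j 1, hjS 1⟩ : κ.range) = 1 from Subtype.ext (map_one j), map_one, map_one]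
    · have : (MonoidHom.ofInjective hκ).symm ⟨j gen2, hjS gen2⟩ = ⟨b0, hb⟩ := by
        rw [MulEquiv.symm_apply_eq]
        exact Subtype.ext hjg
      rw [this]
      show theta0 b0 = gen2
      decide +kernel
  have hcard := D.card_Ct_eq ψ
  have h16 : Nat.card κ.range = 16 := by
    rw [← Nat.card_congr (MonoidHom.ofInjective hκ).toEquiv, ← cn_b0, cn, ← Fintype.card_subtype,
      ← Nat.card_eq_fintype_card]
    exact Nat.card_congr (Equiv.subtypeEquivRight fun c => Subgroup.mem_centralizer_singleton_iff)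
  have hcop : (Nat.card Two).Coprime κ.range.index := by
    have h := κ.range.card_mul_index
    rw [h16, hcard] at h
    rw [show Nat.card Two = 2 by simp [Nat.card_eq_fintype_card]]
    rcases hn with rfl | rfl <;> simp only [Nat.factorial] at h
    · rw [show κ.range.index = 3 by omega]; decide
    · rw [show κ.range.index = 15 by omega]; decide
  obtain ⟨φ, hφ⟩ := Fusion.exists_retraction j hj κ.range hjS _ hθ hcop
  have hφt : φ D.t' = gen2 := by rw [← hjg, hφ]
  -- the isomorphism
  let π : D.Ct →* Equiv.Perm (Fin n) := ψ.toMonoidHom.comp (QuotientGroup.mk' _)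
  have hπ : ∀ y, π y = 1 ↔ y = 1 ∨ y = D.t' := fun y => by
    show ψ (QuotientGroup.mk y) = 1 ↔ _
    rw [MulEquiv.map_eq_one_iff, QuotientGroup.eq_one_iff, D.mem_N]
  have hinj : Function.Injective (φ.prod π) := (injective_iff_map_eq_one _).2 fun y hy => by
    rcases (hπ y).1 (congrArg Prod.snd hy) with e | e
    · exact e
    · have h1 : φ y = 1 := congrArg Prod.fst hy
      rw [e, hφt] at h1
      exact absurd h1 (by decide)
  have hbij : Function.Bijective (φ.prod π) := hinj.bijective_of_nat_card_le (by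
    rw [hcard, Nat.card_prod, Nat.card_perm, Nat.card_fin, show Nat.card Two = 2 by simp [Nat.card_eq_fintype_card],
      Nat.mul_comm])
  refine ⟨MulEquiv.ofBijective (φ.prod π) hbij, Prod.ext hφt ((hπ _).2 (Or.inr rfl)), fun y => ?_⟩
  show IsConj D.z (y : G) ↔ (φ y = 1 ∧ IsDbl (π y))
  -- the image of the first involution is a double transposition
  have hz : z0 ∈ Wg := Subgroup.mem_centralizer_singleton_iff.2 (z0_central b0).symm
  have hinvol : ∀ (c : Wg), (c : C0) ∈ ([z0, el 24, el 25, el 37, el 40] : List C0) →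
      π (κ c) * π (κ c) = 1 ∧ π (κ c) ≠ 1 := fun c hc => by
    obtain ⟨-, h2, h1, hne, -⟩ := w_pairs _ hc
    constructor
    · rw [← map_mul, ← map_mul, show c * c = 1 from Subtype.ext h2, map_one, map_one]
    · rw [Ne, hπ]
      rintro (e | e)
      · exact h1 (D.inj ((congrArg Subtype.val e).trans (map_one D.ι).symm))
      · exact hne (D.inj (congrArg Subtype.val e))
  have hsep : ∀ c d : Wg, (c : C0) ∈ ([z0, el 24, el 25, el 37, el 40] : List C0) →
      (d : C0) ∈ ([z0, el 24, el 25, el 37, el 40] : List C0) → π (κ c) = π (κ d) → (d : C0) = c := fun c d hc hd e => by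
    have e' := ψ.injective e
    rw [QuotientGroup.mk'_apply, QuotientGroup.mk'_apply, D.mk_eq] at e'
    refine (w_pairs _ hc).2.2.2.2 _ hd ?_
    rcases e' with e' | e'
    · exact Or.inl (D.inj (congrArg Subtype.val e'))
    · right; exact D.inj (by rw [map_mul]; exact congrArg Subtype.val e')
  set v0 := π (κ ⟨z0, hz⟩) with hv0
  have h8 : (Finset.univ.filter fun g => g * v0 = v0 * g).card = 8 := by
    rw [← Fintype.card_subtype, ← Nat.card_eq_fintype_card]
    have e1 : Nat.card (Subgroup.centralizer ({D.im z0 (z0_central b0).symm} : Set (D.Ct ⧸ Subgroup.zpowers D.t'))) = 8 := by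
      rw [← Nat.card_congr (D.dihedralEquiv hG).toEquiv, DihedralGroup.nat_card]
    rw [← e1]
    refine (Nat.card_congr (ψ.toEquiv.subtypeEquiv fun q => ?_)).symm
    show q ∈ Subgroup.centralizer _ ↔ ψ q * v0 = v0 * ψ q
    rw [Subgroup.mem_centralizer_singleton_iff, ← ψ.injective.eq_iff, map_mul, map_mul]
    rfl
  have hv0d : IsDbl v0 := fd v0 (hinvol ⟨z0, hz⟩ (by simp)).1 (hinvol ⟨z0, hz⟩ (by simp)).2 h8
  -- lifting a conjugation to the centraliser of the first involution
  have lift : ∀ (x : D.Ct) (g : Equiv.Perm (Fin n)), g * π x * g⁻¹ = v0 →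
      ∃ h : D.Ct, (h * x * h⁻¹ = κ ⟨z0, hz⟩ ∨ h * x * h⁻¹ = κ ⟨z0, hz⟩ * D.t') := fun x g hg => by
    obtain ⟨q, rfl⟩ := ψ.surjective g
    obtain ⟨h, rfl⟩ := QuotientGroup.mk_surjective q
    refine ⟨h, ?_⟩
    have : π (h * x * h⁻¹) = v0 := by rw [map_mul, map_mul, map_inv]; exact hg
    have e' := ψ.injective this.symm
    rw [QuotientGroup.mk'_apply, QuotientGroup.mk'_apply, D.mk_eq] at e'
    exact e'
  have hztX : ∀ x : D.Ct, x = κ ⟨z0, hz⟩ * D.t' → ¬ IsConj D.z (x : G) := fun x e h => by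
    refine D.not_isX_4 (c := z0 * b0) (by decide +kernel) ?_
    rw [IsX, map_mul]
    rw [e] at h
    exact h
  have hX1 : ∀ (x : D.Ct), IsConj D.z (x : G) → (∃ g, g * π x * g⁻¹ = v0) → φ x = φ (κ ⟨z0, hz⟩) := by
    rintro x hx ⟨g, hg⟩
    obtain ⟨h, e | e⟩ := lift x g hg
    · rw [← e, map_mul, map_mul, map_inv, mul_inv_cancel_comm]
    · exact absurd (hx.trans (isConj_iff.2 ⟨(h : G), congrArg Subtype.val e⟩ : IsConj (x : G) _))
        (hztX _ rfl)
  have hpure : ∀ (p : Wg), (p : C0) ∈ ([z0, el 24, el 25, el 37, el 40] : List C0) →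
      kd (p : C0) = 4 → kd ((p : C0) * b0) = 4 → ¬ IsDbl (π (κ p)) := fun p _ h4 h4' hd => by
    obtain ⟨g, hg⟩ := fc _ hd v0 hv0d
    obtain ⟨h, e | e⟩ := lift (κ p) g hg
    · refine D.not_isX_4 h4 (isConj_iff.2 ⟨((h : G))⁻¹, ?_⟩)
      have e' : (h : G) * D.ι p * (h : G)⁻¹ = D.ι z0 := congrArg Subtype.val e
      rw [← D.map_z, ← e']; group
    · refine D.not_isX_4 h4' (isConj_iff.2 ⟨((h : G))⁻¹, ?_⟩)
      have e' : (h : G) * D.ι p * (h : G)⁻¹ = D.ι z0 * D.t := congrArg Subtype.val e
      have ht : (h : G) * D.t * (h : G)⁻¹ = D.t := by rw [D.mem_Ct.1 h.2]; group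
      calc (h : G)⁻¹ * D.z * ((h : G)⁻¹)⁻¹ = (h : G)⁻¹ * (D.ι z0 * D.t * D.t) * (h : G) := by
            rw [D.map_z, mul_assoc D.z, t, ← map_mul, b0_sq, map_one]; group
        _ = (h : G)⁻¹ * ((h : G) * D.ι p * (h : G)⁻¹ * ((h : G) * D.t * (h : G)⁻¹)) * (h : G) := by rw [e', ht]
        _ = D.ι (p * b0) := by rw [map_mul, t]; group
  have hw24 : el 24 ∈ Wg := Subgroup.mem_centralizer_singleton_iff.2 (by decide +kernel)
  have hw25 : el 25 ∈ Wg := Subgroup.mem_centralizer_singleton_iff.2 (by decide +kernel)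
  have hw37 : el 37 ∈ Wg := Subgroup.mem_centralizer_singleton_iff.2 (by decide +kernel)
  have hw40 : el 40 ∈ Wg := Subgroup.mem_centralizer_singleton_iff.2 (by decide +kernel)
  have hcomm0 : ∀ c : Wg, π (κ c) * v0 = v0 * π (κ c) := fun c => by
    rw [hv0, ← map_mul, ← map_mul, ← map_mul, ← map_mul]
    exact congrArg π (congrArg κ (Subtype.ext (z0_central c)))
  have hthree : ∀ (c : Wg), (c : C0) ∈ ([z0, el 24, el 25] : List C0) → IsDbl (π (κ c)) := by
    intro c hc
    by_contra hd
    have hcl : (c : C0) ∈ ([z0, el 24, el 25, el 37, el 40] : List C0) := by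
      simp only [List.mem_cons, List.not_mem_nil, or_false] at hc ⊢
      tauto
    have hsub : ({π (κ c), π (κ ⟨el 37, hw37⟩), π (κ ⟨el 40, hw40⟩)} : Finset (Equiv.Perm (Fin n))) ⊆
        Finset.univ.filter fun w : Equiv.Perm (Fin n) => w * w = 1 ∧ w ≠ 1 ∧ ¬ IsDbl w ∧ w * v0 = v0 * w := by
      intro w hw
      simp only [Finset.mem_insert, Finset.mem_singleton] at hw
      rw [Finset.mem_filter]
      rcases hw with rfl | rfl | rfl
      · exact ⟨Finset.mem_univ _, (hinvol c hcl).1, (hinvol c hcl).2, hd, hcomm0 c⟩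
      · exact ⟨Finset.mem_univ _, (hinvol _ (by simp)).1, (hinvol _ (by simp)).2,
          hpure ⟨el 37, hw37⟩ (by simp) (show kd (el 37) = 4 by decide +kernel)
            (show kd (el 37 * b0) = 4 by decide +kernel), hcomm0 _⟩
      · exact ⟨Finset.mem_univ _, (hinvol _ (by simp)).1, (hinvol _ (by simp)).2,
          hpure ⟨el 40, hw40⟩ (by simp) (show kd (el 40) = 4 by decide +kernel)
            (show kd (el 40 * b0) = 4 by decide +kernel), hcomm0 _⟩
    have h3 : ({π (κ c), π (κ ⟨el 37, hw37⟩), π (κ ⟨el 40, hw40⟩)} : Finset (Equiv.Perm (Fin n))).card = 3 := by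
      have k1 : π (κ c) ≠ π (κ ⟨el 37, hw37⟩) := fun e => by
        have := hsep c _ hcl (by simp) e
        simp only [List.mem_cons, List.not_mem_nil, or_false] at hc
        rcases hc with h | h | h <;> rw [h] at this
        · exact absurd this (show el 37 ≠ z0 by decide +kernel)
        · exact absurd this (show el 37 ≠ el 24 by decide +kernel)
        · exact absurd this (show el 37 ≠ el 25 by decide +kernel)
      have k2 : π (κ c) ≠ π (κ ⟨el 40, hw40⟩) := fun e => by
        have := hsep c _ hcl (by simp) e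
        simp only [List.mem_cons, List.not_mem_nil, or_false] at hc
        rcases hc with h | h | h <;> rw [h] at this
        · exact absurd this (show el 40 ≠ z0 by decide +kernel)
        · exact absurd this (show el 40 ≠ el 24 by decide +kernel)
        · exact absurd this (show el 40 ≠ el 25 by decide +kernel)
      have k3 : π (κ ⟨el 37, hw37⟩) ≠ π (κ ⟨el 40, hw40⟩) := fun e =>
        absurd (hsep _ _ (by simp) (by simp) e) (show el 40 ≠ el 37 by decide +kernel)
      simp [Finset.card_insert_of_notMem, k1, k2, k3]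
    have := (Finset.card_le_card hsub).trans (ft v0 hv0d)
    omega
  have hXW : ∀ c : Wg, IsConj D.z (D.ι (c : C0)) → IsDbl (π (κ c)) := fun c hc => hthree c (by
    have := (D.isX_w hG (hWg c)).1 hc
    simp only [List.mem_cons, List.not_mem_nil, or_false]
    exact this)
  have hone : φ (κ ⟨z0, hz⟩) = 1 := by
    have e24 := hX1 (κ ⟨el 24, hw24⟩) ((D.isX_w hG (hWg ⟨el 24, hw24⟩)).2 (by simp))
      (fc _ (hthree ⟨el 24, hw24⟩ (by simp)) v0 hv0d)
    have e25 := hX1 (κ ⟨el 25, hw25⟩) ((D.isX_w hG (hWg ⟨el 25, hw25⟩)).2 (by simp))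
      (fc _ (hthree ⟨el 25, hw25⟩ (by simp)) v0 hv0d)
    have hm : (⟨el 24, hw24⟩ : Wg) * ⟨z0, hz⟩ = ⟨el 25, hw25⟩ := Subtype.ext (show el 24 * z0 = el 25 by decide +kernel)
    rw [← hm, map_mul, map_mul, e24] at e25
    exact left_eq_mul.1 e25.symm
  constructor
  · intro hy
    have hy2 : y * y = 1 ∧ (y : G) ≠ 1 := by
      obtain ⟨g, hg⟩ := isConj_iff.1 hy
      refine ⟨Subtype.ext ?_, fun e => ?_⟩
      · show (y : G) * y = 1
        rw [← hg]
        calc g * D.z * g⁻¹ * (g * D.z * g⁻¹) = g * (D.z * D.z) * g⁻¹ := by group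
          _ = 1 := by rw [D.z_sq]; group
      · rw [e, isConj_one_left] at hy; exact D.z_ne hy
    have hπy : π y * π y = 1 := by rw [← map_mul, hy2.1, map_one]
    obtain ⟨g, hg⟩ := fn v0 hv0d _ hπy
    obtain ⟨q, rfl⟩ := ψ.surjective g
    obtain ⟨h, rfl⟩ := QuotientGroup.mk_surjective q
    have he : π (h * y * h⁻¹) * v0 = v0 * π (h * y * h⁻¹) := by
      rw [map_mul π, map_mul π, map_inv π]; exact hg
    rw [hv0, ← map_mul π, ← map_mul π] at he
    obtain ⟨w, hw, hwy⟩ := D.cent_zbar hG (h := h * y * h⁻¹) (by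
      rw [im, ← QuotientGroup.mk_mul, ← QuotientGroup.mk_mul]
      exact ψ.injective he)
    have hwX : IsConj D.z (D.ι w) := by
      rw [hwy]
      exact hy.trans (isConj_iff.2 ⟨(h : G), rfl⟩)
    have hd : IsDbl (π y) := by
      have := isDbl_conj (hXW ⟨w, Subgroup.mem_centralizer_singleton_iff.2 hw⟩ hwX) (π h)⁻¹
      rw [show κ ⟨w, Subgroup.mem_centralizer_singleton_iff.2 hw⟩ = h * y * h⁻¹ from Subtype.ext hwy] at this
      rw [map_mul, map_mul, map_inv, inv_inv] at this
      simpa [mul_assoc] using this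
    exact ⟨(hX1 y hy (fc _ hd v0 hv0d)).trans hone, hd⟩
  · rintro ⟨h1, hd⟩
    obtain ⟨g, hg⟩ := fc _ hd v0 hv0d
    obtain ⟨h, e | e⟩ := lift y g hg
    · refine isConj_iff.2 ⟨(h : G)⁻¹, ?_⟩
      have e' : (h : G) * y * (h : G)⁻¹ = D.ι z0 := congrArg Subtype.val e
      rw [← D.map_z, ← e']; group
    · have := congrArg φ e
      rw [map_mul, map_mul, map_mul, map_inv, h1, mul_one, mul_inv_cancel, hone, hφt] at this
      exact absurd this (by decide)

end Setup

end Cfsg.Agent.MTwelve
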