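import Mathlib

/-!
Small finite facts on symmetric groups and on the groups of order 168 and 360.
-/

set_option autoImplicit false
set_option maxRecDepth 100000
set_option maxHeartbeats 4000000
set_option Elab.async false

namespace Cfsg.Agent.MTwelve

open Equiv

/-- double transposition -/
def IsDbl {n : ℕ} (v : Perm (Fin n)) : Prop := v * v = 1 ∧ (Finset.univ.filter fun i => v i ≠ i).card = 4

instance {n : ℕ} : DecidablePred (IsDbl (n := n)) := fun v => by unfold IsDbl; infer_instance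

theorem dbl_of_cent4 : ∀ v : Perm (Fin 4), v * v = 1 → v ≠ 1 →
    (Finset.univ.filter fun g => g * v = v * g).card = 8 → IsDbl v := by decide +kernel

theorem dbl_of_cent5 : ∀ v : Perm (Fin 5), v * v = 1 → v ≠ 1 →
    (Finset.univ.filter fun g => g * v = v * g).card = 8 → IsDbl v := by
  have h : ∀ v : Perm (Fin 5), v * v = 1 → v ≠ 1 → ¬ IsDbl v →
      (Finset.univ.filter fun g => g * v = v * g).card ≠ 8 := by decide +kernel
  exact fun v h2 h1 hc => by_contra fun hn => h v h2 h1 hn hc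

/-- a fixed double transposition -/
def dblBase {n : ℕ} (h : 4 ≤ n) : Perm (Fin n) :=
  swap ⟨0, by omega⟩ ⟨1, by omega⟩ * swap ⟨2, by omega⟩ ⟨3, by omega⟩

theorem dbl_conj_of_base {n : ℕ} (b : Perm (Fin n))
    (h : ∀ v : Perm (Fin n), IsDbl v → ∃ g, g * b * g⁻¹ = v) :
    ∀ v : Perm (Fin n), IsDbl v → ∀ w : Perm (Fin n), IsDbl w → ∃ g, g * v * g⁻¹ = w := fun v hv w hw => by
  obtain ⟨g, rfl⟩ := h v hv
  obtain ⟨k, rfl⟩ := h w hw
  exact ⟨k * g⁻¹, by group⟩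

theorem dbl_near_of_base {n : ℕ} (b : Perm (Fin n))
    (h : ∀ v : Perm (Fin n), IsDbl v → ∃ g, g * b * g⁻¹ = v)
    (hb : ∀ w : Perm (Fin n), w * w = 1 → ∃ g, g * w * g⁻¹ * b = b * (g * w * g⁻¹)) :
    ∀ v : Perm (Fin n), IsDbl v → ∀ w : Perm (Fin n), w * w = 1 →
      ∃ g, g * w * g⁻¹ * v = v * (g * w * g⁻¹) := fun v hv w hw => by
  obtain ⟨k, rfl⟩ := h v hv
  obtain ⟨g, hg⟩ := hb w hw
  refine ⟨k * g, ?_⟩
  calc k * g * w * (k * g)⁻¹ * (k * b * k⁻¹) = k * (g * w * g⁻¹ * b) * k⁻¹ := by group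
    _ = k * (b * (g * w * g⁻¹)) * k⁻¹ := by rw [hg]
    _ = k * b * k⁻¹ * (k * g * w * (k * g)⁻¹) := by group

theorem dbl_base4 : ∀ v : Perm (Fin 4), IsDbl v → ∃ g, g * dblBase (le_refl 4) * g⁻¹ = v := by decide +kernel

theorem dbl_base5 : ∀ v : Perm (Fin 5), IsDbl v → ∃ g, g * dblBase (Nat.le_succ 4) * g⁻¹ = v := by decide +kernel

theorem dbl_conj4 : ∀ v : Perm (Fin 4), IsDbl v → ∀ w : Perm (Fin 4), IsDbl w → ∃ g, g * v * g⁻¹ = w :=
  dbl_conj_of_base _ dbl_base4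

theorem dbl_conj5 : ∀ v : Perm (Fin 5), IsDbl v → ∀ w : Perm (Fin 5), IsDbl w → ∃ g, g * v * g⁻¹ = w :=
  dbl_conj_of_base _ dbl_base5

theorem dbl_near4 : ∀ v : Perm (Fin 4), IsDbl v → ∀ w : Perm (Fin 4), w * w = 1 →
    ∃ g, g * w * g⁻¹ * v = v * (g * w * g⁻¹) :=
  dbl_near_of_base _ dbl_base4 (by decide +kernel)

theorem dbl_near5 : ∀ v : Perm (Fin 5), IsDbl v → ∀ w : Perm (Fin 5), w * w = 1 →
    ∃ g, g * w * g⁻¹ * v = v * (g * w * g⁻¹) :=
  dbl_near_of_base _ dbl_base5 (by decide +kernel)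

theorem two_flips4 : ∀ v : Perm (Fin 4), IsDbl v →
    (Finset.univ.filter fun w : Perm (Fin 4) => w * w = 1 ∧ w ≠ 1 ∧ ¬ IsDbl w ∧ w * v = v * w).card ≤ 2 := by
  decide +kernel

theorem two_flips5 : ∀ v : Perm (Fin 5), IsDbl v →
    (Finset.univ.filter fun w : Perm (Fin 5) => w * w = 1 ∧ w ≠ 1 ∧ ¬ IsDbl w ∧ w * v = v * w).card ≤ 2 := by
  decide +kernel

theorem cycle_alt6 (v : alternatingGroup (Fin 6)) (hv : v * v = 1) (hv1 : v ≠ 1) :
    (v : Perm (Fin 6)).cycleType = Multiset.replicate 2 2 := by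
  have h2 : orderOf (v : Perm (Fin 6)) = 2 :=
    orderOf_eq_prime (by rw [sq]; exact congrArg Subtype.val hv) fun h => hv1 (Subtype.ext h)
  obtain ⟨m, hm⟩ := Perm.cycleType_prime_order (σ := (v : Perm (Fin 6))) (by rw [h2]; exact Nat.prime_two)
  rw [h2] at hm
  have hs : Perm.sign (v : Perm (Fin 6)) = 1 := Perm.mem_alternatingGroup.1 v.2
  have hle : (v : Perm (Fin 6)).cycleType.sum ≤ 6 := by
    rw [Perm.sum_cycleType]; exact (Finset.card_le_univ _).trans_eq (Fintype.card_fin 6)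
  rw [Perm.sign_of_cycleType, hm] at hs
  rw [hm] at hle ⊢
  simp only [Multiset.sum_replicate, smul_eq_mul, Multiset.card_replicate] at hle hs
  have hm3 : m < 3 := by omega
  interval_cases m
  · exact absurd hs (by decide)
  · rfl
  · exact absurd hs (by decide)

theorem conj_alt6 : ∀ v : alternatingGroup (Fin 6), v * v = 1 → v ≠ 1 →
    ∀ w : alternatingGroup (Fin 6), w * w = 1 → w ≠ 1 → IsConj v w := by
  intro v hv hv1 w hw hw1
  refine alternatingGroup.isConj_of ?_ ?_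
  · exact Perm.isConj_iff_cycleType_eq.2 ((cycle_alt6 v hv hv1).trans (cycle_alt6 w hw hw1).symm)
  · rw [← Perm.sum_cycleType, cycle_alt6 v hv hv1, Fintype.card_fin]
    decide

end Cfsg.Agent.MTwelve
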