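import Mathlib

/-!
Involutions of the linear group of order 168 are conjugate.
-/

set_option autoImplicit false
set_option maxRecDepth 100000
set_option maxHeartbeats 4000000

namespace Cfsg.Agent.MTwelve

/-- a transvection -/
def transv : Matrix.SpecialLinearGroup (Fin 3) (ZMod 2) :=
  ⟨!![1, 1, 0; 0, 1, 0; 0, 0, 1], by decide +kernel⟩

theorem conj_sl3 : ∀ v : Matrix.SpecialLinearGroup (Fin 3) (ZMod 2), v * v = 1 → v ≠ 1 →
    ∀ w : Matrix.SpecialLinearGroup (Fin 3) (ZMod 2), w * w = 1 → w ≠ 1 → IsConj v w := by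
  have h : ∀ v : Matrix.SpecialLinearGroup (Fin 3) (ZMod 2), v * v = 1 → v ≠ 1 →
      ∃ g : Matrix.SpecialLinearGroup (Fin 3) (ZMod 2),
        g * v * g⁻¹ = transv := by decide +kernel
  intro v hv hv1 w hw hw1
  obtain ⟨g, hg⟩ := h v hv hv1
  obtain ⟨k, hk⟩ := h w hw hw1
  exact (isConj_iff.2 ⟨g, hg⟩).trans (isConj_iff.2 ⟨k, hk⟩).symm

end Cfsg.Agent.MTwelve
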