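import Cfsg.Agent.Lib.Spor.MTwelve.Fusion
import Cfsg.Agent.Lib.Spor.MTwelve.SmallFacts
import Cfsg.Agent.Lib.Spor.MTwelve.SmallLinear
import Cfsg.Agent.Lib.Fusion.TransferSplit
import Cfsg.Agent.S3035

/-!
The centraliser of the second class of involutions.
-/

set_option autoImplicit false
set_option linter.style.haveILetI false
set_option linter.unusedSectionVars false

namespace Cfsg.Agent.MTwelve

open C0

/-- generators of a dihedral complement in the centraliser of the fixed involution -/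
def rho : C0 := el 78

/-- the reflection -/
def refl : C0 := el 24

/-- the dihedral complement, as a map -/
def dh : DihedralGroup 4 → C0
  | .r i => rho ^ i.val
  | .sr i => refl * rho ^ i.val

theorem dh_mul : ∀ a b : DihedralGroup 4, dh (a * b) = dh a * dh b := by decide +kernel

theorem dh_ne : ∀ a : DihedralGroup 4, dh a * b0 ≠ 1 ∧ (dh a = 1 → a = 1) := by decide +kernel

theorem dh_comm : ∀ a : DihedralGroup 4, dh a * b0 = b0 * dh a := by decide +kernel

theorem dh_cover (w : C0) (hw : w * b0 = b0 * w) : ∃ a, w = dh a ∨ w = dh a * b0 := by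
  have h := forall_of_all (p := fun w => !(w * b0 == b0 * w) ||
    decide (∃ a, w = dh a ∨ w = dh a * b0)) (by decide +kernel) w
  simpa [hw] using h

theorem b0_sq : b0 * b0 = (1 : C0) := by decide +kernel

theorem w_kd (w : C0) (hw : w * b0 = b0 * w) : kd w ≠ 2 ∧ ((kd w = 1 ∨ kd w = 3) ↔
    (w = z0 ∨ w = el 24 ∨ w = el 25)) := by
  have h := forall_of_all (p := fun w => !(w * b0 == b0 * w) || decide (kd w ≠ 2 ∧ ((kd w = 1 ∨ kd w = 3) ↔
    (w = z0 ∨ w = el 24 ∨ w = el 25)))) (by decide +kernel) w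
  rw [hw] at h
  simp only [beq_self_eq_true, Bool.not_true, Bool.false_or] at h
  exact of_decide_eq_true h

theorem small_cent (w c : C0) (hw : kd w = 2 ∨ kd w = 4) (hc : c * w = w * c) : c ^ 8 = 1 := by
  have h := forall_of_all (p := fun w => !(kd w == 2 || kd w == 4) ||
    (centList w).all fun c => c ^ 8 == 1) (by decide +kernel) w
  rcases hw with e | e <;> simp [e] at h <;> exact h c (mem_centList.2 hc)

namespace Setup

variable {G : Type*} [Group G] (D : Setup G)

/-- the second involution -/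
def t : G := D.ι b0

theorem t_order : orderOf D.t = 2 := by
  rw [t, orderOf_injective _ D.inj]
  exact orderOf_eq_prime (by rw [sq, b0_sq]) (by decide +kernel)

/-- its centraliser -/
def Ct : Subgroup G := Subgroup.centralizer ({D.t} : Set G)

theorem mem_Ct {g : G} : g ∈ D.Ct ↔ g * D.t = D.t * g := Subgroup.mem_centralizer_singleton_iff

theorem iota_mem_Ct {c : C0} (hc : c * b0 = b0 * c) : D.ι c ∈ D.Ct :=
  D.mem_Ct.2 (by rw [t, ← map_mul, hc, map_mul])

/-- the involution as an element of its centraliser -/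
def t' : D.Ct := ⟨D.t, D.mem_Ct.2 rfl⟩

theorem t'_sq : D.t' * D.t' = 1 := Subtype.ext (by
  show D.ι b0 * D.ι b0 = 1
  rw [← map_mul, b0_sq, map_one])

theorem t'_comm (g : D.Ct) : D.t' * g = g * D.t' := Subtype.ext (D.mem_Ct.1 g.2).symm

instance : (Subgroup.zpowers D.t').Normal :=
  ⟨fun x hx g => by
    obtain ⟨k, rfl⟩ := Subgroup.mem_zpowers_iff.1 hx
    have : g * D.t' ^ k = D.t' ^ k * g := ((Commute.zpow_left (D.t'_comm g) k).eq).symm
    rw [this, mul_inv_cancel_right]
    exact hx⟩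

theorem mem_N {g : D.Ct} : g ∈ Subgroup.zpowers D.t' ↔ g = 1 ∨ g = D.t' := by
  constructor
  · intro h
    obtain ⟨k, rfl⟩ := Subgroup.mem_zpowers_iff.1 h
    rcases Int.even_or_odd k with ⟨j, rfl⟩ | ⟨j, rfl⟩
    · left; rw [← two_mul, zpow_mul, zpow_two, D.t'_sq, one_zpow]
    · right; rw [zpow_add, zpow_mul, zpow_two, D.t'_sq, one_zpow, one_mul, zpow_one]
  · rintro (rfl | rfl)
    · exact one_mem _
    · exact Subgroup.mem_zpowers _

theorem mk_eq {g h : D.Ct} : (QuotientGroup.mk g : D.Ct ⧸ Subgroup.zpowers D.t') = QuotientGroup.mk h ↔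
    h = g ∨ h = g * D.t' := by
  rw [QuotientGroup.eq, D.mem_N]
  constructor
  · rintro (e | e)
    · left; rw [inv_mul_eq_one] at e; exact e.symm
    · right; rw [← e, mul_inv_cancel_left]
  · rintro (e | e) <;> rw [e]
    · left; rw [inv_mul_cancel]
    · right; rw [inv_mul_cancel_left]

/-- the image in the quotient -/
def im (c : C0) (hc : c * b0 = b0 * c) : D.Ct ⧸ Subgroup.zpowers D.t' :=
  QuotientGroup.mk ⟨D.ι c, D.iota_mem_Ct hc⟩

variable [Finite G] (hG : D.IsX a0)

include hG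

theorem isX_13 {c : C0} (h : kd c = 1 ∨ kd c = 3) : D.IsX c := by
  refine (D.isX_rep (by omega) (by omega)).2 ?_
  rcases h with e | e <;> rw [e]
  · show IsConj D.z (D.ι z0)
    rw [D.map_z]
  · exact hG

omit hG in
theorem not_isX_4 {c : C0} (h : kd c = 4) : ¬ D.IsX c := fun hc => D.not_isX_b0 (by
  have := (D.isX_rep (by omega) (by omega)).1 hc
  rwa [h] at this)

theorem isX_w {w : C0} (hw : w * b0 = b0 * w) : D.IsX w ↔ (w = z0 ∨ w = el 24 ∨ w = el 25) := by
  obtain ⟨h2, h13⟩ := w_kd w hw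
  rw [← h13]
  refine ⟨fun h => ?_, fun h => D.isX_13 hG h⟩
  obtain ⟨h1, h4⟩ := D.isX_kd h
  have : kd w ≠ 4 := fun e => D.not_isX_4 e h
  omega

/-- an element of the centraliser of the second involution fixing one of the three first-class involutions
modulo the second is a two-element -/
theorem two_element {x : C0} (hx : x * b0 = b0 * x) (hX : D.IsX x) (hxb : kd (x * b0) = 4) {h : D.Ct}
    (he : (QuotientGroup.mk h : D.Ct ⧸ Subgroup.zpowers D.t') * D.im x hx = D.im x hx * QuotientGroup.mk h) :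
    (h : G) * D.ι x = D.ι x * h ∧ h ^ 8 = 1 := by
  rw [im, ← QuotientGroup.mk_mul, ← QuotientGroup.mk_mul, D.mk_eq] at he
  have hcomm : (h : G) * D.ι x = D.ι x * h := by
    rcases he with e | e
    · exact (congrArg Subtype.val e).symm
    · exfalso
      have e' : D.ι x * (h : G) = (h : G) * D.ι x * D.t := congrArg Subtype.val e
      refine D.not_isX_4 hxb (IsConj.trans hX (isConj_iff.2 ⟨(h : G)⁻¹, ?_⟩))
      rw [inv_inv, mul_assoc, e', map_mul, t]
      group
  refine ⟨hcomm, Subtype.ext ?_⟩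
  obtain ⟨g, hg⟩ := isConj_iff.1 hX
  have hz : ∀ y : G, y * D.ι x = D.ι x * y → g⁻¹ * y * g * D.z = D.z * (g⁻¹ * y * g) := fun y hy => by
    rw [← hg] at hy
    calc g⁻¹ * y * g * D.z = g⁻¹ * (y * (g * D.z * g⁻¹)) * g := by group
      _ = g⁻¹ * (g * D.z * g⁻¹ * y) * g := by rw [hy]
      _ = D.z * (g⁻¹ * y * g) := by group
  obtain ⟨c, hc⟩ := D.exists_pre (hz _ hcomm)
  obtain ⟨w, hw⟩ := D.exists_pre (hz D.t (by rw [t, ← map_mul, ← map_mul, hx]))
  have hcw : c * w = w * c := D.inj (by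
    rw [map_mul, map_mul, hc, hw]
    calc g⁻¹ * (h : G) * g * (g⁻¹ * D.t * g) = g⁻¹ * ((h : G) * D.t) * g := by group
      _ = g⁻¹ * (D.t * (h : G)) * g := by rw [D.mem_Ct.1 h.2]
      _ = g⁻¹ * D.t * g * (g⁻¹ * (h : G) * g) := by group)
  have hwt : IsConj D.t (D.ι w) := isConj_iff.2 ⟨g⁻¹, by rw [hw, inv_inv]⟩
  have hwk : kd w = 2 ∨ kd w = 4 := by
    have hnX : ¬ D.IsX w := fun h => D.not_isX_b0 (h.trans hwt.symm)
    have hi : w * w = 1 ∧ w ≠ 1 := by
      constructor
      · refine D.inj ?_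
        rw [map_mul, hw, map_one]
        calc g⁻¹ * D.t * g * (g⁻¹ * D.t * g) = g⁻¹ * (D.t * D.t) * g := by group
          _ = 1 := by rw [t, ← map_mul, b0_sq, map_one]; group
      · intro e
        rw [e, map_one, isConj_one_left] at hwt
        have := D.t_order
        rw [hwt, orderOf_one] at this
        omega
    obtain ⟨h1, h4⟩ := (kd_invol w).1 hi
    have : ¬ (kd w = 1 ∨ kd w = 3) := fun e => hnX (D.isX_13 hG e)
    omega
  have h8 := small_cent w c hwk hcw
  have := congrArg D.ι h8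
  rw [map_pow, map_one, hc] at this
  show (h : G) ^ 8 = 1
  calc (h : G) ^ 8 = g * (g⁻¹ * (h : G) * g) ^ 8 * g⁻¹ := by
        rw [show g⁻¹ * (h : G) * g = MulAut.conj g⁻¹ (h : G) by simp, ← map_pow]; simp [mul_assoc]
    _ = 1 := by rw [this]; group

theorem cent_zbar {h : D.Ct} (he : (QuotientGroup.mk h : D.Ct ⧸ Subgroup.zpowers D.t') *
    D.im z0 (z0_central b0).symm = D.im z0 (z0_central b0).symm * QuotientGroup.mk h) :
    ∃ w, w * b0 = b0 * w ∧ D.ι w = (h : G) := by
  have := (D.two_element hG (z0_central b0).symm (D.isX_13 hG (Or.inl ((kd_eq_one _).2 rfl)))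
    (by decide +kernel) he).1
  rw [D.map_z] at this
  obtain ⟨w, hw⟩ := D.exists_pre this
  refine ⟨w, D.inj ?_, hw⟩
  rw [map_mul, map_mul, hw]
  exact D.mem_Ct.1 h.2

/-- the dihedral group mapped onto the centraliser of the image of the involution -/
noncomputable def dihedralEquiv :
    DihedralGroup 4 ≃* Subgroup.centralizer ({D.im z0 (z0_central b0).symm} : Set (D.Ct ⧸ Subgroup.zpowers D.t')) :=
  MulEquiv.ofBijective
    ({ toFun := fun a => ⟨D.im (dh a) (dh_comm a), Subgroup.mem_centralizer_singleton_iff.2 (by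
          rw [im, im, ← QuotientGroup.mk_mul, ← QuotientGroup.mk_mul]
          exact congrArg QuotientGroup.mk (Subtype.ext (show D.ι (dh a) * D.ι z0 = D.ι z0 * D.ι (dh a) by
            rw [← map_mul, ← map_mul, z0_central])))⟩
       map_one' := Subtype.ext (show D.im (dh 1) (dh_comm 1) = 1 from by
          rw [im, QuotientGroup.eq_one_iff, D.mem_N]
          exact Or.inl (Subtype.ext (show D.ι (dh 1) = 1 by
            rw [show dh 1 = (1 : C0) from by decide +kernel, map_one])))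
       map_mul' := fun a b => Subtype.ext (show D.im (dh (a * b)) (dh_comm _) =
          D.im (dh a) (dh_comm a) * D.im (dh b) (dh_comm b) from by
            rw [im, im, im, ← QuotientGroup.mk_mul]
            exact congrArg QuotientGroup.mk (Subtype.ext (show D.ι (dh (a * b)) = D.ι (dh a) * D.ι (dh b) by
              rw [dh_mul, map_mul]))) } :
      DihedralGroup 4 →* Subgroup.centralizer ({D.im z0 (z0_central b0).symm} : Set (D.Ct ⧸ Subgroup.zpowers D.t')))
    ⟨(injective_iff_map_eq_one _).2 fun a ha => by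
      have h1 : D.im (dh a) (dh_comm a) = 1 := congrArg Subtype.val ha
      rw [im, QuotientGroup.eq_one_iff, D.mem_N] at h1
      rcases h1 with e | e
      · exact (dh_ne a).2 (D.inj (by rw [map_one]; exact congrArg Subtype.val e))
      · exfalso
        refine (dh_ne a).1 (D.inj ?_)
        rw [map_mul, map_one]
        have := congrArg Subtype.val e
        change D.ι (dh a) = D.ι b0 at this
        rw [this, ← map_mul, b0_sq, map_one],
    fun y => by
      obtain ⟨h, hh⟩ := QuotientGroup.mk_surjective (y : D.Ct ⧸ Subgroup.zpowers D.t')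
      obtain ⟨w, hw, hwh⟩ := D.cent_zbar hG (h := h) (by
        rw [hh]; exact Subgroup.mem_centralizer_singleton_iff.1 y.2)
      obtain ⟨a, ha⟩ := dh_cover w hw
      refine ⟨a, Subtype.ext ?_⟩
      show D.im (dh a) (dh_comm a) = y
      rw [← hh, im, D.mk_eq]
      rcases ha with e | e
      · left; exact Subtype.ext (show (h : G) = D.ι (dh a) by rw [← hwh, e])
      · right; exact Subtype.ext (show (h : G) = D.ι (dh a) * D.t by rw [← hwh, e, map_mul]; rfl)⟩

theorem oddCore_ct : Cfsg.oddCore (D.Ct ⧸ Subgroup.zpowers D.t') = ⊥ := by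
  rw [eq_bot_iff]
  intro o ho
  rw [Subgroup.mem_bot]
  haveI hn : (Cfsg.oddCore (D.Ct ⧸ Subgroup.zpowers D.t')).Normal := Solv.pPrimeCore_normal 2
  set O := Cfsg.oddCore (D.Ct ⧸ Subgroup.zpowers D.t') with hO
  have hodd : Odd (Nat.card O) := Cfsg.Agent.Char.card_oddCore_odd _
  have key : ∀ (x : C0) (hx : x * b0 = b0 * x), D.IsX x → kd (x * b0) = 4 →
      ∀ p ∈ O, p * D.im x hx = D.im x hx * p → p = 1 := by
    intro x hx hX hk p hp he
    obtain ⟨h, rfl⟩ := QuotientGroup.mk_surjective p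
    have h8 := (D.two_element hG hx hX hk he).2
    have h1 : orderOf (QuotientGroup.mk h : D.Ct ⧸ Subgroup.zpowers D.t') ∣ 8 := orderOf_dvd_of_pow_eq_one (by
      rw [← QuotientGroup.mk_pow, h8, QuotientGroup.mk_one])
    have h2 : orderOf (QuotientGroup.mk h : D.Ct ⧸ Subgroup.zpowers D.t') ∣ Nat.card O := by
      rw [← Subgroup.orderOf_mk _ hp]; exact orderOf_dvd_natCard _
    have h3 : Nat.Coprime (2 ^ 3) (Nat.card O) := Nat.Coprime.pow_left _ (by
      rw [Nat.coprime_two_left]; exact hodd)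
    exact orderOf_eq_one_iff.1 (Nat.eq_one_of_dvd_coprimes h3 h1 h2)
  have inv : ∀ (x : C0) (hx : x * b0 = b0 * x), x * x = 1 → D.IsX x → kd (x * b0) = 4 →
      ∀ p ∈ O, D.im x hx * p * D.im x hx = p⁻¹ := by
    intro x hx hxx hX hk p hp
    set v := D.im x hx with hv
    have hvv : v * v = 1 := by
      rw [hv, im, ← QuotientGroup.mk_mul, ← QuotientGroup.mk_one]
      exact congrArg QuotientGroup.mk (Subtype.ext (show D.ι x * D.ι x = 1 by rw [← map_mul, hxx, map_one]))
    have hvi : v⁻¹ = v := inv_eq_of_mul_eq_one_left hvv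
    have hmem : ∀ q ∈ O, v * q * v ∈ O := fun q hq => by
      have := hn.conj_mem q hq v
      rwa [hvi] at this
    let f : O → O := fun q => ⟨(q : D.Ct ⧸ Subgroup.zpowers D.t')⁻¹ * (v * q * v), O.mul_mem (O.inv_mem q.2) (hmem q q.2)⟩
    have hf : Function.Injective f := fun q q' e => by
      have e' : (q : D.Ct ⧸ Subgroup.zpowers D.t')⁻¹ * (v * q * v) = (q' : D.Ct ⧸ Subgroup.zpowers D.t')⁻¹ * (v * q' * v) :=
        congrArg Subtype.val e
      refine Subtype.ext (mul_inv_eq_one.1 (key x hx hX hk _ (O.mul_mem q.2 (O.inv_mem q'.2)) ?_))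
      have e2 : (q' : D.Ct ⧸ Subgroup.zpowers D.t') * (q : D.Ct ⧸ Subgroup.zpowers D.t')⁻¹ * v =
          v * ((q' : D.Ct ⧸ Subgroup.zpowers D.t') * (q : D.Ct ⧸ Subgroup.zpowers D.t')⁻¹) := by
        calc (q' : D.Ct ⧸ Subgroup.zpowers D.t') * (q : D.Ct ⧸ Subgroup.zpowers D.t')⁻¹ * v
            = (q' : D.Ct ⧸ Subgroup.zpowers D.t') * ((q : D.Ct ⧸ Subgroup.zpowers D.t')⁻¹ * (v * q * v)) * (v⁻¹ * (q : D.Ct ⧸ Subgroup.zpowers D.t')⁻¹) := by
              group
          _ = v * ((q' : D.Ct ⧸ Subgroup.zpowers D.t') * (q : D.Ct ⧸ Subgroup.zpowers D.t')⁻¹) := by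
              rw [e']
              calc _ = v * (q' : D.Ct ⧸ Subgroup.zpowers D.t') * (v * v⁻¹) * (q : D.Ct ⧸ Subgroup.zpowers D.t')⁻¹ := by group
                _ = _ := by group
      calc (q : D.Ct ⧸ Subgroup.zpowers D.t') * (q' : D.Ct ⧸ Subgroup.zpowers D.t')⁻¹ * v
          = (q : D.Ct ⧸ Subgroup.zpowers D.t') * (q' : D.Ct ⧸ Subgroup.zpowers D.t')⁻¹ *
              (v * ((q' : D.Ct ⧸ Subgroup.zpowers D.t') * (q : D.Ct ⧸ Subgroup.zpowers D.t')⁻¹)) *
              ((q : D.Ct ⧸ Subgroup.zpowers D.t') * (q' : D.Ct ⧸ Subgroup.zpowers D.t')⁻¹) := by group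
        _ = (q : D.Ct ⧸ Subgroup.zpowers D.t') * (q' : D.Ct ⧸ Subgroup.zpowers D.t')⁻¹ *
              ((q' : D.Ct ⧸ Subgroup.zpowers D.t') * (q : D.Ct ⧸ Subgroup.zpowers D.t')⁻¹ * v) *
              ((q : D.Ct ⧸ Subgroup.zpowers D.t') * (q' : D.Ct ⧸ Subgroup.zpowers D.t')⁻¹) := by rw [e2]
        _ = v * ((q : D.Ct ⧸ Subgroup.zpowers D.t') * (q' : D.Ct ⧸ Subgroup.zpowers D.t')⁻¹) := by group
    obtain ⟨q, hq⟩ := (Finite.injective_iff_surjective.1 hf) ⟨p, hp⟩
    have e : (q : D.Ct ⧸ Subgroup.zpowers D.t')⁻¹ * (v * q * v) = p := congrArg Subtype.val hq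
    rw [← e]
    calc v * ((q : D.Ct ⧸ Subgroup.zpowers D.t')⁻¹ * (v * q * v)) * v
        = v⁻¹ * (q : D.Ct ⧸ Subgroup.zpowers D.t')⁻¹ * v * q * (v * v) := by rw [hvi]; group
      _ = v⁻¹ * (q : D.Ct ⧸ Subgroup.zpowers D.t')⁻¹ * v * q := by rw [hvv, mul_one]
      _ = ((q : D.Ct ⧸ Subgroup.zpowers D.t')⁻¹ * (v⁻¹ * q * v))⁻¹ := by group
      _ = ((q : D.Ct ⧸ Subgroup.zpowers D.t')⁻¹ * (v * q * v))⁻¹ := by rw [hvi]
  have hz : z0 * b0 = b0 * z0 := (z0_central b0).symm
  have h24 : el 24 * b0 = b0 * el 24 := by decide +kernel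
  have h25 : el 25 * b0 = b0 * el 25 := by decide +kernel
  refine key (el 25) h25 ((D.isX_w hG h25).2 (by simp)) (by decide +kernel) o ho ?_
  have e1 := inv z0 hz (by decide +kernel) ((D.isX_w hG hz).2 (by simp)) (by decide +kernel) o ho
  have e2 := inv (el 24) h24 (by decide +kernel) ((D.isX_w hG h24).2 (by simp)) (by decide +kernel) _ (O.inv_mem ho)
  rw [inv_inv, ← e1] at e2
  have e3 : D.im (el 25) h25 = D.im (el 24) h24 * D.im z0 hz := by
    rw [im, im, im, ← QuotientGroup.mk_mul]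
    exact congrArg QuotientGroup.mk (Subtype.ext (show D.ι (el 25) = D.ι (el 24) * D.ι z0 by
      rw [← map_mul, show el 24 * z0 = el 25 from by decide +kernel]))
  have e4 : D.im z0 hz * D.im (el 24) h24 = D.im (el 25) h25 := by
    rw [im, im, im, ← QuotientGroup.mk_mul]
    exact congrArg QuotientGroup.mk (Subtype.ext (show D.ι z0 * D.ι (el 24) = D.ι (el 25) by
      rw [← map_mul, show z0 * el 24 = el 25 from by decide +kernel]))
  have e5 : D.im (el 25) h25 * D.im (el 25) h25 = 1 := by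
    rw [im, ← QuotientGroup.mk_mul, ← QuotientGroup.mk_one]
    exact congrArg QuotientGroup.mk (Subtype.ext (show D.ι (el 25) * D.ι (el 25) = 1 by
      rw [← map_mul, show el 25 * el 25 = (1 : C0) from by decide +kernel, map_one]))
  have e6 : D.im (el 25) h25 * o * D.im (el 25) h25 = o := by
    calc D.im (el 25) h25 * o * D.im (el 25) h25
        = D.im (el 24) h24 * (D.im z0 hz * o * D.im z0 hz) * D.im (el 24) h24 := by
          conv_lhs => arg 2; rw [← e4]
          rw [e3]; group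
      _ = o := e2
  calc o * D.im (el 25) h25 = D.im (el 25) h25 * o * (D.im (el 25) h25 * D.im (el 25) h25) := by
        conv_lhs => rw [← e6]
        group
    _ = D.im (el 25) h25 * o := by rw [e5, mul_one]

theorem ct_cases : (∀ h ∈ D.Ct, ∃ w, w * b0 = b0 * w ∧ D.ι w = h) ∨
    (∃ ψ : (D.Ct ⧸ Subgroup.zpowers D.t') ≃* Equiv.Perm (Fin 4), True) ∨
    (∃ ψ : (D.Ct ⧸ Subgroup.zpowers D.t') ≃* Equiv.Perm (Fin 5), True) := by
  have hord : orderOf (D.im z0 (z0_central b0).symm) = 2 := by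
    refine orderOf_eq_prime ?_ ?_
    · rw [sq, im, ← QuotientGroup.mk_mul, ← QuotientGroup.mk_one]
      exact congrArg QuotientGroup.mk (Subtype.ext (show D.ι z0 * D.ι z0 = 1 by rw [D.map_z, D.z_sq]))
    · rw [im, Ne, QuotientGroup.eq_one_iff, D.mem_N]
      rintro (e | e)
      · exact absurd (D.inj (congrArg Subtype.val e |>.trans (map_one D.ι).symm)) (by decide +kernel)
      · exact absurd (D.inj (congrArg Subtype.val e)) (by decide +kernel)
  rcases S3035.result _ hord ⟨(D.dihedralEquiv hG).symm⟩ with h | ⟨⟨ψ⟩⟩ | ⟨⟨ψ⟩⟩ | ⟨⟨ψ⟩⟩ | ⟨⟨ψ⟩⟩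
  · left
    intro h' hh'
    rw [D.oddCore_ct hG, sup_bot_eq] at h
    exact D.cent_zbar hG (h := ⟨h', hh'⟩) (Subgroup.mem_centralizer_singleton_iff.1 (h ▸ Subgroup.mem_top _))
  · exact Or.inr (Or.inl ⟨ψ, trivial⟩)
  · exact Or.inr (Or.inr ⟨ψ, trivial⟩)
  all_goals
    exfalso
    have hp : el 37 * b0 = b0 * el 37 := by decide +kernel
    have hinv : ∀ (c : C0) (hc : c * b0 = b0 * c), c * c = 1 → c ≠ 1 → c ≠ b0 →
        ψ (D.im c hc) * ψ (D.im c hc) = 1 ∧ ψ (D.im c hc) ≠ 1 := by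
      intro c hc h1 h2 h3
      constructor
      · rw [← map_mul, im, ← QuotientGroup.mk_mul, ← map_one ψ, ← QuotientGroup.mk_one]
        exact congrArg ψ (congrArg QuotientGroup.mk (Subtype.ext (show D.ι c * D.ι c = 1 by rw [← map_mul, h1, map_one])))
      · rw [Ne, MulEquiv.map_eq_one_iff, im, QuotientGroup.eq_one_iff, D.mem_N]
        rintro (e | e)
        · exact h2 (D.inj ((congrArg Subtype.val e).trans (map_one D.ι).symm))
        · exact h3 (D.inj (congrArg Subtype.val e))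
    obtain ⟨a1, a2⟩ := hinv z0 (z0_central b0).symm (by decide +kernel) (by decide +kernel) (by decide +kernel)
    obtain ⟨c1, c2⟩ := hinv (el 37) hp (by decide +kernel) (by decide +kernel) (by decide +kernel)
    have hc : IsConj (ψ (D.im z0 (z0_central b0).symm)) (ψ (D.im (el 37) hp)) := by
      first
        | exact conj_sl3 _ a1 a2 _ c1 c2
        | exact conj_alt6 _ a1 a2 _ c1 c2
    obtain ⟨g, hg⟩ := isConj_iff.1 hc
    obtain ⟨q, rfl⟩ := ψ.surjective g
    obtain ⟨h, rfl⟩ := QuotientGroup.mk_surjective q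
    rw [← map_inv, ← map_mul, ← map_mul, ψ.injective.eq_iff, im, im, ← QuotientGroup.mk_inv, ← QuotientGroup.mk_mul,
      ← QuotientGroup.mk_mul, D.mk_eq] at hg
    rcases hg with e | e
    · exact D.not_isX_4 (c := el 37) (by decide +kernel) (isConj_iff.2 ⟨(h : G), by
        rw [← D.map_z]; exact (congrArg Subtype.val e).symm⟩)
    · refine D.not_isX_4 (c := el 37 * b0) (by decide +kernel) (isConj_iff.2 ⟨(h : G), ?_⟩)
      have e' : D.ι (el 37) = (h : G) * D.ι z0 * (h : G)⁻¹ * D.t := congrArg Subtype.val e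
      rw [map_mul, e', D.map_z, t, mul_assoc _ (D.ι b0), ← map_mul, b0_sq, map_one, mul_one]

end Setup

end Cfsg.Agent.MTwelve
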