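import Cfsg.Agent.Lib.Spor.MTwelve.Frame
import Cfsg.Agent.Lib.Small.MathieuEleven.Counts

/-!
Centralisers of elements in a frame, and the local structure for the primes eleven and five.
-/

set_option autoImplicit false
set_option linter.style.haveILetI false
set_option linter.unusedSectionVars false

namespace Cfsg.Agent.MTwelve

open C0

theorem eleven_arith (n c e : ℕ) (he : e ∣ 10) (he1 : e ≠ 1) (hc : ¬ 2 ∣ c) (h : n * (11 * c * e) = 95040)
    (hn : n % 11 = 1) : n = 1728 ∧ c = 1 ∧ e = 5 := by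
  have key : ∀ c' ∈ ([1, 3, 5, 9, 15, 27, 45, 135] : List ℕ), ∀ e' ∈ ([2, 5, 10] : List ℕ),
      c' * e' ∣ 8640 → 8640 / (c' * e') % 11 = 1 → c' = 1 ∧ e' = 5 := by decide +kernel
  have h1 : n * (c * e) = 8640 := by linarith [show n * (11 * c * e) = 11 * (n * (c * e)) by ring]
  have hc' : c ∣ 8640 := ⟨n * e, by rw [← h1]; ring⟩
  have hce : c * e ∣ 8640 := ⟨n, by rw [← h1]; ring⟩
  have hcl : c ∈ ([1, 3, 5, 9, 15, 27, 45, 135] : List ℕ) := by
    have hcop : Nat.Coprime c 64 := by
      rw [show (64 : ℕ) = 2 ^ 6 by norm_num]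
      exact Nat.Coprime.pow_right _ ((Nat.prime_two.coprime_iff_not_dvd).2 hc).symm
    have h135 : c ∣ 135 := hcop.dvd_of_dvd_mul_left (show c ∣ 64 * 135 from hc')
    have := Nat.le_of_dvd (by norm_num) h135
    interval_cases c <;> revert h135 <;> decide
  have hel : e ∈ ([2, 5, 10] : List ℕ) := by
    have := Nat.le_of_dvd (by norm_num) he
    interval_cases e <;> revert he he1 <;> decide
  have hdiv : 8640 / (c * e) = n := by
    rw [← h1]
    refine Nat.mul_div_cancel _ (Nat.pos_of_ne_zero fun e0 => ?_)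
    rw [e0, mul_zero] at h1; omega
  obtain ⟨rfl, rfl⟩ := key c hcl e hel hce (by rw [hdiv]; exact hn)
  refine ⟨?_, rfl, rfl⟩
  rw [← hdiv]

theorem five_arith (m n : ℕ) (hm : ¬ 2 ∣ m) (h : n * (10 * m) = 23760) (hn : n % 5 = 1) : m = 1 ∨ m = 11 := by
  have key : ∀ m' ∈ ([1, 3, 9, 11, 27, 33, 99, 297] : List ℕ), 2376 / m' % 5 = 1 → m' = 1 ∨ m' = 11 := by
    decide +kernel
  have h1 : n * m = 2376 := by linarith [show n * (10 * m) = 10 * (n * m) by ring]
  have hm' : m ∣ 2376 := ⟨n, by rw [← h1, mul_comm]⟩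
  have hml : m ∈ ([1, 3, 9, 11, 27, 33, 99, 297] : List ℕ) := by
    have hcop : Nat.Coprime m 8 := by
      rw [show (8 : ℕ) = 2 ^ 3 by norm_num]
      exact Nat.Coprime.pow_right _ ((Nat.prime_two.coprime_iff_not_dvd).2 hm).symm
    have h297 : m ∣ 297 := hcop.dvd_of_dvd_mul_left (show m ∣ 8 * 297 from hm')
    have := Nat.le_of_dvd (by norm_num) h297
    interval_cases m <;> revert h297 <;> decide
  refine key m hml ?_
  rw [← h1, Nat.mul_div_cancel _ (Nat.pos_of_ne_zero fun e0 => by rw [e0, mul_zero] at h1; omega)]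
  exact hn

theorem cn_eq_card (c : C0) : Nat.card {d : C0 // d * c = c * d} = (centList c).length := by
  rw [Nat.card_eq_fintype_card, Fintype.card_subtype, ← cn_list]
  rfl

namespace Frame

variable {G : Type*} [Group G] (F : Frame G)

/-- the setup -/
abbrev D : Setup G := F.toSetup

theorem kd_of_conj {c d : C0} (hc : kd c = 1 ∨ kd c = 6 ∨ kd c = 8 ∨ kd c = 10 ∨ kd c = 11 ∨ kd c = 12)
    (hd : kd d = 1 ∨ kd d = 6 ∨ kd d = 8 ∨ kd d = 10 ∨ kd d = 11 ∨ kd d = 12)
    (h : IsConj (F.ι c) (F.ι d)) : kd c = kd d := by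
  obtain ⟨g, hg⟩ := isConj_iff.1 h
  have ho : ordK (kd c) = ordK (kd d) := by
    rw [← order_eq_ordK, ← order_eq_ordK, ← orderOf_injective _ F.inj c, ← orderOf_injective _ F.inj d]
    exact Fusion.orderOf_isConj h
  have hz : g * F.z = F.z * g := by
    have hp : g * F.ι (c ^ (ordK (kd c) / 2)) * g⁻¹ = F.ι (d ^ (ordK (kd d) / 2)) := by
      rw [map_pow, map_pow, ← conj_pow, hg, ho]
    rw [half_power c hc, half_power d hd, F.map_z] at hp
    exact mul_inv_eq_iff_eq_mul.1 hp
  obtain ⟨k, rfl⟩ := F.D.exists_pre hz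
  have : k * c * k⁻¹ = d := F.inj (by rw [map_mul, map_mul, map_inv]; exact hg)
  rw [← this, kd_conj]

theorem cent_of_z_power {c : C0} (hc : kd c = 1 ∨ kd c = 6 ∨ kd c = 8 ∨ kd c = 10 ∨ kd c = 11 ∨ kd c = 12) :
    Nat.card (Subgroup.centralizer ({F.ι c} : Set G)) = (centList c).length := by
  rw [← cn_eq_card]
  refine (Nat.card_eq_of_bijective (fun d => ⟨F.ι d.1, Subgroup.mem_centralizer_singleton_iff.2 (by
    rw [← map_mul, d.2, map_mul])⟩) ⟨fun a b e => Subtype.ext (F.inj (congrArg Subtype.val e)), ?_⟩).symm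
  rintro ⟨g, hg⟩
  rw [Subgroup.mem_centralizer_singleton_iff] at hg
  have hz : g * F.z = F.z * g := by
    have h2 : g * F.ι c ^ (ordK (kd c) / 2) = F.ι c ^ (ordK (kd c) / 2) * g :=
      (Commute.pow_right hg _).eq
    rw [← map_pow, half_power c hc, F.map_z] at h2
    exact h2
  obtain ⟨d, rfl⟩ := F.D.exists_pre hz
  exact ⟨⟨d, F.inj (by rw [map_mul, map_mul]; exact hg)⟩, rfl⟩

/-- the element of the group given by the second model -/
def ofM (q : M5) : G := (F.Φ.symm q : G)

theorem ofM_mul (p q : M5) : F.ofM (p * q) = F.ofM p * F.ofM q := by simp [ofM]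

theorem ofM_pow (q : M5) (k : ℕ) : F.ofM (q ^ k) = F.ofM q ^ k := by simp [ofM]

theorem ofM_injective : Function.Injective F.ofM := fun p q h => F.Φ.symm.injective (Subtype.ext h)

theorem ofM_t : F.ofM (gen2, 1) = F.D.t := by
  rw [ofM, ← F.map_t, F.Φ.symm_apply_apply]; rfl

theorem ofM_one : F.ofM 1 = 1 := by simp [ofM]

theorem orderOf_ofM (q : M5) : orderOf (F.ofM q) = orderOf q := by
  rw [ofM, Subgroup.orderOf_coe, MulEquiv.orderOf_eq]

theorem exists_ofM {g : G} (hg : g * F.D.t = F.D.t * g) : ∃ q, F.ofM q = g :=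
  ⟨F.Φ ⟨g, F.D.mem_Ct.2 hg⟩, by rw [ofM, F.Φ.symm_apply_apply]⟩

theorem ofM_comm_t (q : M5) : F.ofM q * F.D.t = F.D.t * F.ofM q := F.D.mem_Ct.1 (F.Φ.symm q).2

theorem cent_of_t_power {q : M5} {k : ℕ} (hq : q ^ k = (gen2, 1)) :
    Nat.card (Subgroup.centralizer ({F.ofM q} : Set G)) =
      (Finset.univ.filter fun g : M5 => g * q = q * g).card := by
  rw [← Fintype.card_subtype, ← Nat.card_eq_fintype_card]
  refine (Nat.card_eq_of_bijective (fun d => ⟨F.ofM d.1, Subgroup.mem_centralizer_singleton_iff.2 (by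
    rw [← F.ofM_mul, d.2, F.ofM_mul])⟩) ⟨fun a b e => ?_, ?_⟩).symm
  · have e' : F.ofM a.1 = F.ofM b.1 := congrArg (fun y : Subgroup.centralizer ({F.ofM q} : Set G) => (y : G)) e
    exact Subtype.ext (F.ofM_injective e')
  rintro ⟨g, hg⟩
  rw [Subgroup.mem_centralizer_singleton_iff] at hg
  have ht : g * F.D.t = F.D.t * g := by
    have h2 : g * F.ofM q ^ k = F.ofM q ^ k * g := (Commute.pow_right hg _).eq
    rwa [← F.ofM_pow, hq, F.ofM_t] at h2
  obtain ⟨d, rfl⟩ := F.exists_ofM ht
  exact ⟨⟨d, F.ofM_injective (by rw [F.ofM_mul, F.ofM_mul]; exact hg)⟩, rfl⟩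

theorem card_ct : Nat.card F.D.Ct = 240 := by
  rw [Nat.card_congr F.Φ.toEquiv, Nat.card_eq_fintype_card]
  decide +kernel

theorem isX_ofM (q : M5) : IsConj F.z (F.ofM q) ↔ (q.1 = 1 ∧ IsDbl q.2) := by
  rw [ofM, F.isX_ct, F.Φ.apply_symm_apply]

variable [Finite G]

/-- A two-subgroup of the centraliser of an element containing an involution of a known kind. -/
theorem two_card {g i₀ : G} (hi₀ : i₀ * g = g * i₀) (T : Subgroup G) (hT : IsPGroup 2 T) (hi₀T : i₀ ∈ T)
    (hTg : ∀ a ∈ T, a * g = g * a) (hi₀1 : i₀ ≠ 1) :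
    ∃ i : G, orderOf i = 2 ∧ i * g = g * i ∧ i * i₀ = i₀ * i ∧ ∀ a ∈ T, a * i = i * a := by
  haveI : Nontrivial T := ⟨⟨⟨i₀, hi₀T⟩, 1, fun e => hi₀1 (congrArg Subtype.val e)⟩⟩
  haveI := hT.center_nontrivial
  obtain ⟨n, hn⟩ := (hT.to_subgroup (Subgroup.center T)).exists_card_eq
  have h2 : 2 ∣ Nat.card (Subgroup.center T) := by
    rcases n with - | n
    · rw [pow_zero] at hn
      exact absurd (Finite.one_lt_card (α := Subgroup.center T)) (by omega)
    · rw [hn]; exact dvd_pow_self 2 (by omega)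
  obtain ⟨⟨⟨i, hiT⟩, hic⟩, hi⟩ := exists_prime_orderOf_dvd_card' 2 h2
  rw [Subgroup.orderOf_mk, Subgroup.orderOf_mk] at hi
  have hc : ∀ a ∈ T, a * i = i * a := fun a ha => congrArg Subtype.val (Subgroup.mem_center_iff.1 hic ⟨a, ha⟩)
  exact ⟨i, hi, hTg i hiT, (hc i₀ hi₀T).symm, hc⟩

theorem conj_centralizer_card {g h : G} (hc : IsConj g h) :
    Nat.card (Subgroup.centralizer ({g} : Set G)) = Nat.card (Subgroup.centralizer ({h} : Set G)) := by
  have h1 := MathieuEleven.class_mul_centralizer g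
  have h2 := MathieuEleven.class_mul_centralizer h
  have e : Nat.card {x : G // IsConj h x} = Nat.card {x : G // IsConj g x} :=
    Nat.card_congr (Equiv.subtypeEquivRight fun x => ⟨fun e => hc.trans e, fun e => hc.symm.trans e⟩)
  rw [e] at h2
  have hpos : 0 < Nat.card {x : G // IsConj g x} := by
    rw [Nat.card_pos_iff]
    exact ⟨⟨⟨g, IsConj.refl _⟩⟩, inferInstance⟩
  exact Nat.eq_of_mul_eq_mul_left hpos (h1.trans h2.symm)

variable [IsSimpleGroup G]

include F in
theorem not_comm : ¬ IsMulCommutative G := fun h => by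
  haveI : Fintype G := Fintype.ofFinite G
  letI : CommGroup G := { (inferInstance : Group G) with mul_comm := fun a b => h.is_comm.comm a b }
  have := IsSimpleGroup.prime_card (α := G)
  rw [F.card_eq] at this
  norm_num at this

include F in
theorem perfect : MathieuEleven.Perfect' G := by
  rcases IsSimpleGroup.eq_bot_or_eq_top_of_normal (commutator G) inferInstance with h | h
  · exfalso
    exact F.not_comm ⟨⟨fun a b => commutatorElement_eq_one_iff_mul_comm.1 (Subgroup.mem_bot.1 (h ▸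
      Subgroup.commutator_mem_commutator (Subgroup.mem_top a) (Subgroup.mem_top b)))⟩⟩
  · exact h

include F in
theorem invol_cent_dvd {g : G} {i : G} (hi : orderOf i = 2) (hc : g * i = i * g) :
    orderOf g ∣ 192 ∨ orderOf g ∣ 240 := by
  rcases F.classesInvol i hi with h | h
  · left
    have h1 := Subgroup.orderOf_dvd_natCard (s := Subgroup.centralizer ({i} : Set G))
      (Subgroup.mem_centralizer_singleton_iff.2 hc)
    rwa [← conj_centralizer_card h, ← F.range_eq, ← Nat.card_congr (MonoidHom.ofInjective F.inj).toEquiv, C0.card] at h1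
  · right
    have h1 := Subgroup.orderOf_dvd_natCard (s := Subgroup.centralizer ({i} : Set G))
      (Subgroup.mem_centralizer_singleton_iff.2 hc)
    rwa [← conj_centralizer_card h, show Subgroup.centralizer ({F.D.t} : Set G) = F.D.Ct from rfl, F.card_ct] at h1

include F in
theorem sylow_eleven (P : Sylow 11 G) : Nat.card (P : Subgroup G) = 11 := by
  haveI : Fact (Nat.Prime 11) := ⟨by norm_num⟩
  rw [P.card_eq_multiplicity, F.card_eq, show Nat.factorization 95040 11 = 1 by
    rw [Nat.factorization_def _ (by norm_num)]; decide +kernel]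
  norm_num

include F in
theorem eleven_local (P : Sylow 11 G) : Nat.card (Sylow 11 G) = 1728 ∧
    Nat.card (Subgroup.centralizer ((P : Subgroup G) : Set G)) = 11 := by
  haveI : Fact (Nat.Prime 11) := ⟨by norm_num⟩
  have hP := F.sylow_eleven P
  obtain ⟨p, hpP, hp, hgen⟩ := MathieuEleven.gen_prime hP
  set C := Subgroup.centralizer ((P : Subgroup G) : Set G) with hC
  have hodd : ¬ 2 ∣ Nat.card C := by
    intro h2
    obtain ⟨⟨i, hi⟩, hio⟩ := exists_prime_orderOf_dvd_card' (G := C) 2 h2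
    rw [Subgroup.orderOf_mk] at hio
    have hc : p * i = i * p := Subgroup.mem_centralizer_iff.1 hi p hpP
    rcases F.invol_cent_dvd hio hc with h | h <;> rw [hp] at h <;> norm_num at h
  have h11 : 11 ∣ Nat.card C := MathieuEleven.self_dvd_centralizer hP
  obtain ⟨c, hc⟩ := h11
  have hN : Nat.card (Sylow 11 G) * Nat.card (Subgroup.normalizer ((P : Subgroup G) : Set G)) = 95040 := by
    rw [Sylow.card_eq_index_normalizer P, ← F.card_eq]; exact Subgroup.index_mul_card _
  obtain ⟨e, he⟩ := MathieuEleven.centralizer_dvd_normalizer (P : Subgroup G)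
  have he10 : e ∣ 10 := by
    have hd := MathieuEleven.normalizer_dvd (p := 11) (by norm_num) hP
    rw [he, mul_comm (11 - 1) _] at hd
    exact (Nat.mul_dvd_mul_iff_left Nat.card_pos).1 hd
  have he1 : e ≠ 1 := by
    intro e1
    rw [e1, mul_one] at he
    have heq : Subgroup.centralizer ((P : Subgroup G) : Set G) = Subgroup.normalizer ((P : Subgroup G) : Set G) :=
      Subgroup.eq_of_le_of_card_ge (Subgroup.centralizer_le_normalizer _) (le_of_eq he)
    have h1 : p = 1 := MathieuEleven.eq_one_of_central F.perfect P (MathieuEleven.comm_of_prime hP) hpP fun n hn =>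
      (Subgroup.mem_centralizer_iff.1 (heq.symm ▸ hn) p hpP).symm
    rw [h1, orderOf_one] at hp
    omega
  rw [he, hc] at hN
  obtain ⟨h1, h2, -⟩ := eleven_arith _ c e he10 he1 (fun h => hodd (hc ▸ h.mul_left 11)) hN (card_sylow_modEq_one 11 G)
  exact ⟨h1, by rw [hc, h2]⟩

include F in
theorem centralizer_eleven {g : G} (hg : orderOf g = 11) : Nat.card (Subgroup.centralizer ({g} : Set G)) = 11 := by
  haveI : Fact (Nat.Prime 11) := ⟨by norm_num⟩
  obtain ⟨P, hP⟩ := (IsPGroup.of_card (n := 1) (by rw [Nat.card_zpowers, hg, pow_one]) :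
    IsPGroup 11 (Subgroup.zpowers g)).exists_le_sylow
  have e : Subgroup.zpowers g = (P : Subgroup G) := Subgroup.eq_of_le_of_card_ge hP (by
    rw [Nat.card_zpowers, hg, F.sylow_eleven P])
  rw [← MathieuEleven.centralizer_gen e]
  exact (F.eleven_local P).2

include F in
theorem count_eleven : Nat.card {g : G // orderOf g = 11} = 17280 := by
  haveI : Fact (Nat.Prime 11) := ⟨by norm_num⟩
  have hc := fun P => F.sylow_eleven P
  rw [MathieuEleven.count_prime 10 hc (fun P a ha h => MathieuEleven.prime_order hc P a ha h)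
    (MathieuEleven.prime_unique hc), (F.eleven_local default).1]

/-- an element of order five -/
def five : G := F.ofM (1, cyc5)

theorem order_five : orderOf F.five = 5 := by
  rw [five, F.orderOf_ofM]
  haveI : Fact (Nat.Prime 5) := ⟨by norm_num⟩
  exact orderOf_eq_prime (Prod.ext (one_pow _) m5_elements.2.2.2.2.2.2.1) fun e => m5_elements.2.2.2.2.2.2.2 (congrArg Prod.snd e)

theorem five_local : Nat.card (Subgroup.centralizer ({F.five} : Set G)) = 10 ∧
    (∀ g : G, orderOf g = 5 → IsConj F.five g) ∧ Nat.card {g : G // orderOf g = 5} = 9504 := by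
  haveI : Fact (Nat.Prime 5) := ⟨by norm_num⟩
  haveI : Fact (Nat.Prime 2) := ⟨Nat.prime_two⟩
  have h5 := F.order_five
  set C := Subgroup.centralizer ({F.five} : Set G) with hC
  have ht : F.D.t ∈ C := Subgroup.mem_centralizer_singleton_iff.2 (F.ofM_comm_t (1, cyc5)).symm
  have htcard : orderOf F.D.t = 2 := F.D.t_order
  have ht1 : F.D.t ≠ 1 := fun e => by rw [e, orderOf_one] at htcard; omega
  -- a two-subgroup of the centraliser through the involution has order two
  obtain ⟨T, hT⟩ := (IsPGroup.of_card (n := 1) (by rw [Nat.card_zpowers, Subgroup.orderOf_mk, htcard, pow_one]) :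
    IsPGroup 2 (Subgroup.zpowers (⟨F.D.t, ht⟩ : C))).exists_le_sylow
  let T' : Subgroup G := (T : Subgroup C).map C.subtype
  have hT'g : ∀ a ∈ T', a * F.five = F.five * a := by
    rintro a ⟨b, -, rfl⟩
    exact Subgroup.mem_centralizer_singleton_iff.1 b.2
  obtain ⟨i, hi, hig, hit, hiT⟩ := two_card (g := F.five) (Subgroup.mem_centralizer_singleton_iff.1 ht) T'
    (T.2.map C.subtype) ⟨⟨F.D.t, ht⟩, hT (Subgroup.mem_zpowers _), rfl⟩ hT'g ht1
  obtain ⟨q, rfl⟩ := F.exists_ofM hit
  have hiq : q = (gen2, 1) := by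
    rw [F.orderOf_ofM, orderOf_eq_prime_iff, sq] at hi
    exact m5_invol_five q hi.1 hi.2 (F.ofM_injective (by rw [F.ofM_mul, F.ofM_mul]; exact hig))
  subst hiq
  rw [F.ofM_t] at hiT
  have hT2 : Nat.card (T : Subgroup C) = 2 := by
    have hdvd : Nat.card T' ∣ 10 := by
      rw [← m5_cents.2.2.2, ← Fintype.card_subtype, ← Nat.card_eq_fintype_card]
      let K : Subgroup M5 := Subgroup.centralizer ({(1, cyc5)} : Set M5)
      have hK : Nat.card {g : M5 // g * (1, cyc5) = (1, cyc5) * g} = Nat.card K :=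
        Nat.card_congr (Equiv.subtypeEquivRight fun g => Subgroup.mem_centralizer_singleton_iff.symm)
      rw [hK]
      let emb : K →* G := (F.D.Ct.subtype.comp F.Φ.symm.toMonoidHom).comp K.subtype
      have hemb : Function.Injective emb := fun a b e => Subtype.ext (F.ofM_injective e)
      have hle : T' ≤ emb.range := fun a ha => by
        obtain ⟨q, hq⟩ := F.exists_ofM (hiT a ha)
        refine ⟨⟨q, Subgroup.mem_centralizer_singleton_iff.2 (F.ofM_injective ?_)⟩, hq⟩
        rw [F.ofM_mul, F.ofM_mul, hq]; exact hT'g a ha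
      rw [Nat.card_congr (MonoidHom.ofInjective hemb).toEquiv]
      exact Subgroup.card_dvd_of_le hle
    rw [Subgroup.card_map_of_injective C.subtype_injective] at hdvd
    obtain ⟨k, hk⟩ := T.2.exists_card_eq
    have h2 : 2 ∣ Nat.card (T : Subgroup C) := by
      have := Subgroup.card_dvd_of_le hT
      rwa [Nat.card_zpowers, Subgroup.orderOf_mk, htcard] at this
    rw [hk] at h2 hdvd ⊢
    have hk4 : k < 4 := by
      by_contra hlt
      have := (pow_dvd_pow 2 (by omega : 4 ≤ k)).trans hdvd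
      norm_num at this
    have key : ∀ j, j < 4 → 2 ∣ 2 ^ j → 2 ^ j ∣ 10 → 2 ^ j = 2 := by decide +kernel
    exact key k hk4 h2 hdvd
  have hidx : ¬ 2 ∣ (T : Subgroup C).index := T.not_dvd_index
  have hCcard : Nat.card C = 2 * (T : Subgroup C).index := by
    have := Subgroup.card_mul_index (T : Subgroup C)
    rw [hT2] at this
    exact this.symm
  have h5C : 5 ∣ Nat.card C := by
    rw [← h5]; exact Subgroup.orderOf_dvd_natCard _ (Subgroup.mem_centralizer_singleton_iff.2 rfl)
  obtain ⟨m, hm⟩ : 5 ∣ (T : Subgroup C).index := (Nat.Coprime.dvd_mul_left (by norm_num)).1 (hCcard ▸ h5C)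
  have hC10 : Nat.card C = 10 * m := by rw [hCcard, hm]; ring
  -- every element of order five is a conjugate
  have h5c : ∀ P : Sylow 5 G, Nat.card (P : Subgroup G) = 5 := fun P => by
    rw [P.card_eq_multiplicity, F.card_eq, show Nat.factorization 95040 5 = 1 by
      rw [Nat.factorization_def _ (by norm_num)]; decide +kernel]
    norm_num
  have hall : ∀ g : G, orderOf g = 5 → IsConj F.five g := by
    intro g hg
    obtain ⟨P, hP⟩ := (IsPGroup.of_card (n := 1) (by rw [Nat.card_zpowers, h5, pow_one]) :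
      IsPGroup 5 (Subgroup.zpowers F.five)).exists_le_sylow
    obtain ⟨Q, hQ⟩ := (IsPGroup.of_card (n := 1) (by rw [Nat.card_zpowers, hg, pow_one]) :
      IsPGroup 5 (Subgroup.zpowers g)).exists_le_sylow
    have eP : Subgroup.zpowers F.five = (P : Subgroup G) := Subgroup.eq_of_le_of_card_ge hP (by
      rw [Nat.card_zpowers, h5, h5c P])
    obtain ⟨k, hk⟩ := MulAction.exists_smul_eq G Q P
    have hm' : k * g * k⁻¹ ∈ Subgroup.zpowers F.five := by
      rw [eP, ← hk]; exact ⟨g, hQ (Subgroup.mem_zpowers g), rfl⟩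
    obtain ⟨j, hj⟩ := mem_powers_iff_mem_zpowers.2 hm'
    simp only at hj
    rw [five, ← F.ofM_pow] at hj
    have hne : cyc5 ^ j ≠ 1 := fun e => by
      have e1 : ((1, cyc5) : M5) ^ j = 1 := Prod.ext (one_pow j) e
      rw [e1, F.ofM_one] at hj
      have : g = 1 := by
        calc g = k⁻¹ * (k * g * k⁻¹) * k := by group
          _ = 1 := by rw [← hj]; group
      rw [this, orderOf_one] at hg; omega
    obtain ⟨u, hu⟩ := perm_five (cyc5 ^ j) (by
      have h6 : (cyc5 ^ j) ^ 5 = 1 := by rw [← pow_mul, mul_comm, pow_mul, m5_elements.2.2.2.2.2.2.1, one_pow]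
      rwa [pow_succ, pow_succ, pow_succ, sq] at h6) hne
    have hconj : IsConj F.five (k * g * k⁻¹) := by
      refine isConj_iff.2 ⟨F.ofM (1, u), ?_⟩
      rw [← hj, five]
      have : ((1, u) : M5) * (1, cyc5) = (1, cyc5) ^ j * (1, u) := Prod.ext (by simp) (by
        show u * cyc5 = cyc5 ^ j * u
        rw [← hu]; group)
      rw [← F.ofM_mul, this, F.ofM_mul, mul_inv_cancel_right]
    exact hconj.trans (isConj_iff.2 ⟨k⁻¹, by group⟩)
  have hcls : Nat.card {g : G // orderOf g = 5} = Nat.card {g : G // IsConj F.five g} :=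
    Nat.card_congr (Equiv.subtypeEquivRight fun g => ⟨hall g, fun e => (Fusion.orderOf_isConj e).symm.trans h5⟩)
  have hcount := MathieuEleven.count_prime 4 h5c (fun P a ha h => MathieuEleven.prime_order h5c P a ha h)
    (MathieuEleven.prime_unique h5c)
  have hcm := MathieuEleven.class_mul_centralizer F.five
  rw [← hcls, hcount, F.card_eq, hC10] at hcm
  have hodd : ¬ 2 ∣ m := fun h => hidx (hm ▸ h.mul_left 5)
  have hm1 : m = 1 := by
    rcases five_arith m (Nat.card (Sylow 5 G)) hodd (by linarith) (card_sylow_modEq_one 5 G) with h | h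
    · exact h
    · exfalso
      haveI : Fact (Nat.Prime 11) := ⟨by norm_num⟩
      obtain ⟨⟨p, hp⟩, hpo⟩ := exists_prime_orderOf_dvd_card' (G := C) 11 ⟨10, by rw [hC10, h]⟩
      rw [Subgroup.orderOf_mk] at hpo
      have h11 := F.centralizer_eleven hpo
      have := Subgroup.orderOf_dvd_natCard (s := Subgroup.centralizer ({p} : Set G))
        (Subgroup.mem_centralizer_singleton_iff.2 (Subgroup.mem_centralizer_singleton_iff.1 hp).symm)
      rw [h5, h11] at this
      norm_num at this
  refine ⟨by rw [hC10, hm1], hall, ?_⟩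
  rw [hcount]
  rw [hm1] at hcm
  omega

end Frame

end Cfsg.Agent.MTwelve
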