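import Cfsg.Agent.Lib.Spor.MTwelve.ThreeChar
import Cfsg.Agent.Lib.Char.Exceptional
import Cfsg.Agent.Lib.Char.IndSpan
import Cfsg.Agent.Lib.Perm.PermChar
import Cfsg.Agent.Lib.Local.TypePBasic

/-!
The class function of degree eleven is an irreducible character.
-/

set_option autoImplicit false
set_option linter.style.haveILetI false
set_option linter.unusedSectionVars false

namespace Cfsg.Agent.MTwelve

open C0

universe u

/-- A finite nilpotent group has central elements of every prime order dividing its order. -/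
theorem exists_central {E : Type u} [Group E] [Finite E] [Group.IsNilpotent E] {q : ℕ} [Fact q.Prime]
    (hq : q ∣ Nat.card E) : ∃ i : E, orderOf i = q ∧ i ∈ Subgroup.center E := by
  obtain ⟨P⟩ : Nonempty (Sylow q E) := inferInstance
  have hqP : q ∣ Nat.card (P : Subgroup E) := by
    have hmul := Subgroup.card_mul_index (P : Subgroup E)
    rw [← hmul] at hq
    exact ((Fact.out : q.Prime).dvd_mul.1 hq).resolve_right P.not_dvd_index
  haveI : Nontrivial (P : Subgroup E) := by
    rw [← Finite.one_lt_card_iff_nontrivial]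
    exact lt_of_lt_of_le (Fact.out : q.Prime).one_lt (Nat.le_of_dvd Nat.card_pos hqP)
  haveI := P.isPGroup'.center_nontrivial
  have hqZ : q ∣ Nat.card (Subgroup.center (P : Subgroup E)) := by
    obtain ⟨n, hn⟩ := (P.isPGroup'.to_subgroup (Subgroup.center (P : Subgroup E))).exists_card_eq
    rcases n with - | n
    · exact absurd (Finite.one_lt_card (α := Subgroup.center (P : Subgroup E))) (by rw [hn, pow_zero]; omega)
    · rw [hn]; exact dvd_pow_self q (by omega)
  obtain ⟨⟨⟨i, hiP⟩, hic⟩, hi⟩ := exists_prime_orderOf_dvd_card' q hqZ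
  rw [Subgroup.orderOf_mk, Subgroup.orderOf_mk] at hi
  refine ⟨i, hi, ?_⟩
  set C := Subgroup.centralizer ({i} : Set E) with hC
  have htop : C = ⊤ := by
    rw [← Subgroup.index_eq_one, Nat.eq_one_iff_not_exists_prime_dvd]
    intro r hr hdvd
    haveI := Fact.mk hr
    by_cases hrq : r = q
    · subst hrq
      refine P.not_dvd_index (hdvd.trans (Subgroup.index_dvd_of_le fun a ha => ?_))
      exact Subgroup.mem_centralizer_singleton_iff.2
        (congrArg Subtype.val (Subgroup.mem_center_iff.1 hic ⟨a, ha⟩))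
    · obtain ⟨R⟩ : Nonempty (Sylow r E) := inferInstance
      refine R.not_dvd_index (hdvd.trans (Subgroup.index_dvd_of_le fun a ha => ?_))
      refine Subgroup.mem_centralizer_singleton_iff.2 (TypePBasic.commute_of_coprime ?_).eq
      obtain ⟨k, hk⟩ := (IsPGroup.iff_orderOf.1 R.isPGroup') ⟨a, ha⟩
      rw [Subgroup.orderOf_mk] at hk
      rw [hk, hi]
      exact Nat.Coprime.pow_left _ ((Nat.coprime_primes hr Fact.out).2 hrq)
  exact Subgroup.mem_center_iff.2 fun g =>
    Subgroup.mem_centralizer_singleton_iff.1 (by rw [← hC, htop]; exact Subgroup.mem_top g)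

theorem gen_pullback {E H : Type u} [Group E] [Group H] (f : E →* H) {θ : H → ℂ}
    (h : Cfsg.IsGeneralizedCharacter H θ) : Cfsg.IsGeneralizedCharacter E (θ ∘ f) := by
  obtain ⟨a, b, ha, hb, rfl⟩ := h
  exact ⟨a ∘ f, b ∘ f, Char.isCharacter_comp f ha, Char.isCharacter_comp f hb, rfl⟩

theorem gen_pullback' {E : Type u} {H : Type} [Group E] [Group H] (f : E →* H) {θ : H → ℂ}
    (h : Cfsg.IsGeneralizedCharacter H θ) : Cfsg.IsGeneralizedCharacter E (θ ∘ f) := by
  obtain ⟨a, b, ha, hb, rfl⟩ := h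
  exact ⟨a ∘ f, b ∘ f, Char.isCharacter_comp f ha, Char.isCharacter_comp f hb, rfl⟩

/-- the regular character as an induced one -/
theorem indFun_bot {E : Type u} [Group E] [Fintype E] [DecidableEq E] (g : E) :
    Cfsg.indFun (⊥ : Subgroup E) (fun _ => (1 : ℂ)) g = if g = 1 then (Nat.card E : ℂ) else 0 := by
  rw [indFun_one_apply, Subgroup.card_bot, Nat.cast_one, inv_one, one_mul]
  by_cases hg : g = 1
  · subst hg
    rw [Nat.card_congr (Equiv.subtypeUnivEquiv fun v => by simp)]
    simp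
  · rw [if_neg hg]
    haveI : IsEmpty {v : E // v⁻¹ * g * v ∈ (⊥ : Subgroup E)} := ⟨fun v => hg (by
      have := Subgroup.mem_bot.1 v.2
      calc g = v.1 * (v.1⁻¹ * g * v.1) * v.1⁻¹ := by group
        _ = 1 := by rw [this]; group)⟩
    rw [Nat.card_of_isEmpty, Nat.cast_zero]

theorem k_facts : ∀ q : M5, q * ((1, cyc3) : M5) = ((1, cyc3) : M5) * q → q ≠ 1 →
    q ^ 6 = 1 ∧ (q ^ 3 = 1 ∨ ¬ ((q ^ 3).1 = 1 ∧ IsDbl (q ^ 3).2)) := by
  decide +kernel

theorem two_cube (a : Two) (h : a ^ 3 = 1) : a = 1 := two_cube_free a h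

namespace Frame

variable {G : Type u} [Group G] (F : Frame G)
variable [Finite G] [IsSimpleGroup G]

theorem gen_C0 : Cfsg.IsGeneralizedCharacter C0 (fun c => (F.fval (F.ι c) : ℂ)) := by
  letI : MulAction C0 (Fin 12) :=
    { smul := img, one_smul := img_one, mul_smul := img_mul }
  refine ⟨Perm.PermChar.permChar C0 (Fin 12), fun _ => 1, Perm.PermChar.isCharacter_permChar, Char.isCharacter_one, ?_⟩
  funext c
  rw [Pi.sub_apply, F.fval_iota]
  push_cast
  congr 1
  rw [Nat.cast_inj, fx_eq, Nat.card_eq_fintype_card]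
  rw [Fintype.card_subtype, ← List.toFinset_card_of_nodup ((List.nodup_finRange 12).filter _)]
  congr 1
  ext p
  simp [MulAction.mem_fixedBy]
  rfl

theorem gen_ct_three : Cfsg.IsGeneralizedCharacter (Subgroup.centralizer ({((1, cyc3) : M5)} : Set M5))
    (fun q => (F.fval (F.ofM q.1) : ℂ)) := by
  classical
  set K := Subgroup.centralizer ({((1, cyc3) : M5)} : Set M5) with hK
  haveI := Fintype.ofFinite K
  have hK12 : Nat.card K = 12 := by
    rw [← m5_cents.2.2.1, ← Fintype.card_subtype, ← Nat.card_eq_fintype_card]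
    exact Nat.card_congr (Equiv.subtypeEquivRight fun g => Subgroup.mem_centralizer_singleton_iff)
  refine ⟨Cfsg.indFun (⊥ : Subgroup K) (fun _ => (1 : ℂ)), fun _ => 1,
    Char.isCharacter_indFun _ Char.isCharacter_one, Char.isCharacter_one, ?_⟩
  funext q
  rw [Pi.sub_apply, indFun_bot, hK12]
  by_cases hq : q = 1
  · subst hq
    rw [if_pos rfl, OneMemClass.coe_one, F.ofM_one, F.fval_one]
    norm_num
  · rw [if_neg hq]
    have hq1 : (q : M5) ≠ 1 := fun e => hq (Subtype.ext e)
    have hqc : (q : M5) * (1, cyc3) = (1, cyc3) * (q : M5) := Subgroup.mem_centralizer_singleton_iff.1 q.2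
    obtain ⟨h6, h3⟩ := k_facts q hqc hq1
    by_cases h31 : (q : M5) ^ 3 = 1
    · have h1 : (q : M5).1 = 1 := two_cube _ (congrArg Prod.fst h31)
      obtain ⟨v, hv⟩ := perm_three (q : M5).2 (by
        have h : (q : M5).2 ^ 3 = 1 := congrArg Prod.snd h31
        rwa [pow_succ, sq] at h) fun e => hq1 (Prod.ext h1 e)
      rw [F.fval_y (isConj_iff.2 ⟨F.ofM (1, v), ?_⟩)]
      · norm_num
      · have : ((1, v) : M5) * (1, cyc3) = (q : M5) * (1, v) := Prod.ext (by simp [h1]) (by
          show v * cyc3 = (q : M5).2 * v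
          rw [← hv]; group)
        rw [← F.ofM_mul, this, F.ofM_mul, mul_inv_cancel_right]
    · rw [F.fval_t_power 3 ?_]
      · norm_num
      rw [← F.ofM_pow]
      refine F.isConj_t_of_not ?_ fun hX => (h3.resolve_left h31) ((F.isX_ofM _).1 hX)
      rw [F.orderOf_ofM]
      exact orderOf_eq_prime (by rw [← pow_mul]; exact h6) h31

theorem gen_five : Cfsg.IsGeneralizedCharacter (Subgroup.centralizer ({F.five} : Set G))
    (fun g => (F.fval (g : G) : ℂ)) := by
  classical
  set C := Subgroup.centralizer ({F.five} : Set G) with hC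
  haveI := Fintype.ofFinite C
  haveI : Fact (Nat.Prime 5) := ⟨by norm_num⟩
  haveI : Fact (Nat.Prime 2) := ⟨Nat.prime_two⟩
  have hC10 : Nat.card C = 10 := F.five_local.1
  let w : C := ⟨F.five, Subgroup.mem_centralizer_singleton_iff.2 rfl⟩
  let P := Subgroup.zpowers w
  have hwc : ∀ g : C, g * w = w * g := fun g => Subtype.ext (Subgroup.mem_centralizer_singleton_iff.1 g.2)
  haveI hPn : P.Normal := ⟨fun v hv g => by
    obtain ⟨k, rfl⟩ := Subgroup.mem_zpowers_iff.1 hv
    rw [((show Commute g w from hwc g).zpow_right k).eq, mul_inv_cancel_right]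
    exact Subgroup.zpow_mem _ (Subgroup.mem_zpowers w) k⟩
  have hP5 : Nat.card P = 5 := by rw [Nat.card_zpowers, Subgroup.orderOf_mk, F.order_five]
  have hidx : P.index = 2 := by
    have := Subgroup.card_mul_index P
    rw [hP5, hC10] at this
    omega
  have hQ2 : Nat.card (C ⧸ P) = 2 := by rw [← Subgroup.index_eq_card, hidx]
  have htC : F.D.t ∈ C := Subgroup.mem_centralizer_singleton_iff.2 (F.ofM_comm_t (1, cyc5)).symm
  let t' : C := ⟨F.D.t, htC⟩
  have hto : orderOf t' = 2 := by rw [Subgroup.orderOf_mk, F.D.t_order]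
  have hcomm : ∀ a b : C, a * b = b * a := by
    haveI : IsCyclic (C ⧸ P) := isCyclic_of_prime_card hQ2
    refine commutative_of_cyclic_center_quotient (QuotientGroup.mk' P) ?_
    rw [QuotientGroup.ker_mk']
    exact Subgroup.zpowers_le.2 (Subgroup.mem_center_iff.2 hwc)
  have hP1 : ∀ g : C, g ^ 5 = 1 → g ∈ P := fun g hg => by
    have h2 : ((g : C) : C ⧸ P) ^ 2 = 1 := by rw [← hQ2]; exact pow_card_eq_one'
    have h5 : ((g : C) : C ⧸ P) ^ 5 = 1 := by rw [← QuotientGroup.mk_pow, hg, QuotientGroup.mk_one]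
    rw [show 5 = 2 * 2 + 1 from rfl, pow_succ, pow_mul, h2, one_pow, one_mul] at h5
    exact (QuotientGroup.eq_one_iff g).1 h5
  have hout : ∀ g : C, g ∉ P → g ^ 5 = t' := fun g hg => by
    have h10 : g ^ 10 = 1 := by rw [← hC10]; exact pow_card_eq_one'
    have hne : g ^ 5 ≠ 1 := fun e => hg (hP1 g e)
    have htn : t' ∉ P := fun e => by
      have := Subgroup.orderOf_dvd_natCard _ e
      rw [hto, hP5] at this
      norm_num at this
    have hgn : g ^ 5 ∉ P := fun e => by
      have h1 := Subgroup.orderOf_dvd_natCard _ e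
      rw [hP5] at h1
      have h2 : orderOf (g ^ 5) ∣ 2 := orderOf_dvd_of_pow_eq_one (by rw [← pow_mul]; exact h10)
      exact hne (orderOf_eq_one_iff.1 (Nat.eq_one_of_dvd_coprimes (by norm_num : Nat.Coprime 5 2) h1 h2))
    have hmem : (g ^ 5)⁻¹ * t' ∈ P := (Subgroup.mul_mem_iff_of_index_two hidx).2
      ⟨fun h => absurd (P.inv_mem_iff.1 h) hgn, fun h => absurd h htn⟩
    have h1 := Subgroup.orderOf_dvd_natCard _ hmem
    rw [hP5] at h1
    have h2 : orderOf ((g ^ 5)⁻¹ * t') ∣ 2 := orderOf_dvd_of_pow_eq_one (by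
      rw [(show Commute (g ^ 5)⁻¹ t' from hcomm _ _).mul_pow, inv_pow, ← pow_mul, h10, inv_one, one_mul, ← hto,
        pow_orderOf_eq_one])
    exact inv_mul_eq_one.1 (orderOf_eq_one_iff.1 (Nat.eq_one_of_dvd_coprimes (by norm_num : Nat.Coprime 5 2) h1 h2))
  refine ⟨fun g => Cfsg.indFun (⊥ : Subgroup C) (fun _ => (1 : ℂ)) g + Cfsg.indFun P (fun _ => (1 : ℂ)) g,
    fun _ => 1, Char.isCharacter_add (Char.isCharacter_indFun _ Char.isCharacter_one)
      (Char.isCharacter_indFun _ Char.isCharacter_one), Char.isCharacter_one, funext fun g => ?_⟩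
  rw [Pi.sub_apply, indFun_bot, indFun_one_apply, hC10, hP5]
  have hconj : ∀ v : C, v⁻¹ * g * v = g := fun v => by rw [mul_assoc, hcomm g v, inv_mul_cancel_left]
  by_cases hgP : g ∈ P
  · rw [Nat.card_congr (Equiv.subtypeUnivEquiv fun v => by rw [hconj]; exact hgP), hC10]
    by_cases h1 : g = 1
    · subst h1
      rw [if_pos rfl, OneMemClass.coe_one, F.fval_one]
      norm_num
    · rw [if_neg h1, F.fval_five (F.five_local.2.1 _ ?_)]
      · norm_num
      · refine orderOf_eq_prime ?_ fun e => h1 (Subtype.ext e)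
        obtain ⟨k, rfl⟩ := Subgroup.mem_zpowers_iff.1 hgP
        show ((w : G) ^ k) ^ 5 = 1
        rw [← zpow_natCast, ← zpow_mul, mul_comm, zpow_mul, zpow_natCast, show (w : G) = F.five from rfl,
          show F.five ^ 5 = 1 by rw [← F.order_five]; exact pow_orderOf_eq_one _, one_zpow]
  · have h1 : g ≠ 1 := fun e => hgP (e ▸ P.one_mem)
    haveI : IsEmpty {v : C // v⁻¹ * g * v ∈ P} := ⟨fun v => hgP (by rw [← hconj v.1]; exact v.2)⟩
    have ht5 : (g : G) ^ 5 = F.D.t := congrArg Subtype.val (hout g hgP)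
    rw [if_neg h1, F.fval_t_power 5 (by rw [ht5]), Nat.card_of_isEmpty]
    norm_num

/-- the class function as a complex one -/
noncomputable def theta (g : G) : ℂ := (F.fval g : ℂ)

theorem theta_class : Cfsg.IsClassFunction G F.theta := fun g h => by
  rw [theta, theta, F.fval_conj (isConj_iff.2 ⟨h, rfl⟩ : IsConj g (h * g * h⁻¹))]

theorem gen_eleven {E : Subgroup G} [Group.IsNilpotent E] (h11 : 11 ∣ Nat.card E) :
    Cfsg.IsGeneralizedCharacter E (fun e : E => F.theta (e : G)) := by
  classical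
  haveI : Fact (Nat.Prime 11) := ⟨by norm_num⟩
  haveI := Fintype.ofFinite E
  obtain ⟨u, hu, huc⟩ := exists_central (E := E) h11
  have hle : E ≤ Subgroup.centralizer ({(u : G)} : Set G) := fun a ha =>
    Subgroup.mem_centralizer_singleton_iff.2 (congrArg Subtype.val (Subgroup.mem_center_iff.1 huc ⟨a, ha⟩))
  have hd := Subgroup.card_dvd_of_le hle
  rw [F.centralizer_eleven ((Subgroup.orderOf_coe u).trans hu)] at hd
  have hE : Nat.card E = 11 := Nat.dvd_antisymm hd h11
  refine ⟨Cfsg.indFun (⊥ : Subgroup E) (fun _ => (1 : ℂ)), 0, Char.isCharacter_indFun _ Char.isCharacter_one,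
    Char.isCharacter_zero, funext fun e => ?_⟩
  rw [Pi.sub_apply, Pi.zero_apply, sub_zero, indFun_bot, hE, theta]
  by_cases he : e = 1
  · subst he
    rw [if_pos rfl, OneMemClass.coe_one, F.fval_one]
    norm_num
  · rw [if_neg he, F.fval_eleven, Int.cast_zero]
    rw [Subgroup.orderOf_coe]
    have := orderOf_dvd_natCard e
    rw [hE] at this
    exact ((Nat.dvd_prime (by norm_num)).1 this).resolve_left fun h => he (orderOf_eq_one_iff.1 h)

/-- a generalized character on a group that receives the subgroup by conjugation -/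
theorem gen_conj {E H : Subgroup G} (k : G) (hk : ∀ a ∈ E, k * a * k⁻¹ ∈ H)
    (hgen : Cfsg.IsGeneralizedCharacter H (fun g : H => F.theta (g : G))) :
    Cfsg.IsGeneralizedCharacter E (fun e : E => F.theta (e : G)) := by
  let f : E →* H :=
    { toFun := fun a => ⟨k * a * k⁻¹, hk a a.2⟩
      map_one' := Subtype.ext (by simp)
      map_mul' := fun a b => Subtype.ext (by simp) }
  have e : (fun e : E => F.theta (e : G)) = (fun g : H => F.theta (g : G)) ∘ f := funext fun a => by
    show F.theta (a : G) = F.theta (k * a * k⁻¹)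
    rw [F.theta_class]
  rw [e]
  exact gen_pullback f hgen

theorem gen_into_C0 {E : Subgroup G} (k : G) (hk : ∀ a ∈ E, k * a * k⁻¹ * F.z = F.z * (k * a * k⁻¹)) :
    Cfsg.IsGeneralizedCharacter E (fun e : E => F.theta (e : G)) := by
  classical
  have h : ∀ a : E, ∃ c, F.ι c = k * a * k⁻¹ := fun a => F.D.exists_pre (hk a a.2)
  choose c hc using h
  let f : E →* C0 :=
    { toFun := c
      map_one' := F.inj (by rw [hc, map_one]; simp)
      map_mul' := fun a b => F.inj (by rw [hc, map_mul, hc, hc]; simp) }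
  have e : (fun e : E => F.theta (e : G)) = (fun d : C0 => (F.fval (F.ι d) : ℂ)) ∘ f := funext fun a => by
    show F.theta (a : G) = F.theta (F.ι (c a))
    rw [hc, F.theta_class]
  rw [e]
  exact gen_pullback' f F.gen_C0

theorem gen_elementary {E : Subgroup G} [Group.IsNilpotent E] :
    Cfsg.IsGeneralizedCharacter E (fun e : E => F.theta (e : G)) := by
  classical
  haveI : Fact (Nat.Prime 2) := ⟨Nat.prime_two⟩
  haveI : Fact (Nat.Prime 3) := ⟨Nat.prime_three⟩
  haveI : Fact (Nat.Prime 5) := ⟨by norm_num⟩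
  have hn : Nat.card E ∣ 95040 := F.card_eq ▸ Subgroup.card_subgroup_dvd_card E
  by_cases h11 : 11 ∣ Nat.card E
  · exact F.gen_eleven h11
  by_cases h5 : 5 ∣ Nat.card E
  · obtain ⟨u, hu, huc⟩ := exists_central (E := E) h5
    obtain ⟨k, hk⟩ := isConj_iff.1 (F.five_local.2.1 _ ((Subgroup.orderOf_coe u).trans hu)).symm
    refine F.gen_conj (H := Subgroup.centralizer ({F.five} : Set G)) k (fun a ha => ?_) F.gen_five
    rw [Subgroup.mem_centralizer_singleton_iff, ← hk]
    have e : a * (u : G) = u * a := congrArg Subtype.val (Subgroup.mem_center_iff.1 huc ⟨a, ha⟩)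
    calc k * a * k⁻¹ * (k * u * k⁻¹) = k * (a * u) * k⁻¹ := by group
      _ = k * (u * a) * k⁻¹ := by rw [e]
      _ = _ := by group
  by_cases h3 : 3 ∣ Nat.card E
  swap
  · have hd : Nat.card E ∣ 2 ^ 6 := by
      have e : Nat.Coprime (Nat.card E) (27 * 5 * 11) := by
        refine Nat.Coprime.mul_right (Nat.Coprime.mul_right ?_ ?_) ?_
        · rw [show (27 : ℕ) = 3 ^ 3 by norm_num]
          exact Nat.Coprime.pow_right _ (Nat.prime_three.coprime_iff_not_dvd.2 h3).symm
        · exact ((show Nat.Prime 5 by norm_num).coprime_iff_not_dvd.2 h5).symm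
        · exact ((show Nat.Prime 11 by norm_num).coprime_iff_not_dvd.2 h11).symm
      exact e.dvd_of_dvd_mul_left (show Nat.card E ∣ 27 * 5 * 11 * 2 ^ 6 from hn)
    obtain ⟨j, -, hj⟩ := (Nat.dvd_prime_pow Nat.prime_two).1 hd
    obtain ⟨Q, hQ⟩ := (IsPGroup.of_card hj).exists_le_sylow
    obtain ⟨P, hP⟩ := F.D.exists_sylow
    obtain ⟨k, hk⟩ := MulAction.exists_smul_eq G Q P
    refine F.gen_into_C0 k fun a ha => ?_
    have hm : k * a * k⁻¹ ∈ ((k • Q : Sylow 2 G) : Subgroup G) := ⟨a, hQ ha, rfl⟩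
    rw [hk, hP] at hm
    obtain ⟨c, -, hc⟩ := hm
    rw [← hc]
    exact F.D.commute_z c
  by_cases h2 : 2 ∣ Nat.card E
  swap
  · have hd : Nat.card E ∣ 3 ^ 3 := divisor_three _ hn h2 h5 h11
    obtain ⟨j, -, hj⟩ := (Nat.dvd_prime_pow Nat.prime_three).1 hd
    obtain ⟨Q, hQ⟩ := (IsPGroup.of_card hj).exists_le_sylow
    obtain ⟨S, s₁, s₂, hS⟩ := F.exists_data
    have hf : (Nat.card G).factorization 3 = 3 := by
      rw [F.card_eq, show (95040 : ℕ) = 3 ^ 3 * 3520 by norm_num,
        Nat.factorization_mul (by norm_num) (by norm_num), Finsupp.add_apply,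
        Nat.Prime.factorization_pow Nat.prime_three, Finsupp.single_eq_same,
        Nat.factorization_eq_zero_of_not_dvd (by norm_num)]
    let P : Sylow 3 G := Sylow.ofCard S (by rw [hS.card_S, hf]; norm_num)
    obtain ⟨k, hk⟩ := MulAction.exists_smul_eq G Q P
    refine F.gen_conj (H := S) k (fun a ha => ?_) (F.three_char hS)
    have hm : k * a * k⁻¹ ∈ ((k • Q : Sylow 3 G) : Subgroup G) := ⟨a, hQ ha, rfl⟩
    rw [hk] at hm
    exact hm
  obtain ⟨i, hi, hic⟩ := exists_central (E := E) h2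
  obtain ⟨w, hw, hwc⟩ := exists_central (E := E) h3
  have hEi : ∀ a ∈ E, a * (i : G) = i * a := fun a ha =>
    congrArg Subtype.val (Subgroup.mem_center_iff.1 hic ⟨a, ha⟩)
  have hconjc : ∀ (k x a : G), a * x = x * a → k * a * k⁻¹ * (k * x * k⁻¹) = k * x * k⁻¹ * (k * a * k⁻¹) :=
    fun k x a e => by
      calc k * a * k⁻¹ * (k * x * k⁻¹) = k * (a * x) * k⁻¹ := by group
        _ = k * (x * a) * k⁻¹ := by rw [e]
        _ = _ := by group
  rcases F.classesInvol (i : G) ((Subgroup.orderOf_coe i).trans hi) with h | h <;>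
    obtain ⟨k, hk⟩ := isConj_iff.1 h.symm
  · exact F.gen_into_C0 k fun a ha => hk ▸ hconjc k _ a (hEi a ha)
  · -- the centraliser of a non-central involution
    have h' : ∀ a : E, ∃ q, F.ofM q = k * a * k⁻¹ := fun a => F.exists_ofM (hk ▸ hconjc k _ a (hEi a a.2))
    choose q hq using h'
    let f : E →* M5 :=
      { toFun := q
        map_one' := F.ofM_injective (by rw [hq, F.ofM_one]; simp)
        map_mul' := fun a b => F.ofM_injective (by rw [hq, F.ofM_mul, hq, hq]; simp) }
    have hw3 : orderOf (q w) = 3 := by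
      rw [← F.orderOf_ofM, hq, ← MulAut.conj_apply, MulEquiv.orderOf_eq, Subgroup.orderOf_coe, hw]
    have hw3' := (orderOf_eq_prime_iff (p := 3)).1 hw3
    have h1 : (q w).1 = 1 := two_cube _ (congrArg Prod.fst hw3'.1)
    obtain ⟨v, hv⟩ := perm_three (q w).2 (by
      have h : (q w).2 ^ 3 = 1 := congrArg Prod.snd hw3'.1
      rwa [pow_succ, sq] at h) fun e => hw3'.2 (Prod.ext h1 e)
    have hv' : ((1, v) : M5) * (1, cyc3) * (1, v)⁻¹ = q w := Prod.ext (by simp [h1]) hv
    let f' : E →* Subgroup.centralizer ({((1, cyc3) : M5)} : Set M5) :=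
      ((MulAut.conj ((1, v) : M5)⁻¹).toMonoidHom.comp f).codRestrict _ fun a => by
        rw [Subgroup.mem_centralizer_singleton_iff]
        show (1, v)⁻¹ * q a * ((1, v) : M5)⁻¹⁻¹ * (1, cyc3) = (1, cyc3) * ((1, v)⁻¹ * q a * ((1, v) : M5)⁻¹⁻¹)
        have e : q a * q w = q w * q a := by
          change f a * f w = f w * f a
          rw [← map_mul, ← map_mul, Subgroup.mem_center_iff.1 hwc a]
        rw [← hv'] at e
        calc (1, v)⁻¹ * q a * ((1, v) : M5)⁻¹⁻¹ * (1, cyc3)
            = (1, v)⁻¹ * (q a * ((1, v) * (1, cyc3) * (1, v)⁻¹)) * (1, v) := by group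
          _ = (1, v)⁻¹ * ((1, v) * (1, cyc3) * (1, v)⁻¹ * q a) * (1, v) := by rw [e]
          _ = _ := by group
    have e : (fun e : E => F.theta (e : G)) =
        (fun p : Subgroup.centralizer ({((1, cyc3) : M5)} : Set M5) => (F.fval (F.ofM p.1) : ℂ)) ∘ f' := by
      funext a
      show F.theta (a : G) = F.theta (F.ofM ((1, v)⁻¹ * q a * ((1, v) : M5)⁻¹⁻¹))
      have hinv : F.ofM ((1, v) : M5)⁻¹ = (F.ofM (1, v))⁻¹ :=
        eq_inv_of_mul_eq_one_left (by rw [← F.ofM_mul, inv_mul_cancel, F.ofM_one])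
      rw [F.ofM_mul, F.ofM_mul, hinv, hq, inv_inv]
      conv_rhs => rw [← inv_inv (F.ofM (1, v))]
      rw [inv_inv (F.ofM (1, v))⁻¹, F.theta_class, F.theta_class]
    rw [e]
    exact gen_pullback' f' F.gen_ct_three

/-- The class function is an irreducible character. -/
theorem theta_irr : Cfsg.IsIrrCharacter G F.theta := by
  classical
  haveI := Fintype.ofFinite G
  have hgen : Cfsg.IsGeneralizedCharacter G F.theta :=
    Char.brauer_characterization F.theta_class fun E p hp hE => by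
      haveI := Char.isNilpotent_of_isElementary hp hE
      exact F.gen_elementary
  obtain ⟨z, hz, -⟩ := Char.exists_int_coords hgen
  have hnorm : Cfsg.classInner F.theta F.theta = 1 := by
    rw [Cfsg.classInner, F.card_eq]
    have : ∑ g : G, F.theta g * (starRingEnd ℂ) (F.theta g) = 95040 := by
      have h := congrArg (fun n : ℤ => (n : ℂ)) F.fval_sum.1
      push_cast at h
      rw [← h]
      exact Finset.sum_congr rfl fun g _ => by rw [theta, map_intCast]
    rw [this]
    norm_num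
  rw [Char.classInner_int_combination hz] at hnorm
  have hsum : ∑ χ, z χ * z χ = 1 := by exact_mod_cast hnorm
  obtain ⟨χ₀, -, hχ₀⟩ := Finset.exists_ne_zero_of_sum_ne_zero (by rw [hsum]; norm_num :
    ∑ χ, z χ * z χ ≠ 0)
  have hrest : ∀ χ, χ ≠ χ₀ → z χ = 0 := fun χ hne => by
    have h := Finset.add_le_sum (f := fun χ => z χ * z χ) (fun _ _ => mul_self_nonneg _)
      (Finset.mem_univ χ) (Finset.mem_univ χ₀) hne
    have h0 : 0 < z χ₀ * z χ₀ := lt_of_le_of_ne (mul_self_nonneg _) (Ne.symm hχ₀)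
    rw [hsum] at h
    exact mul_self_eq_zero.1 (le_antisymm (by omega) (mul_self_nonneg _))
  rw [Finset.sum_eq_single χ₀ (fun χ _ hne => by rw [hrest χ hne, mul_zero]) (by simp)] at hsum
  have hθ : F.theta = (z χ₀ : ℂ) • (χ₀ : G → ℂ) := by
    rw [hz, Finset.sum_eq_single χ₀ (fun χ _ hne => by rw [hrest χ hne, Int.cast_zero, zero_smul]) (by simp)]
  rcases Int.eq_one_or_neg_one_of_mul_eq_one hsum with e | e
  · rw [hθ, e, Int.cast_one, one_smul]
    exact χ₀.2
  · exfalso
    obtain ⟨n, hn⟩ := Char.charOne_eq_natCast (Char.irr_isCharacter χ₀.2)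
    have h1 := congrFun hθ 1
    rw [theta, F.fval_one, e, Pi.smul_apply, hn, smul_eq_mul] at h1
    have : (11 : ℤ) = -1 * (n : ℤ) := by exact_mod_cast h1
    omega

theorem theta_sum [Fintype G] : ∑ g : G, F.fval g = 0 := F.fval_sum.2

end Frame

end Cfsg.Agent.MTwelve
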