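import Cfsg.Agent.Lib.Spor.MTwelve.Classes

/-!
The class function of degree eleven on a frame.
-/

set_option autoImplicit false
set_option linter.style.haveILetI false
set_option linter.unusedSectionVars false

namespace Cfsg.Agent.MTwelve

open C0

theorem repVal_small : ∀ i : Fin 13, repVal i ≤ 11 ∧ (repVal i = 11 → i = 0) := by decide

namespace Frame

variable {G : Type*} [Group G] (F : Frame G)

/-- the class function -/
noncomputable def fval (g : G) : ℤ :=
  @dite _ (∃ i, IsConj (F.rep i) g) (Classical.dec _) (fun h => repVal h.choose) fun _ => 0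

variable [Finite G] [IsSimpleGroup G]

theorem fval_rep {i : Fin 13} {g : G} (h : IsConj (F.rep i) g) : F.fval g = repVal i := by
  have h' : ∃ j, IsConj (F.rep j) g := ⟨i, h⟩
  rw [fval, dif_pos h', F.rep_inj _ i (h'.choose_spec.trans h.symm)]

theorem fval_eleven {g : G} (h : orderOf g = 11) : F.fval g = 0 := by
  rw [fval, dif_neg]
  rintro ⟨i, hi⟩
  exact F.rep_not_eleven i ((Fusion.orderOf_isConj hi).trans h)

theorem fval_conj {g h : G} (hc : IsConj g h) : F.fval g = F.fval h := by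
  rcases F.cover g with e | ⟨i, hi⟩
  · rw [F.fval_eleven e, F.fval_eleven ((Fusion.orderOf_isConj hc).symm.trans e)]
  · rw [F.fval_rep hi, F.fval_rep (hi.trans hc)]

theorem fval_one : F.fval 1 = 11 := F.fval_rep (i := 0) (IsConj.refl (1 : G))

theorem fval_z {g : G} (h : IsConj F.z g) : F.fval g = 3 := F.fval_rep (i := 1) h

theorem fval_t {g : G} (h : IsConj F.D.t g) : F.fval g = -1 := F.fval_rep (i := 2) h

theorem fval_x {g : G} (h : IsConj (F.ι (repK 5)) g) : F.fval g = 2 := F.fval_rep (i := 10) h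

theorem fval_y {g : G} (h : IsConj (F.ofM (1, cyc3)) g) : F.fval g = -1 := F.fval_rep (i := 11) h

theorem fval_five {g : G} (h : IsConj F.five g) : F.fval g = 1 := F.fval_rep (i := 12) h

theorem fval_t_power {g : G} (m : ℕ) (h : IsConj F.D.t (g ^ m)) : F.fval g = -1 := by
  obtain ⟨k, hk⟩ := isConj_iff.1 h.symm
  have hpow : (k * g * k⁻¹) ^ m = F.D.t := by rw [conj_pow]; exact hk
  obtain ⟨q, hq⟩ := F.exists_ofM (g := k * g * k⁻¹) (by rw [← hpow]; exact (Commute.self_pow _ m).eq)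
  have hqt : hits ((gen2, 1) : M5) q q 60 = true := (zpowers_iff_hits _ q 60 (by norm_num) (sym5_pow q)).1 (by
    refine Subgroup.mem_zpowers_iff.2 ⟨m, F.ofM_injective ?_⟩
    rw [zpow_natCast, F.ofM_pow, hq, hpow, F.ofM_t])
  have hconj : ∀ p : M5, (∃ u : M5, u * p * u⁻¹ = q) → IsConj (F.ofM p) g := by
    rintro p ⟨u, hu⟩
    refine (isConj_iff.2 ⟨F.ofM u, ?_⟩ : IsConj _ (F.ofM q)).trans (isConj_iff.2 ⟨k⁻¹, by rw [hq]; group⟩)
    have : u * p = q * u := by rw [← hu]; group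
    rw [← F.ofM_mul, this, F.ofM_mul, mul_inv_cancel_right]
  rcases t_power_conj q hqt with e | e | e
  · exact F.fval_t (by have := hconj _ e; rwa [F.ofM_t] at this)
  · exact F.fval_rep (i := 8) (hconj _ e)
  · exact F.fval_rep (i := 9) (hconj _ e)

/-- an involution not conjugate to the central one -/
theorem isConj_t_of_not {g : G} (ho : orderOf g = 2) (h : ¬ IsConj F.z g) : IsConj F.D.t g :=
  (F.classesInvol g ho).resolve_left h

theorem kd_zero_one (c : C0) (h : kd c = 0) : c = 1 := by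
  have := order_eq_ordK c
  rw [h, show ordK 0 = 1 from rfl] at this
  exact orderOf_eq_one_iff.1 this

theorem fval_iota_roots {c : C0} (h : kd c = 7 ∨ kd c = 9) : F.fval (F.ι c) = (fx c : ℤ) - 1 := by
  obtain ⟨k, hk⟩ := sq_a0_conj c h
  obtain ⟨g, hg⟩ := isConj_iff.1 F.isX_a
  have hzx : g⁻¹ * F.ι (k * c * k⁻¹) * g * F.z = F.z * (g⁻¹ * F.ι (k * c * k⁻¹) * g) := by
    have e : F.ι (k * c * k⁻¹) * F.ι a0 = F.ι a0 * F.ι (k * c * k⁻¹) := by
      rw [← hk, ← map_mul, ← map_mul]; group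
    rw [← hg] at e
    calc g⁻¹ * F.ι (k * c * k⁻¹) * g * F.z = g⁻¹ * (F.ι (k * c * k⁻¹) * (g * F.z * g⁻¹)) * g := by group
      _ = g⁻¹ * (g * F.z * g⁻¹ * F.ι (k * c * k⁻¹)) * g := by rw [e]
      _ = _ := by group
  obtain ⟨c', hc'⟩ := F.D.exists_pre hzx
  have hfx := F.aligned (k * c * k⁻¹) c' g hk hg hc'.symm
  have hsq : c' * c' = z0 := F.inj (by
    rw [map_mul, hc', F.map_z]
    have e : F.ι (k * c * k⁻¹) * F.ι (k * c * k⁻¹) = g * F.z * g⁻¹ := by rw [← map_mul, hk, hg]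
    calc g⁻¹ * F.ι (k * c * k⁻¹) * g * (g⁻¹ * F.ι (k * c * k⁻¹) * g)
        = g⁻¹ * (F.ι (k * c * k⁻¹) * F.ι (k * c * k⁻¹)) * g := by group
      _ = F.z := by rw [e]; group)
  have hconj : IsConj (F.ι c) (F.ι c') :=
    (isConj_iff.2 ⟨F.ι k, by rw [← map_inv, ← map_mul, ← map_mul]⟩ : IsConj _ (F.ι (k * c * k⁻¹))).trans
      (isConj_iff.2 ⟨g⁻¹, by rw [hc']; group⟩)
  have hfc : fx (k * c * k⁻¹) = fx c := by rw [(class_data _).2.1, (class_data c).2.1, kd_conj]
  rw [F.fval_conj hconj, ← hfc, ← hfx]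
  obtain ⟨d, hd⟩ := conj_repK c'
  have hrep : IsConj (F.ι (repK (kd c'))) (F.ι c') := isConj_iff.2 ⟨F.ι d, by rw [← map_inv, ← map_mul, ← map_mul, hd]⟩
  rw [(class_data c').2.1]
  rcases sq_z0_kinds c' hsq with e | e <;> rw [e] at hrep ⊢
  · rw [F.fval_rep (i := 3) hrep]; decide
  · rw [F.fval_rep (i := 4) hrep]; decide

theorem fval_iota (c : C0) : F.fval (F.ι c) = (fx c : ℤ) - 1 := by
  obtain ⟨hk, hf, -, -⟩ := class_data c
  obtain ⟨d, hd⟩ := conj_repK c
  have hrep : IsConj (F.ι (repK (kd c))) (F.ι c) := isConj_iff.2 ⟨F.ι d, by rw [← map_inv, ← map_mul, ← map_mul, hd]⟩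
  by_cases h79 : kd c = 7 ∨ kd c = 9
  · exact F.fval_iota_roots h79
  rw [hf]
  by_cases h4 : 1 ≤ kd c ∧ kd c ≤ 4
  · have hX := F.D.isX_rep h4.1 h4.2
    rcases (by omega : kd c = 1 ∨ kd c = 2 ∨ kd c = 3 ∨ kd c = 4) with e | e | e | e <;> rw [e] at hX ⊢
    · rw [e, F.z_eq] at hrep
      rw [F.fval_z hrep]; decide
    · rw [F.fval_z (hX.2 F.isX_r)]; decide
    · rw [F.fval_z (hX.2 F.isX_a)]; decide
    · have ho : orderOf (F.ι c) = 2 := by rw [orderOf_injective _ F.inj, order_eq_ordK, e]; decide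
      rw [F.fval_t (F.isConj_t_of_not ho fun h => F.D.not_isX_b0 (hX.1 h))]; decide
  · rcases (by omega : kd c = 0 ∨ kd c = 5 ∨ kd c = 6 ∨ kd c = 8 ∨ kd c = 10 ∨ kd c = 11 ∨ kd c = 12)
      with e | e | e | e | e | e | e <;> rw [e] at hrep ⊢
    · rw [kd_zero_one c e, map_one, F.fval_one]; decide
    · rw [F.fval_x hrep]; decide
    · rw [F.fval_rep (i := 3) hrep]; decide
    · rw [F.fval_rep (i := 4) hrep]; decide
    · rw [F.fval_rep (i := 5) hrep]; decide
    · rw [F.fval_rep (i := 6) hrep]; decide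
    · rw [F.fval_rep (i := 7) hrep]; decide

theorem fval_sum [Fintype G] : ∑ g : G, F.fval g * F.fval g = 95040 ∧ ∑ g : G, F.fval g = 0 := by
  constructor
  · rw [F.sum_classes (fun g => F.fval g * F.fval g) (fun i => repVal i * repVal i) 0
      (fun i g h => by rw [F.fval_rep h]) (fun g h => by rw [F.fval_eleven h, mul_zero])]
    decide +kernel
  · rw [F.sum_classes (fun g => F.fval g) repVal 0
      (fun i g h => F.fval_rep h) (fun g h => F.fval_eleven h)]
    decide +kernel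

end Frame

end Cfsg.Agent.MTwelve
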