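import Cfsg.Agent.Lib.Spor.MTwelve.OrderFacts

/-!
Finite facts on the two centralisers of involutions, for the class list.
-/

set_option autoImplicit false
set_option maxRecDepth 100000
set_option synthInstance.maxSize 2000
set_option maxHeartbeats 4000000
set_option Elab.async false

namespace Cfsg.Agent.MTwelve

open C0

/-- representatives of the thirteen classes of the model -/
def repK (k : ℕ) : C0 := el (([0, 1, 2, 18, 32, 44, 76, 82, 94, 96, 112, 144, 168] : List ℕ).getD k 0)

/-- fixed points by class -/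
def fxK (k : ℕ) : ℕ := ([12, 4, 4, 4, 0, 3, 4, 4, 0, 0, 1, 2, 0] : List ℕ).getD k 0

/-- order by class -/
def ordK (k : ℕ) : ℕ := ([1, 2, 2, 2, 2, 3, 4, 4, 4, 4, 6, 8, 8] : List ℕ).getD k 0

theorem class_data : ∀ c : C0, kd c < 13 ∧ fx c = fxK (kd c) ∧ c ^ ordK (kd c) = 1 ∧
    (∀ m ∈ List.range' 1 (ordK (kd c) - 1), c ^ m ≠ 1) := fun c => by
  have h := forall_of_all (p := fun c : C0 => decide (kd c < 13) && decide (fx c = fxK (kd c)) &&
    decide (c ^ ordK (kd c) = 1) && (List.range' 1 (ordK (kd c) - 1)).all fun m => !(c ^ m == 1))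
    (by decide +kernel) c
  simp only [Bool.and_eq_true, decide_eq_true_eq, List.all_eq_true, Bool.not_eq_true', beq_eq_false_iff_ne] at h
  exact ⟨h.1.1.1, h.1.1.2, h.1.2, h.2⟩

theorem order_eq_ordK (c : C0) : orderOf c = ordK (kd c) := by
  obtain ⟨h1, -, h3, h4⟩ := class_data c
  have h0 : 0 < ordK (kd c) := by
    generalize kd c = k at h1
    interval_cases k <;> decide
  rw [orderOf_eq_iff h0]
  exact ⟨h3, fun m hm hm0 => h4 m (List.mem_range'_1.2 ⟨hm0, by omega⟩)⟩

/-- a conjugator from the representative -/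
def repConj (c : C0) : C0 := ofNat' ((0x331c321a0c1e0a12060840432f0e102e04023a3925182400141635341c3a381a1e25291808063c3d0a44450c120e020035202112571659141053550e2846291e25243f185d5b1c1a0c0408022f2e2d00140a1c1a210a0806061a100e0402240002001c1a210a0806100e04022400060c020a080021352012591657145355100e4628291e3f2425185b5d1c1a04080c022d2f2e000a310c302c062e1a120402000c0a3516371408063b1c391a200025292418082d2e060c32310a202104000000 >>> (8 * c.idx.val)) % 256)

theorem conj_repK (c : C0) : ∃ k : C0, k * repK (kd c) * k⁻¹ = c :=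
  ⟨repConj c, eq_of_beq (forall_of_all (p := fun c => repConj c * repK (kd c) * (repConj c)⁻¹ == c)
    (by decide +kernel) c)⟩

theorem kd_conj (c k : C0) : kd (k * c * k⁻¹) = kd c := by
  have hA : ∀ c, kd (genA * c * genA⁻¹) = kd c := fun c =>
    eq_of_beq (forall_of_all (p := fun c => kd (genA * c * genA⁻¹) == kd c) (by decide +kernel) c)
  have hB : ∀ c, kd (genB * c * genB⁻¹) = kd c := fun c =>
    eq_of_beq (forall_of_all (p := fun c => kd (genB * c * genB⁻¹) == kd c) (by decide +kernel) c)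
  revert c
  refine word_induction (P := fun k => ∀ c, kd (k * c * k⁻¹) = kd c) ?_ ?_ ?_ k
  · intro c; simp
  · intro x hx c
    rw [show genA * x * c * (genA * x)⁻¹ = genA * (x * c * x⁻¹) * genA⁻¹ by group, hA, hx]
  · intro x hx c
    rw [show genB * x * c * (genB * x)⁻¹ = genB * (x * c * x⁻¹) * genB⁻¹ by group, hB, hx]

theorem z_power_kinds (c : C0) (h : hits z0 c c 24 = true) :
    kd c = 1 ∨ kd c = 6 ∨ kd c = 8 ∨ kd c = 10 ∨ kd c = 11 ∨ kd c = 12 := by
  have h' := forall_of_all (p := fun c => !(hits z0 c c 24) ||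
    (kd c == 1 || kd c == 6 || kd c == 8 || kd c == 10 || kd c == 11 || kd c == 12)) (by decide +kernel) c
  simp only [h, Bool.not_true, Bool.false_or, Bool.or_eq_true, beq_iff_eq] at h'
  rcases h' with ((((h | h) | h) | h) | h) | h <;> simp [h]

theorem half_power (c : C0) (h : kd c = 1 ∨ kd c = 6 ∨ kd c = 8 ∨ kd c = 10 ∨ kd c = 11 ∨ kd c = 12) :
    c ^ (ordK (kd c) / 2) = z0 := by
  have h' := forall_of_all (p := fun c => !(kd c == 1 || kd c == 6 || kd c == 8 || kd c == 10 || kd c == 11 ||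
    kd c == 12) || c ^ (ordK (kd c) / 2) == z0) (by decide +kernel) c
  rcases h with e | e | e | e | e | e <;> simpa [e] using h'

theorem rep_counts : kd (repK 1) = 1 ∧ kd (repK 5) = 5 ∧ kd (repK 6) = 6 ∧ kd (repK 8) = 8 ∧ kd (repK 10) = 10 ∧
    kd (repK 11) = 11 ∧ kd (repK 12) = 12 ∧ (centList (repK 1)).length = 192 ∧ (centList (repK 5)).length = 6 ∧
    (centList (repK 6)).length = 32 ∧ (centList (repK 8)).length = 32 ∧ (centList (repK 10)).length = 6 ∧
    (centList (repK 11)).length = 8 ∧ (centList (repK 12)).length = 8 := by decide +kernel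

theorem x0_involution (c : C0) (h : c * repK 5 = repK 5 * c) (h2 : c * c = 1) (h1 : c ≠ 1) : c = z0 := by
  have h' := forall_of_all (p := fun c => !(c * repK 5 == repK 5 * c && c * c == 1 && !(c == 1)) || c == z0)
    (by decide +kernel) c
  simpa [h, h2, h1] using h'

theorem three_power (c : C0) (h : c ^ 27 = 1) (h1 : c ≠ 1) : kd c = 5 := by
  have h' := forall_of_all (p := fun c => !(c ^ 27 == 1 && !(c == 1)) || kd c == 5) (by decide +kernel) c
  simpa [h, h1] using h'

theorem sq_a0_conj (c : C0) (h : kd c = 7 ∨ kd c = 9) : ∃ k : C0, (k * c * k⁻¹) * (k * c * k⁻¹) = a0 := by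
  have h' := forall_of_all (p := fun c => !(kd c == 7 || kd c == 9) ||
    allEl.any fun k => (k * c * k⁻¹) * (k * c * k⁻¹) == a0) (by decide +kernel) c
  have h2 : ∃ k : C0, (k * c * k⁻¹) * (k * c * k⁻¹) = a0 := by
    rw [show (kd c == 7 || kd c == 9) = true by rcases h with e | e <;> simp [e]] at h'
    simp only [Bool.not_true, Bool.false_or] at h'
    obtain ⟨k, -, hk⟩ := List.any_eq_true.1 h'
    exact ⟨k, eq_of_beq hk⟩
  exact h2

theorem sq_a0_kinds (x : C0) (h : x * x = a0) : kd x = 7 ∨ kd x = 9 := by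
  have h' := forall_of_all (p := fun c => !(c * c == a0) || (kd c == 7 || kd c == 9)) (by decide +kernel) x
  simpa [h] using h'

theorem sq_z0_kinds (x : C0) (h : x * x = z0) : kd x = 6 ∨ kd x = 8 := by
  have h' := forall_of_all (p := fun c => !(c * c == z0) || (kd c == 6 || kd c == 8)) (by decide +kernel) x
  simpa [h] using h'

theorem roots_a0 (x y : C0) (hx : x * x = a0) (hy : y * y = a0) :
    (fx x = fx y ↔ (y = x ∨ y = x⁻¹)) := by
  have h := forall_of_all (p := fun x => !(x * x == a0) ||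
    allEl.all fun y => !(y * y == a0) || ((fx x == fx y) == (y == x || y == x⁻¹))) (by decide +kernel) x
  simp only [hx, beq_self_eq_true, Bool.not_true, Bool.false_or, List.all_eq_true] at h
  have h2 := h y (mem_allEl y)
  simp only [hy, beq_self_eq_true, Bool.not_true, Bool.false_or, beq_iff_eq] at h2
  constructor
  · intro e; simpa [e] using h2.symm
  · intro e; rcases e with e | e <;> simp [e] at h2 ⊢ <;> exact h2

theorem roots_z0 (w c d : C0) (hw : kd w = 3) (hc : c * w = w * c) (hd : d * w = w * d) (hc2 : c * c = z0)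
    (hd2 : d * d = z0) : (fx c = fx d ↔ (d = c ∨ d = c⁻¹)) := by
  have h := forall_of_all (p := fun w => !(kd w == 3) || (centList w).all fun c => !(c * c == z0) ||
    (centList w).all fun d => !(d * d == z0) || ((fx c == fx d) == (d == c || d == c⁻¹))) (by decide +kernel) w
  simp only [hw, beq_self_eq_true, Bool.not_true, Bool.false_or, List.all_eq_true] at h
  have h1 := h c (mem_centList.2 hc)
  simp only [hc2, beq_self_eq_true, Bool.not_true, Bool.false_or, List.all_eq_true] at h1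
  have h2 := h1 d (mem_centList.2 hd)
  simp only [hd2, beq_self_eq_true, Bool.not_true, Bool.false_or, beq_iff_eq] at h2
  constructor
  · intro e; simpa [e] using h2.symm
  · intro e; rcases e with e | e <;> simp [e] at h2 ⊢ <;> exact h2

theorem eps_facts : ∀ c : C0, epsFun (epsFun c) = c ∧ (c * c = z0 → fx (epsFun c) = fx c) ∧
    (c * c = a0 → fx (epsFun c) + fx c = 4) := fun c => by
  have h := forall_of_all (p := fun c => decide (epsFun (epsFun c) = c ∧ (c * c = z0 → fx (epsFun c) = fx c) ∧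
    (c * c = a0 → fx (epsFun c) + fx c = 4))) (by decide +kernel) c
  exact of_decide_eq_true h

theorem eps_fixed : epsFun z0 = z0 ∧ epsFun a0 = a0 ∧ epsFun 1 = 1 ∧ el 88 * el 88 = a0 := by decide +kernel

/-- a three-cycle -/
def cyc3 : Equiv.Perm (Fin 5) := Equiv.swap 0 1 * Equiv.swap 1 2

/-- a five-cycle -/
def cyc5 : Equiv.Perm (Fin 5) := Equiv.swap 0 1 * Equiv.swap 1 2 * Equiv.swap 2 3 * Equiv.swap 3 4

/-- the model of the second centraliser -/
abbrev M5 := Two × Equiv.Perm (Fin 5)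

theorem m5_cents : (Finset.univ.filter fun g : M5 => g * (gen2, cyc3) = (gen2, cyc3) * g).card = 12 ∧
    (Finset.univ.filter fun g : M5 => g * (gen2, cyc5) = (gen2, cyc5) * g).card = 10 ∧
    (Finset.univ.filter fun g : M5 => g * (1, cyc3) = (1, cyc3) * g).card = 12 ∧
    (Finset.univ.filter fun g : M5 => g * (1, cyc5) = (1, cyc5) * g).card = 10 := by
  decide +kernel

theorem m5_invol_three : ∀ q : M5, q * q = 1 → q ≠ 1 → q * ((1, cyc3) : M5) = ((1, cyc3) : M5) * q →
    ¬ (q.1 = 1 ∧ IsDbl q.2) := by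
  decide +kernel

theorem m5_invol_five : ∀ q : M5, q * q = 1 → q ≠ 1 → q * ((1, cyc5) : M5) = ((1, cyc5) : M5) * q → q = (gen2, 1) := by
  decide +kernel

theorem perm_three : ∀ v : Equiv.Perm (Fin 5), v * v * v = 1 → v ≠ 1 → ∃ g, g * cyc3 * g⁻¹ = v := by
  decide +kernel

theorem perm_five : ∀ v : Equiv.Perm (Fin 5), v * v * v * v * v = 1 → v ≠ 1 → ∃ g, g * cyc5 * g⁻¹ = v := by
  decide +kernel

theorem t_power_conj : ∀ q : M5, hits ((gen2, 1) : M5) q q 60 = true →
    (∃ g : M5, g * (gen2, 1) * g⁻¹ = q) ∨ (∃ g : M5, g * (gen2, cyc3) * g⁻¹ = q) ∨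
      (∃ g : M5, g * (gen2, cyc5) * g⁻¹ = q) := by
  rintro ⟨a, v⟩ hq
  obtain ⟨ha, h⟩ := (hits_two _ (perm5_exp v)).1 hq
  obtain rfl : a = gen2 := (two_cases a).resolve_left ha
  by_cases hv : v = 1
  · subst hv; exact Or.inl ⟨1, by simp⟩
  · rcases h with h | h
    · obtain ⟨g, rfl⟩ := perm_three v h hv
      exact Or.inr (Or.inl ⟨(1, g), Prod.ext (by simp) rfl⟩)
    · obtain ⟨g, rfl⟩ := perm_five v h hv
      exact Or.inr (Or.inr ⟨(1, g), Prod.ext (by simp) rfl⟩)

theorem m5_elements : ((gen2, cyc3) : M5) ^ 3 = (gen2, 1) ∧ ((gen2, cyc5) : M5) ^ 5 = (gen2, 1) ∧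
    ((gen2, cyc3) : M5) ^ 4 = (1, cyc3) ∧ ((gen2, cyc5) : M5) ^ 6 = (1, cyc5) ∧ cyc3 ^ 3 = 1 ∧ cyc3 ≠ 1 ∧
    cyc5 ^ 5 = 1 ∧ cyc5 ≠ 1 := by decide +kernel

end Cfsg.Agent.MTwelve
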