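import Cfsg.Agent.Lib.Spor.MTwelve.Centralizers

/-!
The conjugacy classes of a frame.
-/

set_option autoImplicit false
set_option linter.style.haveILetI false
set_option linter.unusedSectionVars false

namespace Cfsg.Agent.MTwelve

open C0

theorem divisor_three (n : ℕ) (h : n ∣ 95040) (h2 : ¬ 2 ∣ n) (h5 : ¬ 5 ∣ n) (h11 : ¬ 11 ∣ n) : n ∣ 27 := by
  have e : Nat.Coprime n (64 * 5 * 11) := by
    refine Nat.Coprime.mul_right (Nat.Coprime.mul_right ?_ ?_) ?_
    · rw [show (64 : ℕ) = 2 ^ 6 by norm_num]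
      exact Nat.Coprime.pow_right _ ((Nat.prime_two.coprime_iff_not_dvd).2 h2).symm
    · exact ((show Nat.Prime 5 by norm_num).coprime_iff_not_dvd.2 h5).symm
    · exact ((show Nat.Prime 11 by norm_num).coprime_iff_not_dvd.2 h11).symm
  exact e.dvd_of_dvd_mul_left (show n ∣ 64 * 5 * 11 * 27 from h)

theorem two_cube_free : ∀ a : Two, a ^ 3 = 1 → a = 1 := by decide

theorem two_times_three (k : ℕ) (hk : k ≤ 27) (h : k ∣ 27) (h3 : 3 ∣ 2 * k) : 2 * k ∈ ({6, 18, 54} : Finset ℕ) := by
  have key : ∀ k : Fin 28, (k : ℕ) ∣ 27 → 3 ∣ 2 * (k : ℕ) → 2 * (k : ℕ) ∈ [6, 18, 54] := by decide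
  simpa using key ⟨k, by omega⟩ h h3

theorem twelve_product (b a : ℕ) (hb : b ≤ 4) (ha : a ≤ 27) (hb4 : b ∣ 4) (ha27 : a ∣ 27) (h : 12 ∣ b * a) :
    b * a ∈ ({12, 36, 108} : Finset ℕ) := by
  have key : ∀ b : Fin 5, ∀ a : Fin 28, (b : ℕ) ∣ 4 → (a : ℕ) ∣ 27 → 12 ∣ (b : ℕ) * (a : ℕ) →
      (b : ℕ) * (a : ℕ) ∈ [12, 36, 108] := by decide +kernel
  simpa using key ⟨b, by omega⟩ ⟨a, by omega⟩ hb4 ha27 h

/-- orders of the class representatives -/
def repOrd (i : Fin 13) : ℕ := ([1, 2, 2, 4, 4, 6, 8, 8, 6, 10, 3, 3, 5] : List ℕ).getD i 0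

/-- sizes of the classes -/
def repSize (i : Fin 13) : ℕ :=
  ([1, 495, 396, 2970, 2970, 15840, 11880, 11880, 7920, 9504, 1760, 2640, 9504] : List ℕ).getD i 0

/-- values of the character of degree eleven -/
def repVal (i : Fin 13) : ℤ := ([11, 3, -1, 3, -1, 0, 1, -1, -1, -1, 2, -1, 1] : List ℤ).getD i 0

namespace Frame

variable {G : Type*} [Group G] (F : Frame G)

/-- class representatives other than the elements of order eleven -/
def rep : Fin 13 → G :=
  ![1, F.z, F.D.t, F.ι (repK 6), F.ι (repK 8), F.ι (repK 10), F.ι (repK 11), F.ι (repK 12),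
    F.ofM (gen2, cyc3), F.ofM (gen2, cyc5), F.ι (repK 5), F.ofM (1, cyc3), F.five]

theorem z_eq : F.ι (repK 1) = F.z := by
  rw [show repK 1 = z0 from by decide +kernel, F.map_z]

theorem order_iota (k : ℕ) (hk : kd (repK k) = k) : orderOf (F.ι (repK k)) = ordK k := by
  rw [orderOf_injective _ F.inj, order_eq_ordK, hk]

theorem order_three_model : orderOf ((1, cyc3) : M5) = 3 ∧ orderOf ((gen2, cyc3) : M5) = 6 ∧
    orderOf ((gen2, cyc5) : M5) = 10 := by
  refine ⟨?_, ?_, ?_⟩ <;> rw [orderOf_eq_iff (by norm_num)] <;> decide +kernel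

variable [Finite G] [IsSimpleGroup G]

theorem rep_order (i : Fin 13) : orderOf (F.rep i) = repOrd i := by
  obtain ⟨h1, h5, h6, h8, h10, h11, h12, -⟩ := rep_counts
  obtain ⟨y3, p3, p5⟩ := order_three_model
  fin_cases i
  · exact orderOf_one
  · exact F.D.z_order
  · exact F.D.t_order
  · exact (F.order_iota 6 h6).trans (by decide)
  · exact (F.order_iota 8 h8).trans (by decide)
  · exact (F.order_iota 10 h10).trans (by decide)
  · exact (F.order_iota 11 h11).trans (by decide)
  · exact (F.order_iota 12 h12).trans (by decide)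
  · exact (F.orderOf_ofM _).trans p3
  · exact (F.orderOf_ofM _).trans p5
  · exact (F.order_iota 5 h5).trans (by decide)
  · exact (F.orderOf_ofM _).trans y3
  · exact F.order_five

/-- involutions commuting with the element of order three in the model centralise it through the first class -/
theorem x_involution {i : G} (hi : orderOf i = 2) (hc : i * F.ι (repK 5) = F.ι (repK 5) * i)
    (hz : i * F.z = F.z * i) : i = F.z := by
  obtain ⟨c, rfl⟩ := F.D.exists_pre hz
  rw [orderOf_injective _ F.inj, orderOf_eq_prime_iff, sq] at hi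
  rw [x0_involution c (F.inj (by rw [map_mul, map_mul]; exact hc)) hi.1 hi.2, F.map_z]

theorem x_two : ∀ T : Subgroup G, IsPGroup 2 T → F.z ∈ T → (∀ a ∈ T, a * F.ι (repK 5) = F.ι (repK 5) * a) →
    Nat.card T = 2 := by
  intro T hT hzT hTx
  obtain ⟨i, hi, hix, hiz, hiT⟩ := two_card (g := F.ι (repK 5)) (i₀ := F.z) (hTx _ hzT) T hT hzT hTx F.D.z_ne
  rw [F.x_involution hi hix hiz] at hiT
  have hdvd : Nat.card T ∣ 6 := by
    rw [← rep_counts.2.2.2.2.2.2.2.2.1, ← cn_eq_card]
    let K : Subgroup C0 := Subgroup.centralizer ({repK 5} : Set C0)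
    rw [show Nat.card {d : C0 // d * repK 5 = repK 5 * d} = Nat.card K from
      Nat.card_congr (Equiv.subtypeEquivRight fun d => Subgroup.mem_centralizer_singleton_iff.symm)]
    have hemb : Function.Injective (F.ι.comp K.subtype) := fun a b e => Subtype.ext (F.inj e)
    rw [Nat.card_congr (MonoidHom.ofInjective hemb).toEquiv]
    refine Subgroup.card_dvd_of_le fun a ha => ?_
    obtain ⟨c, rfl⟩ := F.D.exists_pre (hiT a ha)
    exact ⟨⟨c, Subgroup.mem_centralizer_singleton_iff.2 (F.inj (by rw [map_mul, map_mul]; exact hTx _ ha))⟩, rfl⟩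
  obtain ⟨k, hk⟩ := hT.exists_card_eq
  have h2 : 2 ∣ Nat.card T := by
    rw [← F.D.z_order, ← Subgroup.orderOf_mk F.z hzT]; exact orderOf_dvd_natCard _
  rw [hk] at h2 hdvd ⊢
  have hk4 : k < 3 := by
    by_contra hlt
    have := (pow_dvd_pow 2 (by omega : 3 ≤ k)).trans hdvd
    norm_num at this
  have key : ∀ j, j < 3 → 2 ∣ 2 ^ j → 2 ^ j ∣ 6 → 2 ^ j = 2 := by decide +kernel
  exact key k hk4 h2 hdvd

theorem x_not_y : ¬ IsConj (F.ι (repK 5)) (F.ofM (1, cyc3)) := by
  intro h
  haveI : Fact (Nat.Prime 2) := ⟨Nat.prime_two⟩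
  obtain ⟨g, hg⟩ := isConj_iff.1 h.symm
  have hti : g * F.D.t * g⁻¹ * F.ι (repK 5) = F.ι (repK 5) * (g * F.D.t * g⁻¹) := by
    rw [← hg]
    have e := F.ofM_comm_t (1, cyc3)
    calc g * F.D.t * g⁻¹ * (g * F.ofM (1, cyc3) * g⁻¹) = g * (F.D.t * F.ofM (1, cyc3)) * g⁻¹ := by group
      _ = g * (F.ofM (1, cyc3) * F.D.t) * g⁻¹ := by rw [e]
      _ = _ := by group
  set C := Subgroup.centralizer ({F.ι (repK 5)} : Set G) with hC
  have hzC : F.z ∈ C := Subgroup.mem_centralizer_singleton_iff.2 (F.D.commute_z _).symm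
  have htC : g * F.D.t * g⁻¹ ∈ C := Subgroup.mem_centralizer_singleton_iff.2 hti
  have hordt : orderOf (g * F.D.t * g⁻¹) = 2 := by rw [← MulAut.conj_apply, MulEquiv.orderOf_eq, F.D.t_order]
  obtain ⟨T, hT⟩ := (IsPGroup.of_card (n := 1) (by rw [Nat.card_zpowers, Subgroup.orderOf_mk, F.D.z_order, pow_one]) :
    IsPGroup 2 (Subgroup.zpowers (⟨F.z, hzC⟩ : C))).exists_le_sylow
  obtain ⟨U, hU⟩ := (IsPGroup.of_card (n := 1) (by rw [Nat.card_zpowers, Subgroup.orderOf_mk, hordt, pow_one]) :
    IsPGroup 2 (Subgroup.zpowers (⟨g * F.D.t * g⁻¹, htC⟩ : C))).exists_le_sylow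
  have hTc : Nat.card (T : Subgroup C) = 2 := by
    rw [← Subgroup.card_map_of_injective (f := C.subtype) C.subtype_injective]
    refine F.x_two _ (T.2.map C.subtype) ⟨⟨F.z, hzC⟩, hT (Subgroup.mem_zpowers _), rfl⟩ ?_
    rintro a ⟨b, -, rfl⟩
    exact Subgroup.mem_centralizer_singleton_iff.1 b.2
  obtain ⟨k, hk⟩ := MulAction.exists_smul_eq C U T
  have hm : k * ⟨g * F.D.t * g⁻¹, htC⟩ * k⁻¹ ∈ (T : Subgroup C) := by
    rw [← hk]; exact ⟨_, hU (Subgroup.mem_zpowers _), rfl⟩
  have hTz : (T : Subgroup C) = Subgroup.zpowers ⟨F.z, hzC⟩ :=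
    (Subgroup.eq_of_le_of_card_ge hT (by rw [hTc, Nat.card_zpowers, Subgroup.orderOf_mk, F.D.z_order])).symm
  rw [hTz] at hm
  obtain ⟨j, hj⟩ := mem_powers_iff_mem_zpowers.2 hm
  simp only at hj
  have hj' : F.z ^ j = (k : G) * (g * F.D.t * g⁻¹) * (k : G)⁻¹ := congrArg Subtype.val hj
  have hordk : orderOf ((k : G) * (g * F.D.t * g⁻¹) * (k : G)⁻¹) = 2 := by
    rw [← MulAut.conj_apply, MulEquiv.orderOf_eq, hordt]
  rcases Nat.even_or_odd j with ⟨m, rfl⟩ | ⟨m, rfl⟩
  · rw [← two_mul, pow_mul, sq, F.D.z_sq, one_pow] at hj'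
    rw [← hj', orderOf_one] at hordk
    omega
  · rw [pow_succ, pow_mul, sq, F.D.z_sq, one_pow, one_mul] at hj'
    exact F.D.t_ne_X (isConj_iff.2 ⟨((k : G) * g)⁻¹, by rw [hj']; group⟩)

theorem rep_inj : ∀ i j : Fin 13, IsConj (F.rep i) (F.rep j) → i = j := by
  obtain ⟨h1, h5, h6, h8, h10, h11, h12, -⟩ := rep_counts
  intro i j h
  have ho : repOrd i = repOrd j := by rw [← F.rep_order, ← F.rep_order]; exact Fusion.orderOf_isConj h
  have k34 : ¬ IsConj (F.ι (repK 6)) (F.ι (repK 8)) := fun h => by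
    have := F.kd_of_conj (by rw [h6]; simp) (by rw [h8]; simp) h
    omega
  have k67 : ¬ IsConj (F.ι (repK 11)) (F.ι (repK 12)) := fun h => by
    have := F.kd_of_conj (by rw [h11]; simp) (by rw [h12]; simp) h
    omega
  have k58 : ¬ IsConj (F.ι (repK 10)) (F.ofM (gen2, cyc3)) := fun h => by
    obtain ⟨g, hg⟩ := isConj_iff.1 h
    have h3 : g * F.ι (repK 10) ^ 3 * g⁻¹ = F.ofM (gen2, cyc3) ^ 3 := by rw [← conj_pow, hg]
    rw [← map_pow, ← F.ofM_pow, m5_elements.1, F.ofM_t, show (repK 10) ^ 3 = z0 from by decide +kernel, F.map_z] at h3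
    exact F.D.t_ne_X (isConj_iff.2 ⟨g, h3⟩)
  fin_cases i <;> fin_cases j
  all_goals first
    | rfl
    | (exfalso; revert ho; decide)
    | exact (F.D.t_ne_X h).elim
    | exact (F.D.t_ne_X h.symm).elim
    | exact (k34 h).elim
    | exact (k34 h.symm).elim
    | exact (k67 h).elim
    | exact (k67 h.symm).elim
    | exact (k58 h).elim
    | exact (k58 h.symm).elim
    | exact (F.x_not_y h).elim
    | exact (F.x_not_y h.symm).elim

theorem even_cover {g : G} (hg : 2 ∣ orderOf g) :
    ∃ i : Fin 13, 1 ≤ (i : ℕ) ∧ (i : ℕ) ≤ 9 ∧ IsConj (F.rep i) g := by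
  obtain ⟨m, hm⟩ := hg
  have hm0 : 0 < m := by have := orderOf_pos g; omega
  have hio : orderOf (g ^ m) = 2 := by
    rw [orderOf_pow' g hm0.ne', hm, Nat.gcd_mul_left_left, Nat.mul_div_cancel _ hm0]
  rcases F.classesInvol _ hio with h | h
  · obtain ⟨k, hk⟩ := isConj_iff.1 h.symm
    have hpow : (k * g * k⁻¹) ^ m = F.z := by rw [conj_pow]; exact hk
    obtain ⟨c, hc⟩ := F.D.exists_pre (g := k * g * k⁻¹) (by rw [← hpow]; exact (Commute.self_pow _ m).eq)
    have hcz : hits z0 c c 24 = true := (zpowers_iff_hits z0 c 24 (by norm_num) (c0_pow_24 c)).1 (by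
      refine Subgroup.mem_zpowers_iff.2 ⟨m, F.inj ?_⟩
      rw [zpow_natCast, map_pow, hc, hpow, F.map_z])
    obtain ⟨d, hd⟩ := conj_repK c
    have hconj : IsConj (F.ι (repK (kd c))) g := by
      refine (isConj_iff.2 ⟨F.ι d, ?_⟩ : IsConj _ (F.ι c)).trans (isConj_iff.2 ⟨k⁻¹, by rw [hc]; group⟩)
      rw [← map_inv, ← map_mul, ← map_mul, hd]
    rcases z_power_kinds c hcz with e | e | e | e | e | e <;> rw [e] at hconj
    · exact ⟨1, by decide, by decide, by rw [F.z_eq] at hconj; exact hconj⟩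
    · exact ⟨3, by decide, by decide, hconj⟩
    · exact ⟨4, by decide, by decide, hconj⟩
    · exact ⟨5, by decide, by decide, hconj⟩
    · exact ⟨6, by decide, by decide, hconj⟩
    · exact ⟨7, by decide, by decide, hconj⟩
  · obtain ⟨k, hk⟩ := isConj_iff.1 h.symm
    have hpow : (k * g * k⁻¹) ^ m = F.D.t := by rw [conj_pow]; exact hk
    obtain ⟨q, hq⟩ := F.exists_ofM (g := k * g * k⁻¹) (by rw [← hpow]; exact (Commute.self_pow _ m).eq)
    have hqt : hits ((gen2, 1) : M5) q q 60 = true := (zpowers_iff_hits _ q 60 (by norm_num) (sym5_pow q)).1 (by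
      refine Subgroup.mem_zpowers_iff.2 ⟨m, F.ofM_injective ?_⟩
      rw [zpow_natCast, F.ofM_pow, hq, hpow, F.ofM_t])
    have hconj : ∀ p : M5, (∃ u : M5, u * p * u⁻¹ = q) → IsConj (F.ofM p) g := by
      rintro p ⟨u, hu⟩
      refine (isConj_iff.2 ⟨F.ofM u, ?_⟩ : IsConj _ (F.ofM q)).trans (isConj_iff.2 ⟨k⁻¹, by rw [hq]; group⟩)
      have : u * p = q * u := by rw [← hu]; group
      rw [← F.ofM_mul, this, F.ofM_mul, mul_inv_cancel_right]
    rcases t_power_conj q hqt with e | e | e
    · exact ⟨2, by decide, by decide, by have := hconj _ e; rwa [F.ofM_t] at this⟩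
    · exact ⟨8, by decide, by decide, hconj _ e⟩
    · exact ⟨9, by decide, by decide, hconj _ e⟩

theorem rep_size_early (i : Fin 13) (h : (i : ℕ) ≤ 9 ∨ (i : ℕ) = 12) :
    Nat.card {g : G // IsConj (F.rep i) g} = repSize i := by
  obtain ⟨h1, -, h6, h8, h10, h11, h12, c1, -, c6, c8, c10, c11, c12⟩ := rep_counts
  obtain ⟨m3, m5, -, -, -⟩ := m5_elements
  obtain ⟨n3, n5, -, -⟩ := m5_cents
  have key : ∀ (g : G) (c : ℕ) (s : ℕ), Nat.card (Subgroup.centralizer ({g} : Set G)) = c → 0 < c →
      s * c = 95040 → Nat.card {x : G // IsConj g x} = s := fun g c s hc hc0 hs => by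
    have := MathieuEleven.class_mul_centralizer g
    rw [hc, F.card_eq, ← hs] at this
    exact Nat.eq_of_mul_eq_mul_right hc0 this
  fin_cases i
  · exact key _ 95040 1 (by
      show Nat.card (Subgroup.centralizer ({(1 : G)} : Set G)) = 95040
      rw [← F.card_eq]
      exact Nat.card_congr ((Equiv.subtypeEquivRight fun x => by simp [Subgroup.mem_centralizer_singleton_iff]).trans
        (Equiv.subtypeUnivEquiv (p := fun _ => True) fun _ => trivial))) (by norm_num) (by norm_num)
  · exact key _ 192 495 ((congrArg (fun g => Nat.card (Subgroup.centralizer ({g} : Set G))) F.z_eq.symm).trans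
      ((F.cent_of_z_power (by rw [h1]; simp)).trans c1)) (by norm_num) (by norm_num)
  · exact key _ 240 396 F.card_ct (by norm_num) (by norm_num)
  · exact key _ 32 2970 ((F.cent_of_z_power (by rw [h6]; simp)).trans c6) (by norm_num) (by norm_num)
  · exact key _ 32 2970 ((F.cent_of_z_power (by rw [h8]; simp)).trans c8) (by norm_num) (by norm_num)
  · exact key _ 6 15840 ((F.cent_of_z_power (by rw [h10]; simp)).trans c10) (by norm_num) (by norm_num)
  · exact key _ 8 11880 ((F.cent_of_z_power (by rw [h11]; simp)).trans c11) (by norm_num) (by norm_num)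
  · exact key _ 8 11880 ((F.cent_of_z_power (by rw [h12]; simp)).trans c12) (by norm_num) (by norm_num)
  · exact key _ 12 7920 ((F.cent_of_t_power m3).trans n3) (by norm_num) (by norm_num)
  · exact key _ 10 9504 ((F.cent_of_t_power m5).trans n5) (by norm_num) (by norm_num)
  · simp at h
  · simp at h
  · exact key _ 10 9504 F.five_local.1 (by norm_num) (by norm_num)

theorem odd_cases {g : G} (hg : ¬ 2 ∣ orderOf g) :
    orderOf g = 1 ∨ orderOf g = 11 ∨ IsConj F.five g ∨ (orderOf g ∣ 27 ∧ orderOf g ≠ 1) := by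
  by_cases h11 : 11 ∣ orderOf g
  · refine Or.inr (Or.inl ?_)
    obtain ⟨m, hm⟩ := h11
    have hm0 : 0 < m := by have := orderOf_pos g; omega
    have hp : orderOf (g ^ m) = 11 := by
      rw [orderOf_pow' g hm0.ne', hm, Nat.gcd_mul_left_left, Nat.mul_div_cancel _ hm0]
    have := Subgroup.orderOf_dvd_natCard (s := Subgroup.centralizer ({g ^ m} : Set G))
      (Subgroup.mem_centralizer_singleton_iff.2 (Commute.self_pow g m).eq)
    rw [F.centralizer_eleven hp] at this
    exact ((Nat.dvd_prime (by norm_num)).1 this).resolve_left fun e => by rw [e] at hm; omega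
  by_cases h5 : 5 ∣ orderOf g
  · refine Or.inr (Or.inr (Or.inl ?_))
    obtain ⟨m, hm⟩ := h5
    have hm0 : 0 < m := by have := orderOf_pos g; omega
    have hp : orderOf (g ^ m) = 5 := by
      rw [orderOf_pow' g hm0.ne', hm, Nat.gcd_mul_left_left, Nat.mul_div_cancel _ hm0]
    obtain ⟨hc10, hall, -⟩ := F.five_local
    have := Subgroup.orderOf_dvd_natCard (s := Subgroup.centralizer ({g ^ m} : Set G))
      (Subgroup.mem_centralizer_singleton_iff.2 (Commute.self_pow g m).eq)
    rw [← conj_centralizer_card (hall _ hp), hc10] at this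
    refine hall g ?_
    have hle := Nat.le_of_dvd (by norm_num) this
    have key : ∀ n, n ≤ 10 → n ∣ 10 → 5 ∣ n → ¬ 2 ∣ n → n = 5 := by decide +kernel
    exact key _ hle this ⟨m, hm⟩ hg
  by_cases h1 : orderOf g = 1
  · exact Or.inl h1
  · refine Or.inr (Or.inr (Or.inr ⟨divisor_three _ ?_ hg h5 h11, h1⟩))
    rw [← F.card_eq]; exact orderOf_dvd_natCard g

include F in
theorem three_count : Nat.card {g : G // orderOf g ∣ 27 ∧ orderOf g ≠ 1} = 4400 := by
  classical
  haveI := Fintype.ofFinite G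
  let E : Finset G := Finset.univ.filter fun g => 2 ∣ orderOf g
  let B : Finset G := Finset.univ.filter fun g => orderOf g = 11
  let C : Finset G := Finset.univ.filter fun g => IsConj F.five g
  let A : Finset G := Finset.univ.filter fun g => orderOf g ∣ 27 ∧ orderOf g ≠ 1
  have hA : A.card = Nat.card {g : G // orderOf g ∣ 27 ∧ orderOf g ≠ 1} := by
    rw [Nat.card_eq_fintype_card, Fintype.card_subtype]
  rw [← hA]
  have h5 : F.five = F.rep 12 := rfl
  have hC : C.card = 9504 := by
    rw [show C.card = Nat.card {g : G // IsConj F.five g} by rw [Nat.card_eq_fintype_card, Fintype.card_subtype]]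
    simp only [h5]
    exact F.rep_size_early 12 (Or.inr rfl)
  have hB : B.card = 17280 := by
    rw [show B.card = Nat.card {g : G // orderOf g = 11} by rw [Nat.card_eq_fintype_card, Fintype.card_subtype]]
    exact F.count_eleven
  let I : Finset (Fin 13) := Finset.univ.filter fun i => 1 ≤ (i : ℕ) ∧ (i : ℕ) ≤ 9
  have hE : E.card = 63855 := by
    have hu : E = I.biUnion fun i => Finset.univ.filter fun g => IsConj (F.rep i) g := by
      ext g
      simp only [E, I, Finset.mem_filter, Finset.mem_univ, true_and, Finset.mem_biUnion]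
      constructor
      · intro hg
        obtain ⟨i, h1, h2, h3⟩ := F.even_cover hg
        exact ⟨i, ⟨h1, h2⟩, h3⟩
      · rintro ⟨i, ⟨h1, h2⟩, h3⟩
        rw [← Fusion.orderOf_isConj h3, F.rep_order]
        revert h1 h2; revert i; intro i; fin_cases i <;> simp [repOrd]
    rw [hu, Finset.card_biUnion]
    · rw [Finset.sum_congr rfl (g := repSize) fun i hi => ?_]
      · decide +kernel
      · simp only [I, Finset.mem_filter, Finset.mem_univ, true_and] at hi
        rw [← F.rep_size_early i (Or.inl hi.2), Nat.card_eq_fintype_card, Fintype.card_subtype]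
    · intro i _ j _ hij
      rw [Function.onFun, Finset.disjoint_filter]
      exact fun g _ h1 h2 => hij (F.rep_inj i j (h1.trans h2.symm))
  have hsplit : (Finset.univ : Finset G) = ({1} : Finset G) ∪ E ∪ B ∪ C ∪ A := by
    ext g
    simp only [E, B, C, A, Finset.mem_univ, Finset.mem_union, Finset.mem_singleton, Finset.mem_filter, true_and, true_iff]
    by_cases h2 : 2 ∣ orderOf g
    · tauto
    · rcases F.odd_cases h2 with h | h | h | h
      · rw [orderOf_eq_one_iff] at h; tauto
      · tauto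
      · tauto
      · tauto
  have ho5 : ∀ g, IsConj F.five g → orderOf g = 5 := fun g h => (Fusion.orderOf_isConj h).symm.trans F.order_five
  have hcard := congrArg Finset.card hsplit
  rw [Finset.card_univ, ← Nat.card_eq_fintype_card, F.card_eq, Finset.card_union_of_disjoint, Finset.card_union_of_disjoint,
    Finset.card_union_of_disjoint, Finset.card_union_of_disjoint, Finset.card_singleton, hE, hB, hC] at hcard
  · omega
  all_goals
    rw [Finset.disjoint_left]
    intro g hg hg'
    simp only [E, B, C, A, Finset.mem_union, Finset.mem_singleton, Finset.mem_filter, Finset.mem_univ, true_and] at hg hg'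
  · rw [hg, orderOf_one] at hg'; norm_num at hg'
  · rcases hg with hg | hg
    · rw [hg, orderOf_one] at hg'; omega
    · rw [hg'] at hg; norm_num at hg
  · have := ho5 g hg'
    rcases hg with (hg | hg) | hg
    · rw [hg, orderOf_one] at this; omega
    · rw [this] at hg; norm_num at hg
    · omega
  · rcases hg with ((hg | hg) | hg) | hg
    · rw [hg, orderOf_one] at hg'; exact hg'.2 rfl
    · have := hg.trans hg'.1; norm_num at this
    · rw [hg] at hg'; norm_num at hg'
    · rw [ho5 g hg] at hg'; norm_num at hg'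

theorem x_cent : Nat.card (Subgroup.centralizer ({F.ι (repK 5)} : Set G)) ∈ ({6, 18, 54} : Finset ℕ) := by
  haveI : Fact (Nat.Prime 2) := ⟨Nat.prime_two⟩
  set C := Subgroup.centralizer ({F.ι (repK 5)} : Set G) with hC
  have hzC : F.z ∈ C := Subgroup.mem_centralizer_singleton_iff.2 (F.D.commute_z _).symm
  obtain ⟨T, hT⟩ := (IsPGroup.of_card (n := 1) (by rw [Nat.card_zpowers, Subgroup.orderOf_mk, F.D.z_order, pow_one]) :
    IsPGroup 2 (Subgroup.zpowers (⟨F.z, hzC⟩ : C))).exists_le_sylow
  have hTc : Nat.card (T : Subgroup C) = 2 := by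
    rw [← Subgroup.card_map_of_injective (f := C.subtype) C.subtype_injective]
    refine F.x_two _ (T.2.map C.subtype) ⟨⟨F.z, hzC⟩, hT (Subgroup.mem_zpowers _), rfl⟩ ?_
    rintro a ⟨b, -, rfl⟩
    exact Subgroup.mem_centralizer_singleton_iff.1 b.2
  have hcm := Subgroup.card_mul_index (T : Subgroup C)
  rw [hTc] at hcm
  have hx3 : orderOf (F.ι (repK 5)) = 3 := (F.order_iota 5 rep_counts.2.1).trans (by decide)
  have h3 : 3 ∣ Nat.card C := by
    rw [← hx3]; exact Subgroup.orderOf_dvd_natCard _ (Subgroup.mem_centralizer_singleton_iff.2 rfl)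
  have hnp : ∀ p, p.Prime → (p = 5 ∨ p = 11) → ¬ p ∣ Nat.card C := by
    intro p hp hp' hd
    haveI := Fact.mk hp
    obtain ⟨⟨u, hu⟩, huo⟩ := exists_prime_orderOf_dvd_card' (G := C) p hd
    rw [Subgroup.orderOf_mk] at huo
    have hd' := Subgroup.orderOf_dvd_natCard (s := Subgroup.centralizer ({u} : Set G))
      (Subgroup.mem_centralizer_singleton_iff.2 (Subgroup.mem_centralizer_singleton_iff.1 hu).symm)
    rw [hx3] at hd'
    rcases hp' with rfl | rfl
    · rw [← conj_centralizer_card (F.five_local.2.1 u huo), F.five_local.1] at hd'; norm_num at hd'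
    · rw [F.centralizer_eleven huo] at hd'; norm_num at hd'
  have hidx : (T : Subgroup C).index ∣ 27 := by
    refine divisor_three _ ?_ T.not_dvd_index (fun h => ?_) (fun h => ?_)
    · rw [← F.card_eq]
      exact (Dvd.intro_left _ hcm).trans (Subgroup.card_subgroup_dvd_card C)
    · exact hnp 5 (by norm_num) (Or.inl rfl) (hcm ▸ h.mul_left 2)
    · exact hnp 11 (by norm_num) (Or.inr rfl) (hcm ▸ h.mul_left 2)
  have hle := Nat.le_of_dvd (by norm_num) hidx
  rw [← hcm] at h3 ⊢
  generalize (T : Subgroup C).index = k at hidx hle h3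
  exact two_times_three k hle hidx h3

theorem y_cent : Nat.card (Subgroup.centralizer ({F.ofM (1, cyc3)} : Set G)) ∈ ({12, 36, 108} : Finset ℕ) := by
  haveI : Fact (Nat.Prime 2) := ⟨Nat.prime_two⟩
  set C := Subgroup.centralizer ({F.ofM (1, cyc3)} : Set G) with hC
  have htC : F.D.t ∈ C := Subgroup.mem_centralizer_singleton_iff.2 (F.ofM_comm_t (1, cyc3)).symm
  -- the centraliser inside the second involution centraliser
  let K : Subgroup M5 := Subgroup.centralizer ({(1, cyc3)} : Set M5)
  have hK : Nat.card K = 12 := by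
    rw [← m5_cents.2.2.1, ← Fintype.card_subtype, ← Nat.card_eq_fintype_card]
    exact Nat.card_congr (Equiv.subtypeEquivRight fun g => Subgroup.mem_centralizer_singleton_iff)
  let emb : K →* G := (F.D.Ct.subtype.comp F.Φ.symm.toMonoidHom).comp K.subtype
  have hemb : Function.Injective emb := fun a b e => Subtype.ext (F.ofM_injective e)
  have h12 : 12 ∣ Nat.card C := by
    rw [← hK, Nat.card_congr (MonoidHom.ofInjective hemb).toEquiv]
    refine Subgroup.card_dvd_of_le ?_
    rintro a ⟨⟨q, hq⟩, rfl⟩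
    refine Subgroup.mem_centralizer_singleton_iff.2 ?_
    show F.ofM q * F.ofM (1, cyc3) = F.ofM (1, cyc3) * F.ofM q
    rw [← F.ofM_mul, ← F.ofM_mul, Subgroup.mem_centralizer_singleton_iff.1 hq]
  obtain ⟨T, hT⟩ := (IsPGroup.of_card (n := 1) (by rw [Nat.card_zpowers, Subgroup.orderOf_mk, F.D.t_order, pow_one]) :
    IsPGroup 2 (Subgroup.zpowers (⟨F.D.t, htC⟩ : C))).exists_le_sylow
  let T' : Subgroup G := (T : Subgroup C).map C.subtype
  have hT'y : ∀ a ∈ T', a * F.ofM (1, cyc3) = F.ofM (1, cyc3) * a := by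
    rintro a ⟨b, -, rfl⟩
    exact Subgroup.mem_centralizer_singleton_iff.1 b.2
  have ht1 : F.D.t ≠ 1 := fun e => by have := F.D.t_order; rw [e, orderOf_one] at this; omega
  obtain ⟨i, hi, hiy, hit, hiT⟩ := two_card (g := F.ofM (1, cyc3)) (i₀ := F.D.t) (Subgroup.mem_centralizer_singleton_iff.1 htC)
    T' (T.2.map C.subtype) ⟨⟨F.D.t, htC⟩, hT (Subgroup.mem_zpowers _), rfl⟩ hT'y ht1
  obtain ⟨q, rfl⟩ := F.exists_ofM hit
  have hnX : ¬ IsConj F.z (F.ofM q) := by
    rw [F.isX_ofM]
    rw [F.orderOf_ofM, orderOf_eq_prime_iff, sq] at hi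
    exact m5_invol_three q hi.1 hi.2 (F.ofM_injective (by rw [F.ofM_mul, F.ofM_mul]; exact hiy))
  obtain ⟨k, hk⟩ := isConj_iff.1 ((F.classesInvol _ hi).resolve_left hnX)
  -- move into the centraliser of the fixed involution
  have hy' : k⁻¹ * F.ofM (1, cyc3) * k * F.D.t = F.D.t * (k⁻¹ * F.ofM (1, cyc3) * k) := by
    rw [← hk] at hiy
    calc k⁻¹ * F.ofM (1, cyc3) * k * F.D.t = k⁻¹ * (F.ofM (1, cyc3) * (k * F.D.t * k⁻¹)) * k := by group
      _ = k⁻¹ * (k * F.D.t * k⁻¹ * F.ofM (1, cyc3)) * k := by rw [hiy]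
      _ = F.D.t * (k⁻¹ * F.ofM (1, cyc3) * k) := by group
  obtain ⟨p, hp⟩ := F.exists_ofM hy'
  have hp3 : orderOf p = 3 := by
    rw [← F.orderOf_ofM, hp, show k⁻¹ * F.ofM (1, cyc3) * k = MulAut.conj k⁻¹ (F.ofM (1, cyc3)) by simp,
      MulEquiv.orderOf_eq, F.orderOf_ofM, order_three_model.1]
  have hp' := (orderOf_eq_prime_iff (hp := ⟨Nat.prime_three⟩)).1 hp3
  have hcK : Nat.card (Subgroup.centralizer ({p} : Set M5)) = 12 := by
    have h1 : p.1 = 1 := by
      have h : p.1 ^ 3 = 1 := congrArg Prod.fst hp'.1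
      exact two_cube_free _ h
    have h2 : p.2 ≠ 1 := fun e => hp'.2 (Prod.ext h1 e)
    obtain ⟨u, hu⟩ := perm_three p.2 (by
      have h : p.2 ^ 3 = 1 := congrArg Prod.snd hp'.1
      rwa [pow_succ, sq] at h) h2
    have hpu : IsConj ((1, cyc3) : M5) p := isConj_iff.2 ⟨(1, u), Prod.ext (by simp [h1]) (by simpa using hu)⟩
    rw [← conj_centralizer_card hpu, hK]
  have hT4 : Nat.card (T : Subgroup C) ∣ 4 := by
    have hdvd : Nat.card T' ∣ 12 := by
      let emb' : Subgroup.centralizer ({p} : Set M5) →* G :=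
        (MulAut.conj k).toMonoidHom.comp ((F.D.Ct.subtype.comp F.Φ.symm.toMonoidHom).comp (Subgroup.subtype _))
      have hemb' : Function.Injective emb' := fun a b e =>
        Subtype.ext (F.ofM_injective ((MulAut.conj k).injective e))
      rw [← hcK, Nat.card_congr (MonoidHom.ofInjective hemb').toEquiv]
      refine Subgroup.card_dvd_of_le fun a ha => ?_
      have hat : k⁻¹ * a * k * F.D.t = F.D.t * (k⁻¹ * a * k) := by
        have e := hiT a ha
        rw [← hk] at e
        calc k⁻¹ * a * k * F.D.t = k⁻¹ * (a * (k * F.D.t * k⁻¹)) * k := by group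
          _ = k⁻¹ * (k * F.D.t * k⁻¹ * a) * k := by rw [e]
          _ = F.D.t * (k⁻¹ * a * k) := by group
      obtain ⟨b, hb⟩ := F.exists_ofM hat
      refine ⟨⟨b, Subgroup.mem_centralizer_singleton_iff.2 (F.ofM_injective ?_)⟩, ?_⟩
      · rw [F.ofM_mul, F.ofM_mul, hb, hp]
        calc k⁻¹ * a * k * (k⁻¹ * F.ofM (1, cyc3) * k) = k⁻¹ * (a * F.ofM (1, cyc3)) * k := by group
          _ = k⁻¹ * (F.ofM (1, cyc3) * a) * k := by rw [hT'y a ha]
          _ = k⁻¹ * F.ofM (1, cyc3) * k * (k⁻¹ * a * k) := by group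
      · show k * F.ofM b * k⁻¹ = a
        rw [hb]; group
    rw [Subgroup.card_map_of_injective C.subtype_injective] at hdvd
    obtain ⟨j, hj⟩ := T.2.exists_card_eq
    rw [hj] at hdvd ⊢
    exact (Nat.Coprime.pow_left _ (by norm_num : Nat.Coprime 2 3)).dvd_of_dvd_mul_right (show 2 ^ j ∣ 4 * 3 from hdvd)
  have hcm := Subgroup.card_mul_index (T : Subgroup C)
  have hy3 : orderOf (F.ofM (1, cyc3)) = 3 := by rw [F.orderOf_ofM, order_three_model.1]
  have hnp : ∀ p, p.Prime → (p = 5 ∨ p = 11) → ¬ p ∣ Nat.card C := by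
    intro p hp hp' hd
    haveI := Fact.mk hp
    obtain ⟨⟨u, hu⟩, huo⟩ := exists_prime_orderOf_dvd_card' (G := C) p hd
    rw [Subgroup.orderOf_mk] at huo
    have hd' := Subgroup.orderOf_dvd_natCard (s := Subgroup.centralizer ({u} : Set G))
      (Subgroup.mem_centralizer_singleton_iff.2 (Subgroup.mem_centralizer_singleton_iff.1 hu).symm)
    rw [hy3] at hd'
    rcases hp' with rfl | rfl
    · rw [← conj_centralizer_card (F.five_local.2.1 u huo), F.five_local.1] at hd'; norm_num at hd'
    · rw [F.centralizer_eleven huo] at hd'; norm_num at hd'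
  have hidx : (T : Subgroup C).index ∣ 27 := by
    refine divisor_three _ ?_ T.not_dvd_index (fun h => ?_) (fun h => ?_)
    · rw [← F.card_eq]
      exact (Dvd.intro_left _ hcm).trans (Subgroup.card_subgroup_dvd_card C)
    · exact hnp 5 (by norm_num) (Or.inl rfl) (hcm ▸ h.mul_left _)
    · exact hnp 11 (by norm_num) (Or.inr rfl) (hcm ▸ h.mul_left _)
  rw [← hcm] at h12 ⊢
  have hle := Nat.le_of_dvd (by norm_num) hidx
  have hle4 := Nat.le_of_dvd (by norm_num) hT4
  generalize (T : Subgroup C).index = a at hidx hle h12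
  generalize Nat.card (T : Subgroup C) = b at hT4 hle4 h12
  exact twelve_product b a hle4 hle hT4 hidx h12

theorem three_sizes : Nat.card {g : G // IsConj (F.rep 10) g} = 1760 ∧ Nat.card {g : G // IsConj (F.rep 11) g} = 2640 ∧
    ∀ g : G, orderOf g ∣ 27 → orderOf g ≠ 1 → IsConj (F.rep 10) g ∨ IsConj (F.rep 11) g := by
  classical
  haveI := Fintype.ofFinite G
  let cls : G → Finset G := fun g => Finset.univ.filter fun x => IsConj g x
  let A : Finset G := Finset.univ.filter fun g => orderOf g ∣ 27 ∧ orderOf g ≠ 1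
  have hA : A.card = 4400 := by
    rw [← F.three_count, Nat.card_eq_fintype_card, Fintype.card_subtype]
  have hmul : ∀ g : G, (cls g).card * Nat.card (Subgroup.centralizer ({g} : Set G)) = 95040 := fun g => by
    rw [← F.card_eq, ← MathieuEleven.class_mul_centralizer g, Nat.card_eq_fintype_card (α := {x // IsConj g x}),
      Fintype.card_subtype]
  have hx := F.x_cent
  have hy := F.y_cent
  have hdisj : Disjoint (cls (F.rep 10)) (cls (F.rep 11)) := Finset.disjoint_filter.2 fun g _ h1 h2 =>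
    absurd (F.rep_inj 10 11 (h1.trans h2.symm)) (by decide)
  have hsub : ∀ i : Fin 13, repOrd i = 3 → cls (F.rep i) ⊆ A := fun i hi g hg => by
    simp only [cls, A, Finset.mem_filter, Finset.mem_univ, true_and] at hg ⊢
    rw [← Fusion.orderOf_isConj hg, F.rep_order, hi]
    norm_num
  have hle : (cls (F.rep 10)).card + (cls (F.rep 11)).card ≤ 4400 := by
    rw [← hA, ← Finset.card_union_of_disjoint hdisj]
    exact Finset.card_le_card (Finset.union_subset (hsub 10 (by decide)) (hsub 11 (by decide)))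
  have h3 : ∀ g ∈ A, g ∉ cls (F.rep 10) → g ∉ cls (F.rep 11) → 3520 ≤ (cls g).card := by
    intro g hg n10 n11
    simp only [A, cls, Finset.mem_filter, Finset.mem_univ, true_and] at hg n10 n11
    have h27 : g ^ 27 = 1 := orderOf_dvd_iff_pow_eq_one.1 hg.1
    have hg1 : g ≠ 1 := fun e => hg.2 (by rw [e, orderOf_one])
    have hodd : ¬ 2 ∣ Nat.card (Subgroup.centralizer ({g} : Set G)) := by
      intro h2
      haveI : Fact (Nat.Prime 2) := ⟨Nat.prime_two⟩
      obtain ⟨⟨i, hi⟩, hio⟩ := exists_prime_orderOf_dvd_card' (G := Subgroup.centralizer ({g} : Set G)) 2 h2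
      rw [Subgroup.orderOf_mk] at hio
      have hgi := (Subgroup.mem_centralizer_singleton_iff.1 hi).symm
      rcases F.classesInvol i hio with h | h <;> obtain ⟨k, hk⟩ := isConj_iff.1 h <;>
        (have hc : k⁻¹ * g * k * (k⁻¹ * i * k) = k⁻¹ * i * k * (k⁻¹ * g * k) := by
          calc k⁻¹ * g * k * (k⁻¹ * i * k) = k⁻¹ * (g * i) * k := by group
            _ = k⁻¹ * (i * g) * k := by rw [hgi]
            _ = _ := by group)
      · rw [show k⁻¹ * i * k = F.z by rw [← hk]; group] at hc
        obtain ⟨c, hc'⟩ := F.D.exists_pre hc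
        have hkc : kd c = 5 := three_power c (F.inj (by
          rw [map_pow, hc', map_one, show k⁻¹ * g * k = MulAut.conj k⁻¹ g by simp, ← map_pow, h27, map_one]))
          fun e => hg1 (by
            rw [e, map_one] at hc'
            calc g = k * (k⁻¹ * g * k) * k⁻¹ := by group
              _ = 1 := by rw [← hc']; group)
        obtain ⟨d, hd⟩ := conj_repK c
        rw [hkc] at hd
        refine n10 ((isConj_iff.2 ⟨F.ι d, ?_⟩ : IsConj _ (F.ι c)).trans (isConj_iff.2 ⟨k, by rw [hc']; group⟩))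
        show F.ι d * F.ι (repK 5) * (F.ι d)⁻¹ = F.ι c
        rw [← map_inv, ← map_mul, ← map_mul, hd]
      · rw [show k⁻¹ * i * k = F.D.t by rw [← hk]; group] at hc
        obtain ⟨q, hq⟩ := F.exists_ofM hc
        have hq27 : q ^ 27 = 1 := F.ofM_injective (by
          rw [F.ofM_pow, hq, F.ofM_one, show k⁻¹ * g * k = MulAut.conj k⁻¹ g by simp, ← map_pow, h27, map_one])
        have hq1 : q ≠ 1 := fun e => hg1 (by
          rw [e, F.ofM_one] at hq
          calc g = k * (k⁻¹ * g * k) * k⁻¹ := by group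
            _ = 1 := by rw [← hq]; group)
        have h3q : q ^ 3 = 1 := by
          have h60 := sym5_pow q
          have := Nat.dvd_gcd (orderOf_dvd_of_pow_eq_one hq27) (orderOf_dvd_of_pow_eq_one h60)
          rw [show Nat.gcd 27 60 = 3 by decide] at this
          exact orderOf_dvd_iff_pow_eq_one.1 this
        have e1 : q.1 = 1 := by
          have h : q.1 ^ 3 = 1 := congrArg Prod.fst h3q
          exact two_cube_free _ h
        obtain ⟨u, hu⟩ := perm_three q.2 (by
          have h : q.2 ^ 3 = 1 := congrArg Prod.snd h3q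
          rwa [pow_succ, sq] at h) fun e => hq1 (Prod.ext e1 e)
        refine n11 ((isConj_iff.2 ⟨F.ofM (1, u), ?_⟩ : IsConj _ (F.ofM q)).trans (isConj_iff.2 ⟨k, by rw [hq]; group⟩))
        show F.ofM (1, u) * F.ofM (1, cyc3) * (F.ofM (1, u))⁻¹ = F.ofM q
        have : ((1, u) : M5) * (1, cyc3) = q * (1, u) := Prod.ext (by simp [e1]) (by
          show u * cyc3 = q.2 * u
          rw [← hu]; group)
        rw [← F.ofM_mul, this, F.ofM_mul, mul_inv_cancel_right]
    have hnp : ∀ p, p.Prime → (p = 5 ∨ p = 11) → ¬ p ∣ Nat.card (Subgroup.centralizer ({g} : Set G)) := by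
      intro p hp hp' hd
      haveI := Fact.mk hp
      obtain ⟨⟨u, hu⟩, huo⟩ := exists_prime_orderOf_dvd_card' (G := Subgroup.centralizer ({g} : Set G)) p hd
      rw [Subgroup.orderOf_mk] at huo
      have hd' := Subgroup.orderOf_dvd_natCard (s := Subgroup.centralizer ({u} : Set G))
        (Subgroup.mem_centralizer_singleton_iff.2 (Subgroup.mem_centralizer_singleton_iff.1 hu).symm)
      rcases hp' with rfl | rfl
      · rw [← conj_centralizer_card (F.five_local.2.1 u huo), F.five_local.1] at hd'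
        exact hg.2 (Nat.eq_one_of_dvd_coprimes (by norm_num : Nat.Coprime 27 10) hg.1 hd')
      · rw [F.centralizer_eleven huo] at hd'
        exact hg.2 (Nat.eq_one_of_dvd_coprimes (by norm_num : Nat.Coprime 27 11) hg.1 hd')
    have hd27 : Nat.card (Subgroup.centralizer ({g} : Set G)) ∣ 27 :=
      divisor_three _ (F.card_eq ▸ Subgroup.card_subgroup_dvd_card _) hodd (hnp 5 (by norm_num) (Or.inl rfl))
        (hnp 11 (by norm_num) (Or.inr rfl))
    have hle27 := Nat.le_of_dvd (by norm_num) hd27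
    have := hmul g
    by_contra hlt
    push Not at hlt
    have : (cls g).card * Nat.card (Subgroup.centralizer ({g} : Set G)) ≤ 3519 * 27 := Nat.mul_le_mul (by omega) hle27
    omega
  -- the two sizes and what is left
  have hrest : ∀ g ∈ A, g ∉ cls (F.rep 10) → g ∉ cls (F.rep 11) →
      (cls (F.rep 10)).card + (cls (F.rep 11)).card + 3520 ≤ 4400 := by
    intro g hg n10 n11
    have hAg : cls g ⊆ A := fun x hx => by
      simp only [cls, A, Finset.mem_filter, Finset.mem_univ, true_and] at hx hg ⊢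
      rw [← Fusion.orderOf_isConj hx]; exact hg
    have hd2 : Disjoint (cls (F.rep 10) ∪ cls (F.rep 11)) (cls g) := by
      rw [Finset.disjoint_left]
      intro x hx hxg
      simp only [cls, Finset.mem_union, Finset.mem_filter, Finset.mem_univ, true_and] at hx hxg n10 n11
      rcases hx with hx | hx
      · exact n10 (hx.trans hxg.symm)
      · exact n11 (hx.trans hxg.symm)
    have := Finset.card_le_card (Finset.union_subset (Finset.union_subset (hsub 10 (by decide)) (hsub 11 (by decide))) hAg)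
    rw [Finset.card_union_of_disjoint hd2, Finset.card_union_of_disjoint hdisj, hA] at this
    have := h3 g hg n10 n11
    omega
  have hx' := hmul (F.rep 10)
  have hy' := hmul (F.rep 11)
  change (cls (F.rep 10)).card * Nat.card (Subgroup.centralizer ({F.ι (repK 5)} : Set G)) = 95040 at hx'
  change (cls (F.rep 11)).card * Nat.card (Subgroup.centralizer ({F.ofM (1, cyc3)} : Set G)) = 95040 at hy'
  simp only [Finset.mem_insert, Finset.mem_singleton] at hx hy
  have hcases : (cls (F.rep 10)).card = 1760 ∧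
      ((cls (F.rep 11)).card = 2640 ∨ (cls (F.rep 11)).card = 880) := by
    rcases hx with e | e | e <;> rw [e] at hx' <;> rcases hy with e' | e' | e' <;> rw [e'] at hy' <;> omega
  have hb : (cls (F.rep 11)).card = 2640 := by
    rcases hcases.2 with h | h
    · exact h
    · exfalso
      obtain ⟨g, hg, hgn⟩ : ∃ g ∈ A, g ∉ cls (F.rep 10) ∪ cls (F.rep 11) :=
        Finset.exists_mem_notMem_of_card_lt_card (by
          rw [Finset.card_union_of_disjoint hdisj, hA, hcases.1, h]; norm_num)
      rw [Finset.mem_union] at hgn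
      have := hrest g hg (fun e => hgn (Or.inl e)) fun e => hgn (Or.inr e)
      omega
  refine ⟨?_, ?_, fun g h27 h1 => ?_⟩
  · rw [Nat.card_eq_fintype_card, Fintype.card_subtype]; exact hcases.1
  · rw [Nat.card_eq_fintype_card, Fintype.card_subtype]; exact hb
  · by_contra hn
    rw [not_or] at hn
    have := hrest g (by simp only [A, Finset.mem_filter, Finset.mem_univ, true_and]; exact ⟨h27, h1⟩)
      (by simp only [cls, Finset.mem_filter, Finset.mem_univ, true_and]; exact hn.1)
      (by simp only [cls, Finset.mem_filter, Finset.mem_univ, true_and]; exact hn.2)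
    omega

theorem rep_size (i : Fin 13) : Nat.card {g : G // IsConj (F.rep i) g} = repSize i := by
  by_cases h10 : i = 10
  · subst h10; exact F.three_sizes.1
  by_cases h11 : i = 11
  · subst h11; exact F.three_sizes.2.1
  refine F.rep_size_early i ?_
  revert h10 h11; revert i; decide

theorem cover (g : G) : orderOf g = 11 ∨ ∃ i, IsConj (F.rep i) g := by
  by_cases h2 : 2 ∣ orderOf g
  · obtain ⟨i, -, -, hi⟩ := F.even_cover h2
    exact Or.inr ⟨i, hi⟩
  rcases F.odd_cases h2 with h | h | h | h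
  · refine Or.inr ⟨0, ?_⟩
    rw [orderOf_eq_one_iff.1 h]
    exact IsConj.refl _
  · exact Or.inl h
  · exact Or.inr ⟨12, h⟩
  · rcases F.three_sizes.2.2 g h.1 h.2 with e | e
    · exact Or.inr ⟨10, e⟩
    · exact Or.inr ⟨11, e⟩

theorem rep_not_eleven (i : Fin 13) : orderOf (F.rep i) ≠ 11 := by
  rw [F.rep_order]; revert i; decide

/-- The sum of a class function over the group. -/
theorem sum_classes {A : Type*} [AddCommMonoid A] [Fintype G] (f : G → A) (v : Fin 13 → A) (w : A)
    (hv : ∀ i g, IsConj (F.rep i) g → f g = v i) (hw : ∀ g, orderOf g = 11 → f g = w) :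
    ∑ g, f g = (∑ i, repSize i • v i) + 17280 • w := by
  classical
  let K : Fin 13 → Finset G := fun i => Finset.univ.filter fun g => IsConj (F.rep i) g
  let B : Finset G := Finset.univ.filter fun g => orderOf g = 11
  have hu : (Finset.univ : Finset G) = Finset.univ.biUnion K ∪ B := by
    ext g
    simp only [K, B, Finset.mem_univ, Finset.mem_union, Finset.mem_biUnion, Finset.mem_filter, true_and, true_iff]
    rcases F.cover g with h | h
    · exact Or.inr h
    · exact Or.inl h
  have hd : Disjoint (Finset.univ.biUnion K) B := by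
    rw [Finset.disjoint_left]
    intro g hg hB
    simp only [K, B, Finset.mem_biUnion, Finset.mem_filter, Finset.mem_univ, true_and] at hg hB
    obtain ⟨i, hi⟩ := hg
    rw [← Fusion.orderOf_isConj hi] at hB
    exact F.rep_not_eleven i hB
  rw [hu, Finset.sum_union hd, Finset.sum_biUnion]
  · congr 1
    · refine Finset.sum_congr rfl fun i _ => ?_
      rw [Finset.sum_congr rfl (g := fun _ => v i) fun g hg => hv i g (Finset.mem_filter.1 hg).2, Finset.sum_const,
        ← F.rep_size i, Nat.card_eq_fintype_card, Fintype.card_subtype]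
    · rw [Finset.sum_congr rfl (g := fun _ => w) fun g hg => hw g (Finset.mem_filter.1 hg).2, Finset.sum_const,
        ← F.count_eleven, Nat.card_eq_fintype_card, Fintype.card_subtype]
  · intro i _ j _ hij
    rw [Function.onFun, Finset.disjoint_filter]
    exact fun g _ h1 h2 => hij (F.rep_inj i j (h1.trans h2.symm))

end Frame

end Cfsg.Agent.MTwelve
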