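import Cfsg.Agent.Lib.Spor.MTwelve.NineLocal

/-!
A frame in which the first quaternion subgroup normalises a subgroup of order nine.
-/

set_option autoImplicit false
set_option maxRecDepth 100000
set_option maxHeartbeats 4000000
set_option linter.style.haveILetI false
set_option linter.unusedSectionVars false
set_option Elab.async false

namespace Cfsg.Agent.MTwelve

open C0

universe u

theorem sigFun_mul (x y : C0) : sigFun (x * y) = sigFun x * sigFun y :=
  hom_of_gen sigFun (by decide +kernel) (by decide +kernel) (by decide +kernel) x y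

theorem sig_fixed : sigFun z0 = z0 ∧ sigFun 1 = 1 := by decide +kernel

theorem sig_facts (c : C0) : sigFun (sigFun c) = c ∧ (c * c = z0 → kd c = 8 → kd (sigFun c) = 6) := by
  have h := forall_of_all (p := fun c => decide (sigFun (sigFun c) = c ∧ (c * c = z0 → kd c = 8 →
    kd (sigFun c) = 6))) (by decide +kernel) c
  exact of_decide_eq_true h

/-- the automorphism exchanging the quaternion subgroups, as a homomorphism -/
def sigHom : C0 →* C0 where
  toFun := sigFun
  map_one' := sig_fixed.2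
  map_mul' := sigFun_mul

theorem sigHom_injective : Function.Injective sigHom := fun a b h => by
  have := congrArg sigFun h
  show a = b
  rwa [show sigFun (sigHom a) = a from (sig_facts a).1, show sigFun (sigHom b) = b from (sig_facts b).1] at this

/-- compose the parametrisation with the exchange -/
def Setup.swapK {G : Type*} [Group G] (D : Setup G) : Setup G where
  z := D.z
  ι := D.ι.comp sigHom
  inj := D.inj.comp sigHom_injective
  range_eq := by
    rw [← D.range_eq]
    refine le_antisymm (fun y => ?_) (fun y => ?_)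
    · rintro ⟨c, rfl⟩; exact ⟨_, rfl⟩
    · rintro ⟨c, rfl⟩
      exact ⟨sigFun c, congrArg D.ι (sig_facts c).1⟩
  map_z := by
    show D.ι (sigFun z0) = D.z
    rw [sig_fixed.1, D.map_z]

/-- membership of the first quaternion subgroup -/
def InK (k : C0) : Prop := kd k = 0 ∨ kd k = 1 ∨ kd k = 6

theorem roots_commute (c d : C0) (hc : kd c = 6) (hd : kd d = 8) : c * d = d * c := by
  have h := forall_of_all (p := fun c => !(kd c == 6) || allEl.all fun d => !(kd d == 8) || c * d == d * c)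
    (by decide +kernel) c
  simp only [hc, BEq.rfl, Bool.not_true, Bool.false_or, List.all_eq_true] at h
  have := h d (mem_allEl d)
  simpa [hd] using this

theorem roots_generate (c d k : C0) (hc : kd c = 6) (hd : kd d = 6) (hne : c * d ≠ d * c) (hk : InK k) :
    k ∈ [1, c, c * c, c * c * c, d, c * d, c * c * d, c * c * c * d] := by
  have h := forall_of_all (p := fun c => !(kd c == 6) || allEl.all fun d => !(kd d == 6 && !(c * d == d * c)) ||
    allEl.all fun k => !(kd k == 0 || kd k == 1 || kd k == 6) ||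
      [1, c, c * c, c * c * c, d, c * d, c * c * d, c * c * c * d].contains k) (by decide +kernel) c
  simp only [hc, BEq.rfl, Bool.not_true, Bool.false_or, List.all_eq_true] at h
  have h1 := h d (mem_allEl d)
  simp only [hd, BEq.rfl, Bool.true_and, Bool.not_not, Bool.or_eq_true, beq_iff_eq, List.all_eq_true] at h1
  have h2 := (h1.resolve_left hne) k (mem_allEl k)
  rcases hk with hk | hk | hk <;> simpa [hk] using h2

/-- a subgroup of order nine inverted by the central involution and normalised by the quaternion subgroup -/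
structure Nine {G : Type u} [Group G] (D : Setup G) (E : Subgroup G) : Prop where
  card_E : Nat.card E = 9
  cube : ∀ a ∈ E, a ^ 3 = 1
  inv : ∀ a ∈ E, D.z * a * D.z⁻¹ = a⁻¹
  comm_X : ∀ a ∈ E, ∃ i, IsConj D.z i ∧ a * i = i * a
  norm : ∀ k : C0, InK k → ∀ a ∈ E, D.ι k * a * (D.ι k)⁻¹ ∈ E

variable {G : Type u} [Group G] [Finite G] [IsSimpleGroup G]

theorem exists_nine_frame (hG : ¬ IsMulCommutative G) (D : Setup G) :
    ∃ (F : Frame G) (E : Subgroup G), Nine F.toSetup E := by
  obtain ⟨F⟩ := exists_frame hG D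
  obtain ⟨E₀, i, q₁, q₂, hiz, hcard, hcube, hinv, hX, hq1, hq2, hne, hnorm⟩ := F.exists_roots
  obtain ⟨g, hg⟩ := isConj_iff.1 hiz.symm
  -- move the involution to the centre of the model
  let φ := MulAut.conj g
  let E := E₀.map φ.toMonoidHom
  have hφi : φ i = F.z := hg
  have hcom : ∀ q, q * q = i → φ q * F.z = F.z * φ q := fun q hq => by
    rw [← hφi, ← map_mul, ← map_mul, ← hq, mul_assoc]
  obtain ⟨c, hc⟩ := F.D.exists_pre (hcom q₁ hq1)
  obtain ⟨d, hd⟩ := F.D.exists_pre (hcom q₂ hq2)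
  have hcz : c * c = z0 := F.inj (by rw [map_mul, hc, ← map_mul, hq1, hφi, F.map_z])
  have hdz : d * d = z0 := F.inj (by rw [map_mul, hd, ← map_mul, hq2, hφi, F.map_z])
  have hcd : c * d ≠ d * c := fun e => hne (φ.injective (by
    have := congrArg F.ι e
    rwa [map_mul, map_mul, hc, hd, ← map_mul, ← map_mul] at this))
  have hE9 : Nat.card E = 9 := by rw [Subgroup.card_map_of_injective φ.injective, hcard]
  have hEc : ∀ a ∈ E, a ^ 3 = 1 := by
    rintro _ ⟨a, ha, rfl⟩
    rw [← map_pow, hcube a ha, map_one]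
  have hEi : ∀ a ∈ E, F.z * a * F.z⁻¹ = a⁻¹ := by
    rintro _ ⟨a, ha, rfl⟩
    rw [← hφi]
    show φ i * φ a * (φ i)⁻¹ = (φ a)⁻¹
    rw [← map_inv, ← map_mul, ← map_mul, ← map_inv, hinv a ha]
  have hEX : ∀ a ∈ E, ∃ k, IsConj F.z k ∧ a * k = k * a := by
    rintro _ ⟨a, ha, rfl⟩
    obtain ⟨k, hk, hak⟩ := hX a ha
    refine ⟨φ k, hk.trans (isConj_iff.2 ⟨g, rfl⟩), ?_⟩
    show φ a * φ k = φ k * φ a
    rw [← map_mul, ← map_mul, hak]
  have hEq : ∀ a ∈ E, F.ι c * a * (F.ι c)⁻¹ ∈ E ∧ F.ι d * a * (F.ι d)⁻¹ ∈ E := by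
    rintro _ ⟨a, ha, rfl⟩
    obtain ⟨h1, h2⟩ := hnorm a ha
    rw [hc, hd]
    exact ⟨⟨_, h1, show φ (q₁ * a * q₁⁻¹) = φ q₁ * φ a * (φ q₁)⁻¹ by rw [map_mul, map_mul, map_inv]⟩,
      ⟨_, h2, show φ (q₂ * a * q₂⁻¹) = φ q₂ * φ a * (φ q₂)⁻¹ by rw [map_mul, map_mul, map_inv]⟩⟩
  -- choose the parametrisation with both roots in the first subgroup
  obtain ⟨D', hz', c', d', hc', hd', hcd', hnorm'⟩ : ∃ D' : Setup G, D'.z = F.z ∧ ∃ c' d' : C0,
      kd c' = 6 ∧ kd d' = 6 ∧ c' * d' ≠ d' * c' ∧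
      ∀ a ∈ E, D'.ι c' * a * (D'.ι c')⁻¹ ∈ E ∧ D'.ι d' * a * (D'.ι d')⁻¹ ∈ E := by
    rcases sq_z0_kinds c hcz with e | e <;> rcases sq_z0_kinds d hdz with e' | e'
    · exact ⟨F.toSetup, rfl, c, d, e, e', hcd, hEq⟩
    · exact absurd (roots_commute c d e e') hcd
    · exact absurd (roots_commute d c e' e).symm hcd
    · refine ⟨F.toSetup.swapK, rfl, sigFun c, sigFun d, (sig_facts c).2 hcz e, (sig_facts d).2 hdz e',
        fun e2 => hcd ?_, fun a ha => ?_⟩
      · have := congrArg sigFun e2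
        rwa [sigFun_mul, sigFun_mul, (sig_facts c).1, (sig_facts d).1] at this
      · show F.ι (sigFun (sigFun c)) * a * (F.ι (sigFun (sigFun c)))⁻¹ ∈ E ∧ _
        rw [(sig_facts c).1]
        show _ ∧ F.ι (sigFun (sigFun d)) * a * (F.ι (sigFun (sigFun d)))⁻¹ ∈ E
        rw [(sig_facts d).1]
        exact hEq a ha
  have hc2 : c' * c' = z0 := by
    have := half_power c' (by rw [hc']; simp)
    rwa [hc', show ordK 6 / 2 = 2 from rfl, sq] at this
  have hd2 : d' * d' = z0 := by
    have := half_power d' (by rw [hd']; simp)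
    rwa [hd', show ordK 6 / 2 = 2 from rfl, sq] at this
  obtain ⟨F', hF'⟩ := exists_frame' hG D'
  have hz : F'.z = F.z := by
    rcases hF' with h | h <;> exact (congrArg Setup.z h).trans hz'
  -- the roots in the new frame
  obtain ⟨c'', d'', hc'', hd'', hcd'', hnorm''⟩ : ∃ c'' d'' : C0, kd c'' = 6 ∧ kd d'' = 6 ∧
      c'' * d'' ≠ d'' * c'' ∧ ∀ a ∈ E, F'.ι c'' * a * (F'.ι c'')⁻¹ ∈ E ∧ F'.ι d'' * a * (F'.ι d'')⁻¹ ∈ E := by
    rcases hF' with h | h
    · exact ⟨c', d', hc', hd', hcd', by rw [show F'.ι = D'.ι by rw [h]]; exact hnorm'⟩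
    · have hι : ∀ x, F'.ι (epsFun x) = D'.ι x := fun x => by
        rw [show F'.ι = D'.twist.ι by rw [h]]
        exact congrArg D'.ι (eps_facts x).1
      have hk : ∀ x, x * x = z0 → kd x = 6 → kd (epsFun x) = 6 := fun x hx hk => by
        have h4 := (eps_facts x).2.1 hx
        rw [(class_data x).2.1, (class_data (epsFun x)).2.1, hk] at h4
        rcases sq_z0_kinds (epsFun x) (by rw [← epsFun_mul, hx, eps_fixed.1]) with e | e
        · exact e
        · rw [e] at h4
          exact absurd h4 (by decide)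
      refine ⟨epsFun c', epsFun d', hk c' hc2 hc', hk d' hd2 hd', fun e2 => hcd' ?_, fun a ha => ?_⟩
      · have := congrArg epsFun e2
        rwa [epsFun_mul, epsFun_mul, (eps_facts c').1, (eps_facts d').1] at this
      · rw [hι, hι]
        exact hnorm' a ha
  refine ⟨F', E, hE9, hEc, by rw [show F'.z = F.z from hz]; exact hEi, by rw [show F'.z = F.z from hz]; exact hEX,
    fun k hk a ha => ?_⟩
  have hgen : ∀ x, (x = F'.ι c'' ∨ x = F'.ι d'') → ∀ b ∈ E, x * b * x⁻¹ ∈ E := fun x hx b hb => by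
    rcases hx with rfl | rfl
    exacts [(hnorm'' b hb).1, (hnorm'' b hb).2]
  have hprod : ∀ x y : C0, (∀ b ∈ E, F'.ι x * b * (F'.ι x)⁻¹ ∈ E) → (∀ b ∈ E, F'.ι y * b * (F'.ι y)⁻¹ ∈ E) →
      ∀ b ∈ E, F'.ι (x * y) * b * (F'.ι (x * y))⁻¹ ∈ E := fun x y hx hy b hb => by
    rw [map_mul, show F'.ι x * F'.ι y * b * (F'.ι x * F'.ι y)⁻¹ =
      F'.ι x * (F'.ι y * b * (F'.ι y)⁻¹) * (F'.ι x)⁻¹ by group]
    exact hx _ (hy b hb)
  have hC := hgen _ (Or.inl rfl)
  have hD := hgen _ (Or.inr rfl)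
  have hmem := roots_generate c'' d'' k hc'' hd'' hcd'' hk
  simp only [List.mem_cons, List.not_mem_nil, or_false] at hmem
  rcases hmem with rfl | rfl | rfl | rfl | rfl | rfl | rfl | rfl
  · rw [map_one, one_mul, inv_one, mul_one]; exact ha
  · exact hC a ha
  · exact hprod _ _ hC hC a ha
  · exact hprod _ _ (hprod _ _ hC hC) hC a ha
  · exact hD a ha
  · exact hprod _ _ hC hD a ha
  · exact hprod _ _ (hprod _ _ hC hC) hD a ha
  · exact hprod _ _ (hprod _ _ (hprod _ _ hC hC) hC) hD a ha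

end Cfsg.Agent.MTwelve
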