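import Cfsg.Agent.Lib.Spor.MTwelve.CharEleven
import Cfsg.Agent.Lib.Spor.MTwelve.Roots
import Mathlib.RepresentationTheory.Character
import Mathlib.LinearAlgebra.Dimension.OrzechProperty

/-!
A subgroup fixing a vector in the representation of degree eleven.
-/

set_option autoImplicit false
set_option maxRecDepth 100000
set_option maxHeartbeats 4000000
set_option linter.style.haveILetI false
set_option linter.unusedSectionVars false
set_option Elab.async false

namespace Cfsg.Agent.MTwelve

open C0

universe u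

theorem inK_one : InK 1 := Or.inl (by decide +kernel)

theorem inK_mul {a b : C0} (ha : InK a) (hb : InK b) : InK (a * b) := by
  have h := forall_of_all (p := fun a => !(kd a == 0 || kd a == 1 || kd a == 6) || allEl.all fun b =>
    !(kd b == 0 || kd b == 1 || kd b == 6) || (kd (a * b) == 0 || kd (a * b) == 1 || kd (a * b) == 6))
    (by decide +kernel) a
  have ha' : (kd a == 0 || kd a == 1 || kd a == 6) = true := by rcases ha with h | h | h <;> simp [h]
  have hb' : (kd b == 0 || kd b == 1 || kd b == 6) = true := by rcases hb with h | h | h <;> simp [h]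
  simp only [ha', Bool.not_true, Bool.false_or, List.all_eq_true] at h
  have h1 := h b (mem_allEl b)
  simp only [hb', Bool.not_true, Bool.false_or, Bool.or_eq_true, beq_iff_eq] at h1
  rcases h1 with (e | e) | e
  exacts [Or.inl e, Or.inr (Or.inl e), Or.inr (Or.inr e)]

theorem inK_inv {a : C0} (ha : InK a) : InK a⁻¹ := by
  have h := forall_of_all (p := fun a => !(kd a == 0 || kd a == 1 || kd a == 6) ||
    (kd a⁻¹ == 0 || kd a⁻¹ == 1 || kd a⁻¹ == 6)) (by decide +kernel) a
  have ha' : (kd a == 0 || kd a == 1 || kd a == 6) = true := by rcases ha with h | h | h <;> simp [h]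
  simp only [ha', Bool.not_true, Bool.false_or, Bool.or_eq_true, beq_iff_eq] at h
  rcases h with (e | e) | e
  exacts [Or.inl e, Or.inr (Or.inl e), Or.inr (Or.inr e)]

/-- the first quaternion subgroup -/
def KSub : Subgroup C0 where
  carrier := {k | InK k}
  one_mem' := inK_one
  mul_mem' := inK_mul
  inv_mem' := inK_inv

/-- the stabiliser of a point -/
def stabPt (p : Fin 12) : Subgroup C0 where
  carrier := {c | img c p = p}
  one_mem' := img_one p
  mul_mem' {a b} ha hb := by
    show img (a * b) p = p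
    rw [img_mul, hb, ha]
  inv_mem' {a} ha := by
    show img a⁻¹ p = p
    conv_lhs => rw [← ha]
    rw [← img_mul, inv_mul_cancel, img_one]

theorem KSub_le_stab (p : Fin 12) (hp : p.val < 2) : KSub ≤ stabPt p := fun k hk => by
  have h := forall_of_all (p := fun k => !(kd k == 0 || kd k == 1 || kd k == 6) ||
    (img k 0 == 0 && img k 1 == 1)) (by decide +kernel) k
  have hk' : (kd k == 0 || kd k == 1 || kd k == 6) = true := by
    rcases (hk : InK k) with h | h | h <;> simp [h]
  simp only [hk', Bool.not_true, Bool.false_or, Bool.and_eq_true, beq_iff_eq] at h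
  show img k p = p
  rcases (by omega : p.val = 0 ∨ p.val = 1) with e | e
  · rw [show p = 0 from Fin.ext e]; exact h.1
  · rw [show p = 1 from Fin.ext e]; exact h.2

theorem card_subgroup_list (A : Subgroup C0) (q : C0 → Bool) (h : ∀ c, c ∈ A ↔ q c = true) :
    Nat.card A = (allEl.filter q).length := by
  classical
  have hnd : allEl.Nodup := by decide +kernel
  rw [Nat.card_eq_fintype_card, ← List.toFinset_card_of_nodup (hnd.filter _), Fintype.card_subtype]
  congr 1
  ext c
  simp [h, mem_allEl]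

theorem sum_subgroup_list {M : Type} [AddCommMonoid M] (A : Subgroup C0) [Fintype A] (q : C0 → Bool)
    (h : ∀ c, c ∈ A ↔ q c = true) (f : C0 → M) : ∑ c : A, f c = ((allEl.filter q).map f).sum := by
  classical
  have hnd : allEl.Nodup := by decide +kernel
  rw [← List.sum_toFinset _ (hnd.filter _)]
  exact (Finset.sum_subtype _ (fun c => by simp [h, mem_allEl]) f).symm

theorem mem_KSub (c : C0) : c ∈ KSub ↔ (kd c == 0 || kd c == 1 || kd c == 6) = true := by
  show InK c ↔ _
  simp [InK, or_assoc]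

theorem mem_stabPt (p : Fin 12) (c : C0) : c ∈ stabPt p ↔ (img c p == p) = true := by
  rw [beq_iff_eq]
  exact Iff.rfl

theorem card_KSub : Nat.card KSub = 8 := by
  rw [card_subgroup_list _ _ mem_KSub]; decide +kernel

theorem card_stabPt (p : Fin 12) (hp : p.val < 2) : Nat.card (stabPt p) = 48 := by
  rw [card_subgroup_list _ _ (mem_stabPt p)]
  rcases (by omega : p.val = 0 ∨ p.val = 1) with e | e
  · rw [show p = 0 from Fin.ext e]; decide +kernel
  · rw [show p = 1 from Fin.ext e]; decide +kernel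

theorem sum_KSub [Fintype KSub] : ∑ c : KSub, ((fx (c : C0) : ℤ) - 1) = 32 := by
  rw [sum_subgroup_list _ _ mem_KSub (fun c => (fx c : ℤ) - 1)]; decide +kernel

theorem sum_stabPt (p : Fin 12) (hp : p.val < 2) [Fintype (stabPt p)] :
    ∑ c : stabPt p, ((fx (c : C0) : ℤ) - 1) = 96 := by
  rw [sum_subgroup_list _ _ (mem_stabPt p) (fun c => (fx c : ℤ) - 1)]
  rcases (by omega : p.val = 0 ∨ p.val = 1) with e | e
  · rw [show p = 0 from Fin.ext e]; decide +kernel
  · rw [show p = 1 from Fin.ext e]; decide +kernel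

theorem K_power_z {k : C0} (hk : k ∈ KSub) (h1 : k ≠ 1) : ∃ j : ℕ, k ^ j = z0 := by
  rcases (hk : InK k) with h | h | h
  · exact absurd (orderOf_eq_one_iff.1 ((order_eq_ordK k).trans (by rw [h]; rfl))) h1
  all_goals exact ⟨_, half_power k (by rw [h]; simp)⟩

namespace Frame

variable {G : Type u} [Group G] {F : Frame G} {E : Subgroup G}

theorem K_conj (hE : Nine F.toSetup E) {k : C0} (hk : k ∈ KSub) {a : G} (ha : a ∈ E) :
    F.ι k * a * (F.ι k)⁻¹ ∈ E ∧ (F.ι k)⁻¹ * a * F.ι k ∈ E := by
  refine ⟨hE.norm k hk a ha, ?_⟩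
  have := hE.norm k⁻¹ (KSub.inv_mem hk) a ha
  rwa [map_inv, inv_inv] at this

theorem E_abelian (hE : Nine F.toSetup E) {a b : G} (ha : a ∈ E) (hb : b ∈ E) : a * b = b * a := by
  have h1 := hE.inv _ (mul_mem ha hb)
  have h2 : F.z * (a * b) * F.z⁻¹ = a⁻¹ * b⁻¹ := by
    rw [← hE.inv a ha, ← hE.inv b hb]
    group
  rw [h2, ← mul_inv_rev, inv_inj] at h1
  exact h1.symm

/-- no nontrivial element of the quaternion subgroup fixes a nontrivial element -/
theorem K_free (hE : Nine F.toSetup E) {k : C0} (hk : k ∈ KSub) (hk1 : k ≠ 1) {a : G} (ha : a ∈ E)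
    (h : F.ι k * a = a * F.ι k) : a = 1 := by
  obtain ⟨j, hj⟩ := K_power_z hk hk1
  have hc : Commute (F.ι k ^ j) a := (show Commute (F.ι k) a from h).pow_left j
  rw [← map_pow, hj, F.map_z] at hc
  have h1 := hE.inv a ha
  rw [hc.eq, mul_inv_cancel_right] at h1
  exact eq_one_of_inv_self (hE.cube a ha) h1

theorem K_meet (hE : Nine F.toSetup E) {k : C0} (ha : F.ι k ∈ E) : k = 1 := by
  have h1 := hE.inv _ ha
  rw [← F.D.commute_z, mul_inv_cancel_right] at h1
  have := eq_one_of_inv_self (hE.cube _ ha) h1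
  exact F.inj (by rw [this, map_one])

/-- the product of the two subgroups -/
def EK (hE : Nine F.toSetup E) : Subgroup G where
  carrier := {g | ∃ a ∈ E, ∃ k ∈ KSub, g = a * F.ι k}
  one_mem' := ⟨1, one_mem _, 1, one_mem _, by rw [map_one, mul_one]⟩
  mul_mem' := by
    rintro _ _ ⟨a, ha, k, hk, rfl⟩ ⟨b, hb, l, hl, rfl⟩
    exact ⟨a * (F.ι k * b * (F.ι k)⁻¹), mul_mem ha (K_conj hE hk hb).1, k * l, mul_mem hk hl, by
      rw [map_mul]; group⟩
  inv_mem' := by
    rintro _ ⟨a, ha, k, hk, rfl⟩
    exact ⟨(F.ι k)⁻¹ * a⁻¹ * F.ι k, (K_conj hE hk (inv_mem ha)).2, k⁻¹, inv_mem hk, by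
      rw [map_inv]; group⟩

/-- the parametrisation of the product -/
noncomputable def ekEquiv (hE : Nine F.toSetup E) : E × KSub ≃ EK hE :=
  Equiv.ofBijective (fun p => ⟨p.1.1 * F.ι p.2.1, p.1.1, p.1.2, p.2.1, p.2.2, rfl⟩) (by
    constructor
    · rintro ⟨a, k⟩ ⟨b, l⟩ e
      have e' : (a : G) * F.ι k = b * F.ι l := congrArg Subtype.val e
      have h : F.ι ((l : C0) * (k : C0)⁻¹) = (b : G)⁻¹ * a := by
        rw [map_mul, map_inv]
        calc F.ι l * (F.ι k)⁻¹ = (b : G)⁻¹ * (b * F.ι l) * (F.ι k)⁻¹ := by group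
          _ = _ := by rw [← e']; group
      have h1 := K_meet hE (h ▸ mul_mem (inv_mem b.2) a.2)
      have hkl : l = k := Subtype.ext (mul_inv_eq_one.1 h1)
      subst hkl
      exact Prod.ext (Subtype.ext (mul_right_cancel e')) rfl
    · rintro ⟨_, a, ha, k, hk, rfl⟩
      exact ⟨(⟨a, ha⟩, ⟨k, hk⟩), rfl⟩)

variable [Finite G] [IsSimpleGroup G]

theorem fval_EK [DecidableEq G] (hE : Nine F.toSetup E) {a : G} (ha : a ∈ E) {k : C0} (hk : k ∈ KSub) :
    F.fval (a * F.ι k) = if k = 1 then (if a = 1 then 11 else 2) else (fx k : ℤ) - 1 := by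
  classical
  by_cases h : k = 1
  · rw [if_pos h, h, map_one, mul_one]
    by_cases h' : a = 1
    · rw [if_pos h', h', F.fval_one]
    · rw [if_neg h']
      obtain ⟨i, hi, hai⟩ := hE.comm_X a ha
      exact F.fval_x (F.three_X (hE.cube a ha) h' hi hai)
  · rw [if_neg h]
    -- every element of the coset is conjugate to its quaternion part
    let ψ : E → E := fun e => ⟨(e : G) * (F.ι k * (e : G)⁻¹ * (F.ι k)⁻¹),
      mul_mem e.2 (K_conj hE hk (inv_mem e.2)).1⟩
    have hψ : Function.Injective ψ := by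
      intro e₁ e₂ he
      have he' : (e₁ : G) * (F.ι k * (e₁ : G)⁻¹ * (F.ι k)⁻¹) = e₂ * (F.ι k * (e₂ : G)⁻¹ * (F.ι k)⁻¹) :=
        congrArg Subtype.val he
      have h2 : F.ι k * ((e₂ : G)⁻¹ * e₁) = (e₂ : G)⁻¹ * e₁ * F.ι k := by
        symm
        calc (e₂ : G)⁻¹ * e₁ * F.ι k
            = (e₂ : G)⁻¹ * ((e₁ : G) * (F.ι k * (e₁ : G)⁻¹ * (F.ι k)⁻¹)) * F.ι k * e₁ := by group
          _ = _ := by rw [he']; group
      exact (Subtype.ext (inv_mul_eq_one.1 (K_free hE hk h (mul_mem (inv_mem e₂.2) e₁.2) h2))).symm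
    obtain ⟨e, he⟩ := Finite.surjective_of_injective hψ ⟨a, ha⟩
    have he' : (e : G) * (F.ι k * (e : G)⁻¹ * (F.ι k)⁻¹) = a := congrArg Subtype.val he
    rw [← F.fval_iota k]
    exact F.fval_conj (isConj_iff.2 ⟨(e : G)⁻¹, by rw [← he']; group⟩)

theorem sum_EK (hE : Nine F.toSetup E) [Fintype (EK hE)] : ∑ g : EK hE, F.fval (g : G) = 216 := by
  classical
  haveI := Fintype.ofFinite E
  haveI := Fintype.ofFinite KSub
  rw [← (ekEquiv hE).sum_comp, Fintype.sum_prod_type_right]
  have hE1 : ∑ a : E, (if (a : G) = 1 then (11 : ℤ) else 2) = 27 := by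
    rw [← Finset.add_sum_erase _ _ (Finset.mem_univ (1 : E))]
    rw [Finset.sum_congr rfl (g := fun _ => (2 : ℤ)) fun a ha => if_neg fun e => by
      exact (Finset.mem_erase.1 ha).1 (Subtype.ext e)]
    rw [Finset.sum_const, Finset.card_erase_of_mem (Finset.mem_univ _), Finset.card_univ, ← Nat.card_eq_fintype_card,
      hE.card_E]
    simp
  have hk : ∀ k : KSub, ∑ a : E, F.fval (((ekEquiv hE) (a, k) : EK hE) : G) =
      if k = 1 then 27 else 9 * ((fx (k : C0) : ℤ) - 1) := by
    intro k
    show ∑ a : E, F.fval ((a : G) * F.ι (k : C0)) = _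
    rw [Finset.sum_congr rfl (g := fun a : E => if (k : C0) = 1 then (if (a : G) = 1 then (11 : ℤ) else 2)
      else (fx (k : C0) : ℤ) - 1) fun a _ => fval_EK hE a.2 k.2]
    by_cases h : k = 1
    · rw [if_pos h]
      simp only [h, OneMemClass.coe_one, if_true]
      exact hE1
    · rw [if_neg h]
      have h' : (k : C0) ≠ 1 := fun e => h (Subtype.ext e)
      simp only [h', if_false]
      rw [Finset.sum_const, Finset.card_univ, ← Nat.card_eq_fintype_card, hE.card_E]
      simp
  rw [Finset.sum_congr rfl fun k _ => hk k, ← Finset.add_sum_erase _ _ (Finset.mem_univ (1 : KSub)),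
    if_pos rfl, Finset.sum_congr rfl (g := fun k : KSub => 9 * ((fx (k : C0) : ℤ) - 1)) fun k hk =>
      if_neg (Finset.mem_erase.1 hk).1, ← Finset.mul_sum]
  have h32 := sum_KSub
  rw [← Finset.add_sum_erase _ _ (Finset.mem_univ (1 : KSub))] at h32
  have h11 : ((fx ((1 : KSub) : C0) : ℤ) - 1) = 11 := by decide +kernel
  rw [h11] at h32
  linarith

/-- The dimension of the fixed space of a subgroup. -/
theorem finrank_fix {n : ℕ} {ρ : Representation ℂ G (Fin n → ℂ)} (hρ : ρ.character = F.theta) (A : Subgroup G)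
    [Fintype A] {d : ℕ} (h : ∑ g : A, F.fval (g : G) = d * Nat.card A) :
    Module.finrank ℂ (Representation.invariants (ρ.comp A.subtype)) = d := by
  haveI : Invertible (Nat.card A : ℂ) := invertibleOfNonzero (Nat.cast_ne_zero.2 Nat.card_pos.ne')
  have h1 := Representation.card_inv_mul_sum_char_eq_finrank (ρ.comp A.subtype : Representation ℂ A (Fin n → ℂ))
  have h2 : ∑ g : A, Representation.character (ρ.comp A.subtype : Representation ℂ A (Fin n → ℂ)) g = (d * Nat.card A : ℂ) := by
    have h' := congrArg (fun x : ℤ => (x : ℂ)) h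
    push_cast at h'
    rw [← h']
    refine Finset.sum_congr rfl fun g _ => ?_
    show ρ.character (g : G) = _
    rw [hρ]
    rfl
  rw [h2, mul_comm (d : ℂ), ← mul_assoc, inv_mul_cancel₀ (Nat.cast_ne_zero.2 Nat.card_pos.ne'), one_mul] at h1
  exact_mod_cast h1.symm

/-- The subgroup of the proof is proper of large index. -/
theorem index_bound (hE : Nine F.toSetup E) (p : Fin 12) (hp : p.val < 2) :
    12 ≤ (E ⊔ (stabPt p).map F.ι).index := by
  classical
  haveI := Fintype.ofFinite G
  obtain ⟨n, ρ, hirr, hρ⟩ := F.theta_irr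
  have hn : n = 11 := by
    have h1 := congrFun hρ 1
    rw [Representation.char_one, theta, F.fval_one, Module.finrank_fin_fun] at h1
    exact_mod_cast h1
  let L : Subgroup G := (stabPt p).map F.ι
  let K' : Subgroup G := KSub.map F.ι
  haveI := Fintype.ofFinite L
  haveI := Fintype.ofFinite K'
  haveI := Fintype.ofFinite (EK hE)
  haveI := Fintype.ofFinite (stabPt p)
  haveI := Fintype.ofFinite KSub
  have hmap : ∀ (A : Subgroup C0) [Fintype A] [Fintype (A.map F.ι)],
      ∑ g : A.map F.ι, F.fval (g : G) = ∑ c : A, ((fx (c : C0) : ℤ) - 1) ∧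
      Nat.card (A.map F.ι) = Nat.card A := fun A _ _ => by
    refine ⟨?_, Subgroup.card_map_of_injective F.inj⟩
    rw [← (Subgroup.equivMapOfInjective A F.ι F.inj).toEquiv.sum_comp]
    exact Finset.sum_congr rfl fun c _ => F.fval_iota c
  have d2 : Module.finrank ℂ (Representation.invariants (ρ.comp L.subtype)) = 2 := by
    refine finrank_fix hρ L ?_
    obtain ⟨h1, h2⟩ := hmap (stabPt p)
    rw [h1, h2, sum_stabPt p hp, card_stabPt p hp]
    norm_num
  have d4 : Module.finrank ℂ (Representation.invariants (ρ.comp K'.subtype)) = 4 := by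
    refine finrank_fix hρ K' ?_
    obtain ⟨h1, h2⟩ := hmap KSub
    rw [h1, h2, sum_KSub, card_KSub]
    norm_num
  have d3 : Module.finrank ℂ (Representation.invariants (ρ.comp (EK hE).subtype)) = 3 := by
    refine finrank_fix hρ (EK hE) ?_
    rw [sum_EK hE, ← Nat.card_congr (ekEquiv hE), Nat.card_prod, hE.card_E, card_KSub]
    norm_num
  set V₁ := Representation.invariants (ρ.comp (EK hE).subtype) with hV₁
  set V₂ := Representation.invariants (ρ.comp L.subtype) with hV₂
  set V₀ := Representation.invariants (ρ.comp K'.subtype) with hV₀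
  have h10 : V₁ ≤ V₀ := fun v hv => by
    rintro ⟨_, k, hk, rfl⟩
    exact hv ⟨F.ι k, 1, one_mem _, k, hk, (one_mul _).symm⟩
  have h20 : V₂ ≤ V₀ := fun v hv => by
    rintro ⟨_, k, hk, rfl⟩
    exact hv ⟨F.ι k, k, KSub_le_stab p hp hk, rfl⟩
  have hinf : 1 ≤ Module.finrank ℂ ↥(V₁ ⊓ V₂) := by
    have h1 := Submodule.finrank_sup_add_finrank_inf_eq V₁ V₂
    have h2 := Submodule.finrank_mono (sup_le h10 h20)
    omega
  obtain ⟨v, hv, hv0⟩ : ∃ v ∈ V₁ ⊓ V₂, v ≠ 0 := by
    by_contra hcon
    push Not at hcon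
    rw [(Submodule.eq_bot_iff _).2 hcon, finrank_bot] at hinf
    omega
  -- the stabiliser of the vector
  set H := E ⊔ (stabPt p).map F.ι with hH
  have hHv : ∀ g ∈ H, ρ g v = v := by
    let T : Subgroup G :=
      { carrier := {g | ρ g v = v}
        one_mem' := by show ρ 1 v = v; rw [map_one]; rfl
        mul_mem' := fun {a b} ha hb => by
          show ρ (a * b) v = v
          rw [map_mul, Module.End.mul_apply, hb, ha]
        inv_mem' := fun {a} ha => by
          show ρ a⁻¹ v = v
          conv_lhs => rw [← (ha : ρ a v = v)]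
          rw [← Module.End.mul_apply, ← map_mul, inv_mul_cancel, map_one]
          rfl }
    have hle : H ≤ T := sup_le
      (fun a ha => (Submodule.mem_inf.1 hv).1 ⟨a, a, ha, 1, one_mem _, by rw [map_one, mul_one]⟩)
      (fun a ha => (Submodule.mem_inf.1 hv).2 ⟨a, ha⟩)
    exact fun g hg => hle hg
  haveI : Invertible (Nat.card G : ℂ) := invertibleOfNonzero (Nat.cast_ne_zero.2 Nat.card_pos.ne')
  have hinv0 : Representation.invariants ρ = ⊥ := by
    have h1 := ρ.card_inv_mul_sum_char_eq_finrank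
    have h2 : ∑ g : G, ρ.character g = 0 := by
      have h' := congrArg (fun x : ℤ => (x : ℂ)) F.theta_sum
      push_cast at h'
      rw [← h', hρ]
      rfl
    rw [h2, mul_zero] at h1
    exact Submodule.finrank_eq_zero.1 (by exact_mod_cast h1.symm)
  -- the orbit of the vector
  haveI := Fintype.ofFinite (G ⧸ H)
  let f : G ⧸ H → (Fin n → ℂ) := fun q => ρ q.out v
  have hf : ∀ g : G, f (g : G ⧸ H) = ρ g v := fun g => by
    obtain ⟨h, hh⟩ := QuotientGroup.mk_out_eq_mul H g
    show ρ (Quotient.out (g : G ⧸ H)) v = _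
    rw [hh, map_mul, Module.End.mul_apply, hHv _ h.2]
  have hperm : ∀ (g : G) (q : G ⧸ H), ρ g (f q) = f (g • q) := fun g q => by
    induction q using QuotientGroup.induction_on with
    | _ x =>
      rw [hf, MulAction.Quotient.smul_mk, hf, smul_eq_mul, map_mul, Module.End.mul_apply]
  have hsum : ∑ q, f q = 0 := by
    have : ∑ q, f q ∈ Representation.invariants ρ := fun g => by
      rw [map_sum, Finset.sum_congr rfl fun q _ => hperm g q]
      exact Equiv.sum_comp (MulAction.toPerm g) f
    rwa [hinv0, Submodule.mem_bot] at this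
  let W : Subrepresentation ρ :=
    { toSubmodule := Submodule.span ℂ (Set.range f)
      apply_mem_toSubmodule := fun g w hw => by
        induction hw using Submodule.span_induction with
        | mem x hx =>
          obtain ⟨q, rfl⟩ := hx
          rw [hperm]
          exact Submodule.subset_span ⟨_, rfl⟩
        | zero => rw [map_zero]; exact zero_mem _
        | add x y _ _ h1 h2 => rw [map_add]; exact add_mem h1 h2
        | smul r x _ h1 => rw [map_smul]; exact Submodule.smul_mem _ r h1 }
  have hWtop : Submodule.span ℂ (Set.range f) = ⊤ := by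
    haveI : IsSimpleOrder (Subrepresentation ρ) := hirr
    rcases IsSimpleOrder.eq_bot_or_eq_top W with e | e
    · exfalso
      have hvW : v ∈ W.toSubmodule := Submodule.subset_span ⟨((1 : G) : G ⧸ H), by rw [hf, map_one]; rfl⟩
      rw [e] at hvW
      exact hv0 ((Submodule.mem_bot ℂ).1 hvW)
    · exact congrArg Subrepresentation.toSubmodule e
  have hcard : H.index = Fintype.card (G ⧸ H) := by rw [Subgroup.index_eq_card, Nat.card_eq_fintype_card]
  by_contra hlt
  have hle : n ≤ Fintype.card (G ⧸ H) := by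
    have h1 := finrank_range_le_card (R := ℂ) f
    rw [Set.finrank, hWtop, finrank_top, Module.finrank_fin_fun] at h1
    exact h1
  have hli := linearIndependent_of_top_le_span_of_card_eq_finrank (b := f) hWtop.ge
    (by rw [Module.finrank_fin_fun]; omega)
  have := Fintype.linearIndependent_iff.1 hli (fun _ => (1 : ℂ)) (by simpa using hsum) ((1 : G) : G ⧸ H)
  exact one_ne_zero this

end Frame

end Cfsg.Agent.MTwelve
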