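import Cfsg.Agent.Lib.Spor.MTwelve.Order
import Cfsg.Agent.Lib.Spor.MTwelve.ClassFacts

/-!
A frame: the centraliser of the involution parametrised so that fixed point numbers respect fusion.
-/

set_option autoImplicit false
set_option linter.style.haveILetI false
set_option linter.unusedSectionVars false

namespace Cfsg.Agent.MTwelve

open C0

/-- the involution centraliser together with everything deduced from it -/
structure Frame (G : Type*) [Group G] extends Setup G where
  card_eq : Nat.card G = 95040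
  isX_r : toSetup.IsX r0
  isX_a : toSetup.IsX a0
  classesInvol : ∀ g : G, orderOf g = 2 → IsConj z g ∨ IsConj toSetup.t g
  /-- the second centraliser -/
  Φ : toSetup.Ct ≃* M5
  map_t : Φ toSetup.t' = (gen2, 1)
  isX_ct : ∀ y : toSetup.Ct, IsConj z (y : G) ↔ ((Φ y).1 = 1 ∧ IsDbl (Φ y).2)
  aligned : ∀ (x c : C0) (g : G), x * x = a0 → g * z * g⁻¹ = ι a0 → g⁻¹ * ι x * g = ι c → fx c = fx x

/-- the automorphism as a homomorphism -/
def epsHom : C0 →* C0 where
  toFun := epsFun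
  map_one' := eps_fixed.2.2.1
  map_mul' := epsFun_mul

theorem epsHom_injective : Function.Injective epsHom := fun a b h => by
  have := congrArg epsFun h
  show a = b
  rwa [show epsFun (epsHom a) = a from (eps_facts a).1, show epsFun (epsHom b) = b from (eps_facts b).1] at this

/-- compose the parametrisation with the automorphism -/
def Setup.twist {G : Type*} [Group G] (D : Setup G) : Setup G where
  z := D.z
  ι := D.ι.comp epsHom
  inj := D.inj.comp epsHom_injective
  range_eq := by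
    rw [← D.range_eq]
    refine le_antisymm (fun y => ?_) (fun y => ?_)
    · rintro ⟨c, rfl⟩; exact ⟨_, rfl⟩
    · rintro ⟨c, rfl⟩
      exact ⟨epsFun c, congrArg D.ι (eps_facts c).1⟩
  map_z := by
    show D.ι (epsFun z0) = D.z
    rw [eps_fixed.1, D.map_z]

namespace Setup

variable {G : Type*} [Group G] (D : Setup G)

theorem root_image {x : C0} {g : G} (hx : x * x = a0) (hg : g * D.z * g⁻¹ = D.ι a0) :
    ∃ w c : C0, D.ι w = g⁻¹ * D.z * g ∧ D.ι c = g⁻¹ * D.ι x * g ∧ c * c = z0 ∧ c * w = w * c := by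
  have hxa : x * a0 = a0 * x := by rw [← hx, mul_assoc]
  have h1 : g⁻¹ * D.z * g * D.z = D.z * (g⁻¹ * D.z * g) := by
    have e := D.commute_z a0
    rw [← hg] at e
    calc g⁻¹ * D.z * g * D.z = g⁻¹ * (D.z * (g * D.z * g⁻¹)) * g := by group
      _ = g⁻¹ * (g * D.z * g⁻¹ * D.z) * g := by rw [e]
      _ = D.z * (g⁻¹ * D.z * g) := by group
  have h2 : g⁻¹ * D.ι x * g * D.z = D.z * (g⁻¹ * D.ι x * g) := by
    have e : D.ι x * D.ι a0 = D.ι a0 * D.ι x := by rw [← map_mul, hxa, map_mul]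
    rw [← hg] at e
    calc g⁻¹ * D.ι x * g * D.z = g⁻¹ * (D.ι x * (g * D.z * g⁻¹)) * g := by group
      _ = g⁻¹ * (g * D.z * g⁻¹ * D.ι x) * g := by rw [e]
      _ = D.z * (g⁻¹ * D.ι x * g) := by group
  obtain ⟨w, hw⟩ := D.exists_pre h1
  obtain ⟨c, hc⟩ := D.exists_pre h2
  refine ⟨w, c, hw, hc, D.inj ?_, D.inj ?_⟩
  · rw [map_mul, hc, D.map_z]
    calc g⁻¹ * D.ι x * g * (g⁻¹ * D.ι x * g) = g⁻¹ * (D.ι x * D.ι x) * g := by group
      _ = g⁻¹ * (g * D.z * g⁻¹) * g := by rw [← map_mul, hx, hg]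
      _ = D.z := by group
  · rw [map_mul, map_mul, hc, hw]
    have e := D.commute_z x
    calc g⁻¹ * D.ι x * g * (g⁻¹ * D.z * g) = g⁻¹ * (D.ι x * D.z) * g := by group
      _ = g⁻¹ * (D.z * D.ι x) * g := by rw [e]
      _ = g⁻¹ * D.z * g * (g⁻¹ * D.ι x * g) := by group

variable [Finite G] [IsSimpleGroup G] (hG : ¬ IsMulCommutative G)
include hG

theorem root_partner {g : G} (hg : g * D.z * g⁻¹ = D.ι a0) {w : C0} (hw : D.ι w = g⁻¹ * D.z * g) : kd w = 3 := by
  classical
  -- the conjugate has a centraliser in the model of the same size as the fixed involution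
  have hwk : ∀ c, c * a0 = a0 * c → ∃ d, D.ι d = g⁻¹ * D.ι c * g := fun c hc => D.exists_pre (by
    have e : D.ι c * D.ι a0 = D.ι a0 * D.ι c := by rw [← map_mul, hc, map_mul]
    rw [← hg] at e
    calc g⁻¹ * D.ι c * g * D.z = g⁻¹ * (D.ι c * (g * D.z * g⁻¹)) * g := by group
      _ = g⁻¹ * (g * D.z * g⁻¹ * D.ι c) * g := by rw [e]
      _ = D.z * (g⁻¹ * D.ι c * g) := by group)
  have hwz : w ≠ z0 := fun e => by
    rw [e, D.map_z] at hw
    have h2 : D.ι a0 = D.z := by
      rw [← hg]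
      nth_rw 1 [hw]
      group
    exact absurd (D.inj (h2.trans D.map_z.symm)) (by decide +kernel)
  have hw2 : w * w = 1 ∧ w ≠ 1 := by
    constructor
    · refine D.inj ?_
      rw [map_mul, hw, map_one]
      calc g⁻¹ * D.z * g * (g⁻¹ * D.z * g) = g⁻¹ * (D.z * D.z) * g := by group
        _ = 1 := by rw [D.z_sq]; group
    · intro e
      rw [e, map_one] at hw
      refine D.z_ne ?_
      calc D.z = g * (g⁻¹ * D.z * g) * g⁻¹ := by group
        _ = 1 := by rw [← hw]; group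
  choose φ hφ using hwk
  refine flip_a hw2.1 hw2.2 hwz ?_
  rw [← cn_a0]
  refine (Finset.card_bij (fun c hc => φ c (Finset.mem_filter.1 hc).2) (fun c hc => ?_) (fun c hc d hd e => ?_)
    fun d hd => ?_).symm
  · refine Finset.mem_filter.2 ⟨Finset.mem_univ _, D.inj ?_⟩
    rw [map_mul, map_mul, hφ, hw]
    have e := D.commute_z c
    calc g⁻¹ * D.ι c * g * (g⁻¹ * D.z * g) = g⁻¹ * (D.ι c * D.z) * g := by group
      _ = g⁻¹ * (D.z * D.ι c) * g := by rw [e]
      _ = g⁻¹ * D.z * g * (g⁻¹ * D.ι c * g) := by group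
  · have h := congrArg D.ι e
    rw [hφ, hφ] at h
    exact D.inj (mul_left_cancel (mul_right_cancel h))
  · have hd' := (Finset.mem_filter.1 hd).2
    have hcm : g * D.ι d * g⁻¹ * D.z = D.z * (g * D.ι d * g⁻¹) := by
      have e : D.ι d * (g⁻¹ * D.z * g) = g⁻¹ * D.z * g * D.ι d := by rw [← hw, ← map_mul, hd', map_mul]
      calc g * D.ι d * g⁻¹ * D.z = g * (D.ι d * (g⁻¹ * D.z * g)) * g⁻¹ := by group
        _ = g * (g⁻¹ * D.z * g * D.ι d) * g⁻¹ := by rw [e]
        _ = D.z * (g * D.ι d * g⁻¹) := by group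
    obtain ⟨c, hc⟩ := D.exists_pre hcm
    have hca : c * a0 = a0 * c := D.inj (by
      rw [map_mul, map_mul, hc, ← hg]
      have e2 := D.commute_z d
      calc g * D.ι d * g⁻¹ * (g * D.z * g⁻¹) = g * (D.ι d * D.z) * g⁻¹ := by group
        _ = g * (D.z * D.ι d) * g⁻¹ := by rw [e2]
        _ = g * D.z * g⁻¹ * (g * D.ι d * g⁻¹) := by group)
    refine ⟨c, Finset.mem_filter.2 ⟨Finset.mem_univ _, hca⟩, D.inj ?_⟩
    rw [hφ, hc]; group

/-- Fixed point numbers transported by one conjugating element are correct on all roots or on none. -/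
theorem align_all {g₀ : G} (hg₀ : g₀ * D.z * g₀⁻¹ = D.ι a0) {c₀ : C0}
    (hc₀ : g₀⁻¹ * D.ι (el 88) * g₀ = D.ι c₀) (h : fx c₀ = fx (el 88)) :
    ∀ (x c : C0) (g : G), x * x = a0 → g * D.z * g⁻¹ = D.ι a0 → g⁻¹ * D.ι x * g = D.ι c → fx c = fx x := by
  intro x c g hx hg hc
  -- move to the fixed conjugating element
  have hk : g₀⁻¹ * g * D.z = D.z * (g₀⁻¹ * g) := by
    calc g₀⁻¹ * g * D.z = g₀⁻¹ * (g * D.z * g⁻¹) * g := by group
      _ = g₀⁻¹ * (g₀ * D.z * g₀⁻¹) * g := by rw [hg, hg₀]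
      _ = D.z * (g₀⁻¹ * g) := by group
  obtain ⟨k, hk⟩ := D.exists_pre hk
  obtain ⟨w, c', hw, hc', hc2, hcw⟩ := D.root_image hx hg₀
  have hrel : c = k⁻¹ * c' * k := D.inj (by
    rw [map_mul, map_mul, map_inv, hk, hc', ← hc]; group)
  have hfx : fx c = fx c' := by
    rw [hrel, (class_data _).2.1, (class_data c').2.1]
    congr 1
    have := kd_conj c' k⁻¹
    rwa [inv_inv] at this
  rw [hfx]
  obtain ⟨w', c₁, hw', hc₁, hc12, hc1w⟩ := D.root_image eps_fixed.2.2.2 hg₀
  obtain rfl : w = w' := D.inj (hw.trans hw'.symm)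
  obtain rfl : c₀ = c₁ := D.inj (hc₀.symm.trans hc₁.symm)
  have hkw := D.root_partner hG hg₀ hw
  have h1 := roots_a0 (el 88) x eps_fixed.2.2.2 hx
  have h2 := roots_z0 w c₀ c' hkw hc1w hcw hc12 hc2
  have hiff : (c' = c₀ ∨ c' = c₀⁻¹) ↔ (x = el 88 ∨ x = (el 88)⁻¹) := by
    constructor
    · rintro (e | e)
      · left
        refine D.inj ?_
        have := congrArg D.ι e
        rw [hc', ← hc₀] at this
        exact mul_left_cancel (mul_right_cancel this)
      · right
        refine D.inj ?_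
        have := congrArg D.ι e
        rw [hc', map_inv, ← hc₀, show (g₀⁻¹ * D.ι (el 88) * g₀)⁻¹ = g₀⁻¹ * (D.ι (el 88))⁻¹ * g₀ by group] at this
        rw [map_inv]
        exact mul_left_cancel (mul_right_cancel this)
    · rintro (rfl | rfl)
      · exact Or.inl (D.inj (hc'.trans hc₀))
      · refine Or.inr (D.inj ?_)
        rw [hc', map_inv, map_inv, ← hc₀]; group
  by_cases he : fx c' = fx c₀
  · rw [he, h]
    exact (h1.2 (hiff.1 (h2.1 he.symm)))
  · have hne : fx x ≠ fx (el 88) := fun e => he (h2.2 (hiff.2 (h1.1 e.symm))).symm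
    have hv : ∀ y : C0, y * y = a0 ∨ y * y = z0 → fx y = 4 ∨ fx y = 0 := fun y hy => by
      rw [(class_data y).2.1]
      rcases hy with hy | hy
      · rcases sq_a0_kinds y hy with e | e <;> rw [e] <;> decide
      · rcases sq_z0_kinds y hy with e | e <;> rw [e] <;> decide
    rcases hv c' (Or.inr hc2) with e1 | e1 <;> rcases hv x (Or.inl hx) with e2 | e2 <;>
      rcases hv (el 88) (Or.inl eps_fixed.2.2.2) with e3 | e3 <;> omega

end Setup

/-- A frame exists on the given parametrisation or on its twist. -/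
theorem exists_frame' {G : Type*} [Group G] [Finite G] [IsSimpleGroup G] (hG : ¬ IsMulCommutative G)
    (D : Setup G) : ∃ F : Frame G, F.toSetup = D ∨ F.toSetup = D.twist := by
  have key : ∀ E : Setup G, (∀ (x c : C0) (g : G), x * x = a0 → g * E.z * g⁻¹ = E.ι a0 →
      g⁻¹ * E.ι x * g = E.ι c → fx c = fx x) → ∃ F : Frame G, F.toSetup = E := fun E hE => by
    obtain ⟨hc, hr, Φ, hΦt, hΦX⟩ := E.structure_thm hG
    exact ⟨⟨E, hc, hr, E.isX_a0 hG, fun g hg => E.classes (E.isX_a0 hG) hg, Φ, hΦt, hΦX, hE⟩, rfl⟩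
  obtain ⟨g₀, hg₀⟩ := isConj_iff.1 (D.isX_a0 hG)
  obtain ⟨w, c₀, hw, hc₀, hc2, -⟩ := D.root_image eps_fixed.2.2.2 hg₀
  by_cases h : fx c₀ = fx (el 88)
  · exact (key D (D.align_all hG hg₀ hc₀.symm h)).imp fun F hF => Or.inl hF
  · -- twist
    have ha : D.twist.ι a0 = D.ι a0 := congrArg D.ι eps_fixed.2.1
    have hg₀' : g₀ * D.twist.z * g₀⁻¹ = D.twist.ι a0 := by rw [ha]; exact hg₀
    obtain ⟨w', c₁, hw', hc₁, hc12, -⟩ := D.twist.root_image eps_fixed.2.2.2 hg₀'
    have h88 : epsFun (el 88) * epsFun (el 88) = a0 := by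
      rw [← epsFun_mul, eps_fixed.2.2.2, eps_fixed.2.1]
    obtain ⟨w'', c₂, hw'', hc₂, hc22, hc2w⟩ := D.root_image h88 hg₀
    have he : c₁ = epsFun c₂ := D.twist.inj (hc₁.trans (by
      show g₀⁻¹ * D.ι (epsFun (el 88)) * g₀ = D.ι (epsFun (epsFun c₂))
      rw [(eps_facts c₂).1, hc₂]))
    refine (key D.twist (D.twist.align_all hG hg₀' hc₁.symm ?_)).imp fun F hF => Or.inr hF
    rw [he, (eps_facts c₂).2.1 hc22]
    obtain ⟨w0, c00, hw0, hc00, hc002, hc0w⟩ := D.root_image eps_fixed.2.2.2 hg₀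
    obtain rfl : c₀ = c00 := D.inj (hc₀.trans hc00.symm)
    obtain rfl : w0 = w'' := D.inj (hw0.trans hw''.symm)
    have h4 := (eps_facts (el 88)).2.2 eps_fixed.2.2.2
    have hv : ∀ y : C0, y * y = z0 → fx y = 4 ∨ fx y = 0 := fun y hy => by
      rw [(class_data y).2.1]
      rcases sq_z0_kinds y hy with e | e <;> rw [e] <;> decide
    have hva : ∀ y : C0, y * y = a0 → fx y = 4 ∨ fx y = 0 := fun y hy => by
      rw [(class_data y).2.1]
      rcases sq_a0_kinds y hy with e | e <;> rw [e] <;> decide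
    have hne : fx c₂ ≠ fx c₀ := by
      intro e
      have hr := (roots_z0 w0 c₂ c₀ (D.root_partner hG hg₀ hw0) hc2w hc0w hc22 hc002).1 e
      have h5 : fx (el 88) = fx (epsFun (el 88)) := by
        refine ((roots_a0 (epsFun (el 88)) (el 88) h88 eps_fixed.2.2.2).2 ?_).symm
        rcases hr with e' | e'
        · left
          refine D.inj ?_
          have := congrArg D.ι e'
          rw [hc₀, hc₂] at this
          exact mul_left_cancel (mul_right_cancel this)
        · right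
          refine D.inj ?_
          have := congrArg D.ι e'
          rw [hc₀, map_inv, hc₂, show (g₀⁻¹ * D.ι (epsFun (el 88)) * g₀)⁻¹ =
            g₀⁻¹ * (D.ι (epsFun (el 88)))⁻¹ * g₀ by group] at this
          rw [map_inv]
          exact mul_left_cancel (mul_right_cancel this)
      rcases hva _ eps_fixed.2.2.2 with e1 | e1 <;> omega
    rcases hv c₀ hc2 with e1 | e1 <;> rcases hva _ eps_fixed.2.2.2 with e2 | e2 <;>
      rcases hv c₂ hc22 with e3 | e3 <;> omega

/-- A frame exists. -/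
theorem exists_frame {G : Type*} [Group G] [Finite G] [IsSimpleGroup G] (hG : ¬ IsMulCommutative G)
    (D : Setup G) : Nonempty (Frame G) :=
  let ⟨F, _⟩ := exists_frame' hG D
  ⟨F⟩

end Cfsg.Agent.MTwelve
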