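import Cfsg.Agent.S0679
import Cfsg.Agent.Lib.Spor.SharpMathieu
import Cfsg.Agent.Lib.Spor.GolayDodecad
import Cfsg.Agent.Lib.Local.FS.SimpleM11
import Cfsg.Agent.Lib.Perm.PrimeDegree
import Cfsg.Prelude.Def_Spor_Mathieu

/-!
A simple group of order 95040 with a subgroup of index twelve is the Mathieu group of degree twelve.
-/

set_option autoImplicit false
set_option linter.style.haveILetI false

namespace Cfsg.Agent.MTwelve

open MulAction
open scoped Pointwise commutatorElement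

section PrimeDegree

variable {α : Type*} [Fintype α] [DecidableEq α]

/-- A solvable transitive group of prime degree has order at most `p (p - 1)`. -/
theorem card_le_of_solvable_prime {p : ℕ} [Fact p.Prime] (hα : Fintype.card α = p) (G : Subgroup (Equiv.Perm α))
    [IsPretransitive G α] (hs : Group.IsSolvable G) : Nat.card G ≤ p * (p - 1) := by
  classical
  have hp := (Fact.out : p.Prime)
  haveI : IsPreprimitive G α := IsPreprimitive.of_prime_card (by rw [Nat.card_eq_fintype_card, hα]; exact hp)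
  obtain ⟨n, hn⟩ := hs.1
  have hne : derivedSeries G 0 ≠ ⊥ := by
    rw [derivedSeries_zero]
    intro h
    obtain ⟨σ, hσ, ho, -, -⟩ := Cfsg.Agent.Perm.exists_cycle_prime_degree (p := p) hα G
    have : (⟨σ, hσ⟩ : G) = 1 := Subgroup.mem_bot.1 (h ▸ Subgroup.mem_top _)
    have h1 : σ = 1 := congrArg Subtype.val this
    rw [h1, orderOf_one] at ho
    exact hp.ne_one ho.symm
  obtain ⟨m, hm, hm'⟩ : ∃ m, derivedSeries G m ≠ ⊥ ∧ derivedSeries G (m + 1) = ⊥ := by
    by_contra h
    push Not at h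
    have : ∀ m, derivedSeries G m ≠ ⊥ := fun m => by
      induction m with
      | zero => exact hne
      | succ m ih => exact h m ih
    exact this n hn
  haveI := derivedSeries_normal (G := G) m
  have hfix : fixedPoints (derivedSeries G m) α ≠ Set.univ := by
    intro h
    refine hm ((Subgroup.eq_bot_iff_forall _).2 fun g hg => Subtype.ext (Equiv.ext fun x => ?_))
    have hx : x ∈ fixedPoints (derivedSeries G m) α := h ▸ Set.mem_univ x
    exact hx ⟨g, hg⟩
  haveI := IsQuasiPreprimitive.isPretransitive_of_normal (G := G) (X := α) hfix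
  set A : Subgroup (Equiv.Perm α) := (derivedSeries G m).map G.subtype with hA
  haveI : IsPretransitive A α := ⟨fun x y => by
    obtain ⟨g, hg⟩ := exists_smul_eq (derivedSeries G m) x y
    exact ⟨⟨_, Subgroup.mem_map_of_mem _ g.2⟩, hg⟩⟩
  have hcomm : ∀ a ∈ A, ∀ b ∈ A, Commute a b := by
    rintro _ ⟨a, ha, rfl⟩ _ ⟨b, hb, rfl⟩
    have h : ⁅a, b⁆ ∈ derivedSeries G (m + 1) := Subgroup.commutator_mem_commutator ha hb
    rw [hm', Subgroup.mem_bot] at h
    exact congrArg Subtype.val (commutatorElement_eq_one_iff_mul_comm.1 h)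
  obtain ⟨σ, hσA, hσ, -, hcen⟩ := Cfsg.Agent.Perm.exists_cycle_prime_degree (p := p) hα A
  have hAz : ∀ a ∈ A, a ∈ Subgroup.zpowers σ := fun a ha => hcen a (hcomm a ha σ hσA)
  have hnorm : ∀ g ∈ G, g * σ * g⁻¹ ∈ Subgroup.zpowers σ := fun g hg => by
    obtain ⟨s, hs, hs'⟩ := hσA
    exact hAz _ ⟨⟨g, hg⟩ * s * ⟨g, hg⟩⁻¹, (inferInstance : (derivedSeries G m).Normal).conj_mem _ hs _, by
      rw [← hs']; rfl⟩
  have hσ1 : σ ≠ 1 := fun h => by
    rw [h, orderOf_one] at hσ
    exact hp.ne_one hσ.symm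
  have hfin : IsOfFinOrder σ := isOfFinOrder_of_finite σ
  let f : G → ({y : Subgroup.zpowers σ // y ≠ 1}) := fun g =>
    ⟨⟨g.1 * σ * g.1⁻¹, hnorm g g.2⟩, fun h => hσ1 (by
      have h' : g.1 * σ * g.1⁻¹ = 1 := congrArg Subtype.val h
      rw [mul_inv_eq_one] at h'
      simpa using h')⟩
  haveI : Fintype G := Fintype.ofFinite G
  have hfib : ∀ y, (Finset.univ.filter fun g => f g = y).card ≤ p := by
    intro y
    rcases (Finset.univ.filter fun g => f g = y).eq_empty_or_nonempty with h | ⟨g₀, hg₀⟩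
    · rw [h]; exact Nat.zero_le _
    rw [Finset.mem_filter] at hg₀
    have hz : (Finset.univ.filter fun x : Equiv.Perm α => x ∈ Subgroup.zpowers σ).card ≤ p := by
      rw [← hσ, ← Nat.card_zpowers σ, Nat.card_eq_fintype_card, Fintype.card_subtype]
    refine le_trans (Finset.card_le_card_of_injOn (fun g : G => (g₀ : Equiv.Perm α)⁻¹ * g.1) ?_ ?_) hz
    · intro g hg
      simp only [Finset.coe_filter, Finset.mem_univ, true_and, Set.mem_setOf_eq] at hg ⊢
      refine hcen _ ?_
      have e : g.1 * σ * g.1⁻¹ = g₀.1 * σ * g₀.1⁻¹ :=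
        congrArg (fun z => (z.1 : Equiv.Perm α)) (hg.trans hg₀.2.symm)
      show g₀.1⁻¹ * g.1 * σ = σ * (g₀.1⁻¹ * g.1)
      rw [mul_inv_eq_iff_eq_mul] at e
      rw [mul_assoc, e]
      group
    · intro a _ b _ h
      exact Subtype.ext (mul_left_cancel h)
  haveI : Fintype {y : Subgroup.zpowers σ // y ≠ 1} := Fintype.ofFinite _
  have hle := Finset.card_le_mul_card_image_of_maps_to (f := f) (s := Finset.univ) (t := Finset.univ)
    (fun _ _ => Finset.mem_univ _) p (fun y _ => hfib y)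
  rw [Finset.card_univ, Finset.card_univ] at hle
  have hcard : Fintype.card {y : Subgroup.zpowers σ // y ≠ 1} = p - 1 := by
    haveI : Fintype (Subgroup.zpowers σ) := Fintype.ofFinite _
    rw [Fintype.card_subtype_compl, Fintype.card_subtype_eq, ← Nat.card_eq_fintype_card, Nat.card_zpowers, hσ]
  rw [hcard] at hle
  rw [Nat.card_eq_fintype_card]
  exact hle

end PrimeDegree

theorem card_psl_eleven : Nat.card (Matrix.ProjectiveSpecialLinearGroup (Fin 2) (ZMod 11)) ∣ 13200 := by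
  haveI : Fact (Nat.Prime 11) := ⟨by norm_num⟩
  have h1 : Nat.card (Matrix.SpecialLinearGroup (Fin 2) (ZMod 11)) ∣ Nat.card (GL (Fin 2) (ZMod 11)) :=
    Subgroup.card_dvd_of_injective _ Matrix.SpecialLinearGroup.toGL_injective
  rw [Matrix.card_GL_field, ZMod.card] at h1
  refine (Subgroup.card_quotient_dvd_card _).trans (h1.trans ?_)
  norm_num [Fin.prod_univ_two]

universe u

variable {G : Type u} [Group G] [Finite G] [IsSimpleGroup G]

/-- The action on twelve cosets is sharply five times transitive. -/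
theorem exists_sharp (hcard : Nat.card G = 95040) (H : Subgroup G) (hH : H.index = 12) :
    ∃ K : Subgroup (Equiv.Perm (Fin 12)), Nonempty (G ≃* K) ∧
      IsMultiplyPretransitive K (Fin 12) 5 ∧ ∀ x : Fin 5 ↪ Fin 12, stabilizer K x = ⊥ := by
  classical
  haveI : Fact (Nat.Prime 11) := ⟨by norm_num⟩
  haveI : Fintype (G ⧸ H) := Fintype.ofFinite _
  let e : G ⧸ H ≃ Fin 12 := Fintype.equivFinOfCardEq (by rw [← Nat.card_eq_fintype_card]; exact hH)
  let ψ : G →* Equiv.Perm (Fin 12) := e.permCongrHom.toMonoidHom.comp (toPermHom G (G ⧸ H))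
  have hψ : ∀ g i, ψ g i = e (g • e.symm i) := fun g i => rfl
  have hinj : Function.Injective ψ := by
    rw [← MonoidHom.ker_eq_bot_iff]
    refine ψ.normal_ker.eq_bot_or_eq_top.resolve_right fun h => ?_
    have hHt : H = ⊤ := by
      rw [eq_top_iff]
      intro g _
      have hg : ψ g = 1 := MonoidHom.mem_ker.1 (h ▸ Subgroup.mem_top g)
      have := congrArg (fun π : Equiv.Perm (Fin 12) => e.symm (π (e ((1 : G) : G ⧸ H)))) hg
      simp only [hψ, Equiv.symm_apply_apply, Equiv.Perm.one_apply, Quotient.smul_coe, smul_eq_mul, mul_one,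
        QuotientGroup.eq] at this
      simpa using this
    rw [hHt, Subgroup.index_top] at hH
    norm_num at hH
  set K := ψ.range
  let Φ : G ≃* K := MonoidHom.ofInjective hinj
  haveI : IsPretransitive K (Fin 12) := ⟨fun x y => by
    obtain ⟨g, hg⟩ := exists_smul_eq G (e.symm x) (e.symm y)
    exact ⟨Φ g, show ψ g x = y by rw [hψ, hg, e.apply_symm_apply]⟩⟩
  have hK : Nat.card K = 95040 := by rw [← Nat.card_congr Φ.toEquiv, hcard]
  have hS : Nat.card (stabilizer K (0 : Fin 12)) = 7920 := by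
    have h := Subgroup.card_mul_index (stabilizer K (0 : Fin 12))
    rw [index_stabilizer_of_transitive, hK, Nat.card_eq_fintype_card (α := Fin 12), Fintype.card_fin] at h
    omega
  -- the stabiliser of a point on the other eleven points
  set S := stabilizer K (0 : Fin 12)
  have hmap : ∀ g : S, ∀ x : Fin 12, x ≠ 0 ↔ (g.1.1 : Equiv.Perm (Fin 12)) x ≠ 0 := fun g x => by
    have h0 : (g.1.1 : Equiv.Perm (Fin 12)) 0 = 0 := g.2
    exact not_congr ⟨fun h => h ▸ h0, fun h => g.1.1.injective (h.trans h0.symm)⟩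
  let ρ : S →* Equiv.Perm {x : Fin 12 // x ≠ 0} := MonoidHom.mk'
    (fun g => g.1.1.subtypePerm fun x => (hmap g x).symm) (fun a b => Equiv.ext fun x => rfl)
  have hρ : Function.Injective ρ := by
    refine (injective_iff_map_eq_one ρ).2 fun g hg => Subtype.ext (Subtype.ext (Equiv.ext fun x => ?_))
    by_cases hx : x = 0
    · rw [hx]; exact g.2
    · exact congrArg Subtype.val (Equiv.ext_iff.1 hg ⟨x, hx⟩)
  set R := ρ.range
  have hR : Nat.card R = 7920 := by rw [← Nat.card_congr (MonoidHom.ofInjective hρ).toEquiv, hS]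
  have h11 : Fintype.card {x : Fin 12 // x ≠ 0} = 11 := by simp
  haveI : IsPretransitive R {x : Fin 12 // x ≠ 0} := by
    obtain ⟨r, hr⟩ := exists_prime_orderOf_dvd_card' (G := R) 11 (by rw [hR]; norm_num)
    have ho : orderOf (r : Equiv.Perm {x : Fin 12 // x ≠ 0}) = 11 := by rw [Subgroup.orderOf_coe, hr]
    have hcyc : (r : Equiv.Perm {x : Fin 12 // x ≠ 0}).IsCycle :=
      Equiv.Perm.isCycle_of_prime_order'' (by rw [h11]; norm_num) (by rw [ho, h11])
    have hsupp : (r : Equiv.Perm {x : Fin 12 // x ≠ 0}).support = Finset.univ := by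
      rw [← Finset.card_eq_iff_eq_univ, ← hcyc.orderOf, ho, h11]
    refine ⟨fun a b => ?_⟩
    obtain ⟨i, -, hi⟩ := (hcyc.sameCycle (Equiv.Perm.mem_support.1 (hsupp ▸ Finset.mem_univ a))
      (Equiv.Perm.mem_support.1 (hsupp ▸ Finset.mem_univ b))).exists_pow_eq'
    exact ⟨r ^ i, hi⟩
  have hns : ¬ Group.IsSolvable R := fun h => by
    have := card_le_of_solvable_prime (p := 11) h11 R h
    omega
  have hA : ¬ alternatingGroup {x : Fin 12 // x ≠ 0} ≤ R := fun h => by
    have h1 := Subgroup.card_le_of_le h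
    haveI : Nontrivial {x : Fin 12 // x ≠ 0} := Fintype.one_lt_card_iff_nontrivial.1 (by rw [h11]; norm_num)
    have h2 := two_mul_nat_card_alternatingGroup (α := {x : Fin 12 // x ≠ 0})
    rw [Nat.card_perm, Nat.card_eq_fintype_card (α := {x : Fin 12 // x ≠ 0}), h11] at h2
    rw [hR] at h1
    rw [show Nat.factorial 11 = 39916800 from rfl] at h2
    omega
  obtain ⟨-, hsharp⟩ := (Cfsg.Agent.S0679.result h11 R hns hA).resolve_right fun ⟨f⟩ => by
    have := card_psl_eleven
    rw [← Nat.card_congr f.toEquiv, hR] at this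
    norm_num at this
  -- five fixed points force the identity
  have hfive : ∀ (k : K) (x : Fin 5 ↪ Fin 12), (∀ i, k.1 (x i) = x i) → k = 1 := by
    intro k x hx
    obtain ⟨c, hc⟩ := exists_smul_eq K (x 0) (0 : Fin 12)
    have hc' : c.1 (x 0) = 0 := hc
    have hk0 : c * k * c⁻¹ ∈ S := by
      show c.1 (k.1 (c.1⁻¹ 0)) = 0
      rw [← hc', show c.1⁻¹ (c.1 (x 0)) = x 0 from c.1.symm_apply_apply _, hx 0]
    have hne : ∀ i : Fin 4, c.1 (x i.succ) ≠ 0 := fun i h =>
      Fin.succ_ne_zero i (x.injective (c.1.injective (h.trans hc'.symm)))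
    let y : Fin 4 ↪ {x : Fin 12 // x ≠ 0} :=
      ⟨fun i => ⟨c.1 (x i.succ), hne i⟩, fun i j h =>
        Fin.succ_injective _ (x.injective (c.1.injective (congrArg Subtype.val h)))⟩
    have hy : (⟨ρ ⟨_, hk0⟩, ⟨_, rfl⟩⟩ : R) ∈ stabilizer R y := by
      refine Function.Embedding.ext fun i => Subtype.ext ?_
      show c.1 (k.1 (c.1⁻¹ (c.1 (x i.succ)))) = c.1 (x i.succ)
      rw [show c.1⁻¹ (c.1 (x i.succ)) = x i.succ from c.1.symm_apply_apply _, hx]
    rw [hsharp, Subgroup.mem_bot] at hy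
    have h1 : (⟨c * k * c⁻¹, hk0⟩ : S) = 1 := hρ ((congrArg Subtype.val hy).trans (map_one ρ).symm)
    exact conj_eq_one_iff.1 (congrArg Subtype.val h1)
  refine ⟨K, ⟨Φ⟩, ⟨fun x y => ?_⟩, fun x => (Subgroup.eq_bot_iff_forall _).2 fun k hk =>
    hfive k x fun i => DFunLike.congr_fun hk i⟩
  haveI : Fintype K := Fintype.ofFinite K
  let f : K → (Fin 5 ↪ Fin 12) := fun k => x.trans k.1.toEmbedding
  have hf : Function.Injective f := fun a b eab => by
    refine (inv_mul_eq_one.1 (hfive (b⁻¹ * a) x fun i => ?_)).symm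
    have h := DFunLike.congr_fun eab i
    show b.1.symm (a.1 (x i)) = x i
    exact (congrArg b.1.symm h).trans (b.1.symm_apply_apply _)
  have hc : Fintype.card K = Fintype.card (Fin 5 ↪ Fin 12) := by
    rw [← Nat.card_eq_fintype_card, hK, Fintype.card_embedding_eq, Fintype.card_fin, Fintype.card_fin]
    decide
  obtain ⟨k, hk⟩ := ((Fintype.bijective_iff_injective_and_card f).2 ⟨hf, hc⟩).2 y
  exact ⟨k, hk⟩

/-- The stabilisers of two dodecads are isomorphic, and the concrete group is one of them. -/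
theorem m12_stab {d : Finset Cfsg.GolayPt} (hd : d ∈ Cfsg.dodecads) :
    Nonempty (↥Cfsg.Spor.M12 ≃* ↥(stabilizer Cfsg.M24 d)) := by
  obtain ⟨σ, hσ, hσd⟩ :=
    Cfsg.Agent.Spor.dodecad_trans Cfsg.Agent.Local.FS.squareDodecad_mem hd
  let e : ↥Cfsg.Spor.M12 ≃* ↥(stabilizer Cfsg.M24 Cfsg.Spor.squareDodecad) :=
    { toFun := fun g => ⟨⟨g.1, g.2.1⟩, g.2.2⟩
      invFun := fun g => ⟨g.1.1, g.1.2, g.2⟩
      left_inv := fun _ => rfl
      right_inv := fun _ => rfl
      map_mul' := fun _ _ => rfl }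
  exact ⟨e.trans (stabilizerEquivStabilizer (g := (⟨σ, hσ⟩ : Cfsg.M24)) hσd.symm)⟩

/-- A simple group of order 95040 with a subgroup of index twelve is `M12`. -/
theorem isoM12_of_index_twelve (hcard : Nat.card G = 95040) (H : Subgroup G) (hH : H.index = 12) :
    Cfsg.Spor.IsoM12 G := by
  obtain ⟨K, ⟨Φ⟩, ht, hsharp⟩ := exists_sharp hcard H hH
  have h12 : Fintype.card (Fin 12) = 12 := Fintype.card_fin 12
  obtain ⟨B, hB, hle⟩ := Cfsg.Agent.Spor.SmallSys.sharp_steiner ht hsharp
    (Or.inr ⟨h12, rfl⟩ : (Fintype.card (Fin 12) = 11 ∧ 5 = 4) ∨ (Fintype.card (Fin 12) = 12 ∧ 5 = 5))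
  have heq : K = Cfsg.setSystemAut (B : Set (Finset (Fin 12))) := Subgroup.eq_of_le_of_card_ge hle (by
    rw [Cfsg.Agent.Spor.SmallSys.aut_card h12 hB, ← Nat.card_congr Φ.toEquiv, hcard])
  obtain ⟨d, hd, -, -, Θ, hΘ, -⟩ := Cfsg.Agent.Spor.SmallSys.dodecad_hom h12 hB 0
  obtain ⟨e⟩ := m12_stab hd
  exact ⟨((Φ.trans (MulEquiv.subgroupCongr heq)).trans (MulEquiv.ofBijective Θ hΘ).symm).trans e.symm⟩

omit [Finite G] [IsSimpleGroup G] in
/-- Any dodecad stabiliser will do. -/
theorem isoM12_dodecad (h : Cfsg.Spor.IsoM12 G) {d : Finset Cfsg.GolayPt} (hd : d ∈ Cfsg.dodecads) :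
    Nonempty (G ≃* ↥(stabilizer Cfsg.M24 d)) := by
  obtain ⟨f⟩ := h
  obtain ⟨e⟩ := m12_stab hd
  exact ⟨f.trans e⟩

end Cfsg.Agent.MTwelve
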