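import Cfsg.Agent.Lib.Spor.MTwelve.Dims
import Cfsg.Agent.Lib.Spor.MTwelve.Iso
import Cfsg.Agent.Lib.Spor.MTwelve.RealCent
import Mathlib.GroupTheory.Transfer

/-!
A subgroup of index twelve, and the recognition of the Mathieu group from the centraliser of an involution.
-/

set_option autoImplicit false
set_option maxRecDepth 100000
set_option maxHeartbeats 4000000
set_option linter.style.haveILetI false
set_option linter.unusedSectionVars false
set_option Elab.async false

namespace Cfsg.Agent.MTwelve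

open C0

universe u

/-- an element of order three in the stabiliser of a point -/
def oP (p : Fin 12) : C0 := if p.val = 0 then el 44 else el 64

theorem oP_facts : ∀ p : Fin 12, p.val < 2 → img (oP p) p = p ∧ oP p ^ 3 = 1 ∧ oP p ≠ 1 := by decide +kernel

/-- products of the quaternion subgroup with short words in the two elements of order three -/
def wordList : List C0 :=
  (allEl.filter fun k => kd k == 0 || kd k == 1 || kd k == 6).flatMap fun k =>
    [1, el 44, el 44 * el 44, el 64, el 64 * el 64, el 44 * el 64, el 64 * el 44].map fun w => k * w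

theorem wordList_facts : wordList.Nodup ∧ wordList.length = 56 := by decide +kernel

theorem K_centralised (c : C0) (h1 : c ≠ 1) (h : ∀ k ∈ KSub, c * k = k * c) : c = z0 ∨ c * c = z0 := by
  have h' := forall_of_all (p := fun c => c == 1 || c == z0 || c * c == z0 ||
    !(allEl.all fun k => !(kd k == 0 || kd k == 1 || kd k == 6) || c * k == k * c)) (by decide +kernel) c
  have h2 : (allEl.all fun k => !(kd k == 0 || kd k == 1 || kd k == 6) || c * k == k * c) = true := by
    refine List.all_eq_true.2 fun k _ => ?_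
    by_cases hk : (kd k == 0 || kd k == 1 || kd k == 6) = true
    · simp [h k ((mem_KSub k).2 hk)]
    · simp [Bool.not_eq_true _ ▸ hk]
  simp only [h2, Bool.not_true, Bool.or_false, Bool.or_eq_true, beq_iff_eq, h1, false_or] at h'
  exact h'

theorem K_normal (c k : C0) (hk : k ∈ KSub) : c * k * c⁻¹ ∈ KSub := by
  show InK _
  unfold InK
  rw [kd_conj]
  exact hk

theorem card_arith : ∀ m : Fin 56, (m : ℕ) ∣ 660 → 144 * (m : ℕ) < 1512 ∨ (27 ∣ 144 * (m : ℕ) ∧ 144 * (m : ℕ) < 4536) ∨
    (m : ℕ) = 20 ∨ (11 ∣ 144 * (m : ℕ) ∧ ¬ 5 ∣ 144 * (m : ℕ)) ∨ (m : ℕ) = 55 := by decide +kernel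

theorem five_arith' : ∀ n : Fin 41, (n : ℕ) ∣ 40 → 5 ∣ (n : ℕ) → (2880 / (n : ℕ)) % 5 = 1 → (n : ℕ) = 5 := by
  decide +kernel

/-- A group generated by elements of order prime to a prime dividing its order has no normal complement. -/
theorem no_transfer {G : Type u} [Group G] [Finite G] (H : Subgroup G) {q : ℕ} [Fact q.Prime]
    (hq : q ∣ Nat.card H) (P : Sylow q H)
    (hN : Subgroup.normalizer ((P : Subgroup H) : Set H) ≤ Subgroup.centralizer ((P : Subgroup H) : Set H))
    {A B : Subgroup G} (hH : H = A ⊔ B) (hA : ¬ q ∣ Nat.card A) (hB : ¬ q ∣ Nat.card B) : False := by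
  have hc := MonoidHom.ker_transferSylow_isComplement' P hN
  set M := (MonoidHom.transferSylow P hN).ker with hM
  obtain ⟨n, hn⟩ := P.isPGroup'.exists_card_eq
  have hidx : M.index = q ^ n := hc.symm.index_eq_card.trans hn
  haveI : M.Normal := MonoidHom.normal_ker _
  have hmem : ∀ g : H, ¬ q ∣ orderOf g → g ∈ M := by
    intro g hg
    refine (QuotientGroup.eq_one_iff g).1 (orderOf_eq_one_iff.1 ?_)
    refine Nat.eq_one_of_dvd_coprimes (a := orderOf g) (b := q ^ n)
      (Nat.Coprime.pow_right _ ((Fact.out : q.Prime).coprime_iff_not_dvd.2 hg).symm) ?_ ?_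
    · exact orderOf_map_dvd (QuotientGroup.mk' M) g
    · rw [← hidx, Subgroup.index_eq_card]; exact orderOf_dvd_natCard _
  have hle : ∀ C : Subgroup G, C ≤ H → ¬ q ∣ Nat.card C → C ≤ M.map H.subtype := fun C hC hCq a ha =>
    ⟨⟨a, hC ha⟩, hmem _ (fun h => hCq (h.trans (by
      rw [Subgroup.orderOf_mk]; exact Subgroup.orderOf_dvd_natCard _ ha))), rfl⟩
  have hHM : H ≤ M.map H.subtype := calc
    H = A ⊔ B := hH
    _ ≤ M.map H.subtype := sup_le (hle A (hH ▸ le_sup_left) hA) (hle B (hH ▸ le_sup_right) hB)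
  have htop : M = ⊤ := eq_top_iff.2 fun g _ => by
    obtain ⟨a, ha, e⟩ := hHM g.2
    rwa [← show a = g from Subtype.ext e]
  have h1 : M.index = 1 := by rw [htop]; exact Subgroup.index_top
  rw [hidx] at h1
  have := P.card_eq_multiplicity
  rw [hn, h1] at this
  have h0 : (Nat.card H).factorization q = 0 := by
    by_contra h0
    have := Nat.one_lt_pow h0 (Fact.out : q.Prime).one_lt
    omega
  exact (Fact.out : q.Prime).ne_zero (by
    have := (Nat.Prime.factorization_pos_of_dvd (Fact.out : q.Prime) Nat.card_pos.ne' hq)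
    omega)

namespace Frame

variable {G : Type u} [Group G] {F : Frame G} [Finite G] [IsSimpleGroup G] {E : Subgroup G}

/-- no element of the centraliser centralises the subgroup of order nine -/
theorem cent_E (hE : Nine F.toSetup E) {d : C0} (h : ∀ a ∈ E, F.ι d * a = a * F.ι d) : d = 1 := by
  by_contra hd
  obtain ⟨⟨a, ha⟩, ha1⟩ : ∃ a : E, a ≠ 1 := by
    haveI : Nontrivial E := by rw [← Finite.one_lt_card_iff_nontrivial, hE.card_E]; norm_num
    exact exists_ne 1
  have ha1' : a ≠ 1 := fun e => ha1 (Subtype.ext e)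
  have hcomm : ∀ k ∈ KSub, d * k = k * d := by
    intro k hk
    have hx : k * d * k⁻¹ * d⁻¹ ∈ KSub := by
      rw [mul_assoc, mul_assoc, ← mul_assoc d]
      exact mul_mem hk (K_normal d k⁻¹ (inv_mem hk))
    have hfix : ∀ b ∈ E, F.ι (k * d * k⁻¹) * b = b * F.ι (k * d * k⁻¹) := by
      intro b hb
      have hb' := (K_conj hE hk hb).2
      have e := h _ hb'
      rw [map_mul, map_mul, map_inv]
      calc F.ι k * F.ι d * (F.ι k)⁻¹ * b = F.ι k * (F.ι d * ((F.ι k)⁻¹ * b * F.ι k)) * (F.ι k)⁻¹ := by group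
        _ = F.ι k * ((F.ι k)⁻¹ * b * F.ι k * F.ι d) * (F.ι k)⁻¹ := by rw [e]
        _ = _ := by group
    by_contra hne
    refine ha1' (K_free hE hx (fun e => hne ?_) ha ?_)
    · rw [mul_inv_eq_one] at e
      exact (mul_inv_eq_iff_eq_mul.1 e).symm
    · rw [map_mul, map_inv]
      exact ((show Commute (F.ι (k * d * k⁻¹)) a from hfix a ha).mul_left
        (show Commute (F.ι d) a from h a ha).inv_left).eq
  have hz : F.z * a = a * F.z := by
    rw [← F.map_z]
    rcases K_centralised d hd hcomm with e | e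
    · rw [← e]; exact h a ha
    · rw [← e, map_mul]
      exact ((show Commute (F.ι d) a from h a ha).mul_left (h a ha)).eq
  have h1 := hE.inv a ha
  rw [hz, mul_inv_cancel_right] at h1
  exact ha1' (eq_one_of_inv_self (hE.cube a ha) h1)

theorem norm_of_maps {x : G} (h : ∀ a ∈ E, x * a * x⁻¹ ∈ E) :
    x ∈ Subgroup.normalizer (E : Set G) := by
  refine Subgroup.mem_normalizer_iff.2 fun a => ⟨fun ha => h a ha, fun ha => ?_⟩
  let ψ : E → E := fun b => ⟨x * b * x⁻¹, h b b.2⟩
  obtain ⟨b, hb⟩ := Finite.surjective_of_injective (f := ψ)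
    (fun b c e => Subtype.ext (mul_left_cancel (mul_right_cancel (congrArg Subtype.val e)))) ⟨_, ha⟩
  have : (b : G) = a := mul_left_cancel (mul_right_cancel (congrArg Subtype.val hb))
  rw [← this]
  exact b.2

theorem exists_point (hE : Nine F.toSetup E) :
    ∃ p : Fin 12, p.val < 2 ∧ F.ι (oP p) ∉ Subgroup.normalizer (E : Set G) := by
  classical
  haveI := Fintype.ofFinite E
  set N := Subgroup.normalizer (E : Set G) with hN
  by_contra hcon
  push Not at hcon
  have h44 : F.ι (el 44) ∈ N := hcon 0 (by decide)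
  have h64 : F.ι (el 64) ∈ N := hcon 1 (by decide)
  let W := N.comap F.ι
  have hKW : ∀ k ∈ KSub, k ∈ W := fun k hk => norm_of_maps (hE.norm k hk)
  have hW : ∀ c ∈ wordList, c ∈ W := by
    intro c hc
    obtain ⟨k, hk, hw'⟩ := List.mem_flatMap.1 hc
    obtain ⟨w, hw, rfl⟩ := List.mem_map.1 hw'
    refine W.mul_mem (hKW k ((mem_KSub k).2 (List.mem_filter.1 hk).2)) ?_
    simp only [List.mem_cons, List.not_mem_nil, or_false] at hw
    rcases hw with rfl | rfl | rfl | rfl | rfl | rfl | rfl
    exacts [W.one_mem, h44, W.mul_mem h44 h44, h64, W.mul_mem h64 h64, W.mul_mem h44 h64, W.mul_mem h64 h44]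
  have h56 : 56 ≤ Nat.card W := by
    rw [← wordList_facts.2, ← List.toFinset_card_of_nodup wordList_facts.1, Nat.card_eq_fintype_card,
      Fintype.card_subtype]
    exact Finset.card_le_card fun c hc => Finset.mem_filter.2 ⟨Finset.mem_univ _, hW c (List.mem_toFinset.1 hc)⟩
  have h64' : 64 ≤ Nat.card W := by
    have hd : Nat.card W ∣ 192 := C0.card ▸ Subgroup.card_subgroup_dvd_card W
    have hle := Nat.le_of_dvd (by norm_num) hd
    by_contra hlt
    have key : ∀ n : Fin 64, (n : ℕ) ∣ 192 → (n : ℕ) < 56 := by decide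
    have := key ⟨Nat.card W, by omega⟩ hd
    simp only at this
    omega
  -- two generators of the subgroup
  haveI : Nontrivial E := by rw [← Finite.one_lt_card_iff_nontrivial, hE.card_E]; norm_num
  obtain ⟨u, hu⟩ := exists_ne (1 : E)
  have hu1 : (u : G) ≠ 1 := fun e => hu (Subtype.ext e)
  obtain ⟨v, hv, hvu⟩ : ∃ v ∈ E, v ∉ Subgroup.zpowers (u : G) := by
    by_contra hc
    push Not at hc
    have h := Nat.le_of_dvd Nat.card_pos (Subgroup.card_dvd_of_le (fun a ha => hc a ha : E ≤ Subgroup.zpowers (u : G)))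
    rw [hE.card_E, Nat.card_zpowers, (orderOf_eq_prime_iff (p := 3) (hp := ⟨Nat.prime_three⟩)).2
      ⟨hE.cube _ u.2, hu1⟩] at h
    omega
  obtain ⟨hab, hform⟩ := pair_form hE.card_E u.2 hv hu1 hvu
  let T : Finset (E × E) := ((Finset.univ : Finset E).erase 1).offDiag
  have hT : T.card = 56 := by
    rw [Finset.offDiag_card, Finset.card_erase_of_mem (Finset.mem_univ _), Finset.card_univ,
      ← Nat.card_eq_fintype_card, hE.card_E]
  have hmem : ∀ c : W, ∀ a ∈ E, F.ι c * a * (F.ι c)⁻¹ ∈ E := fun c a ha =>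
    (Subgroup.mem_normalizer_iff.1 c.2 a).1 ha
  let φ : W → T := fun c => ⟨(⟨_, hmem c u u.2⟩, ⟨_, hmem c v hv⟩), by
    have hne : ∀ a : G, a ≠ 1 → F.ι c * a * (F.ι c)⁻¹ ≠ 1 := fun a ha e => ha (by
      rw [mul_inv_eq_one] at e
      exact mul_eq_left.1 e)
    have hv1 : v ≠ 1 := fun e => hvu (e ▸ one_mem _)
    simp only [T, Finset.mem_offDiag, Finset.mem_erase, Finset.mem_univ, and_true, ne_eq]
    refine ⟨fun e => hne u hu1 (congrArg Subtype.val e), fun e => hne v hv1 (congrArg Subtype.val e), fun e => hvu ?_⟩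
    rw [← mul_left_cancel (mul_right_cancel (congrArg Subtype.val e))]
    exact Subgroup.mem_zpowers _⟩
  have hφ : Function.Injective φ := by
    intro c c' e
    have e1 : F.ι c * u * (F.ι c)⁻¹ = F.ι c' * u * (F.ι c')⁻¹ :=
      congrArg (fun q : T => ((q.1.1 : E) : G)) e
    have e2 : F.ι c * v * (F.ι c)⁻¹ = F.ι c' * v * (F.ι c')⁻¹ :=
      congrArg (fun q : T => ((q.1.2 : E) : G)) e
    have hd : ∀ b, F.ι c * b * (F.ι c)⁻¹ = F.ι c' * b * (F.ι c')⁻¹ →
        Commute (F.ι ((c' : C0)⁻¹ * (c : C0))) b := by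
      intro b hb
      show F.ι ((c' : C0)⁻¹ * (c : C0)) * b = b * F.ι ((c' : C0)⁻¹ * (c : C0))
      rw [map_mul, map_inv]
      calc (F.ι c')⁻¹ * F.ι c * b = (F.ι c')⁻¹ * (F.ι c * b * (F.ι c)⁻¹) * F.ι c := by group
        _ = _ := by rw [hb]; group
    have h1 := cent_E hE (d := (c' : C0)⁻¹ * (c : C0)) fun a ha => by
      obtain ⟨k, l, rfl⟩ := hform a ha
      exact (((hd _ e1).zpow_right k).mul_right ((hd _ e2).zpow_right l)).eq
    exact (Subtype.ext (inv_mul_eq_one.1 h1)).symm
  have := Nat.card_le_card_of_injective φ hφ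
  rw [Nat.card_eq_fintype_card (α := T), Fintype.card_coe, hT] at this
  omega

/-- A subgroup containing the product and the moving element has many conjugates of the nine-subgroup. -/
theorem conj_count (hE : Nine F.toSetup E) {p : Fin 12} (hp : p.val < 2)
    (ho : F.ι (oP p) ∉ Subgroup.normalizer (E : Set G)) {H : Subgroup G}
    (hH : H = E ⊔ (stabPt p).map F.ι) :
    21 * Nat.card ((Subgroup.normalizer (E : Set G)).subgroupOf H) ≤ Nat.card H := by
  classical
  set N := (Subgroup.normalizer (E : Set G)).subgroupOf H with hN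
  obtain ⟨ho1, ho3, -⟩ := oP_facts p hp
  have hEH : ∀ a ∈ E, a ∈ H := fun a ha => hH ▸ Subgroup.mem_sup_left ha
  have hLH : ∀ c ∈ stabPt p, F.ι c ∈ H := fun c hc => hH ▸ Subgroup.mem_sup_right ⟨c, hc, rfl⟩
  have hKH : ∀ k ∈ KSub, F.ι k ∈ H := fun k hk => hLH k (KSub_le_stab p hp hk)
  have hEN : ∀ (a : G) (ha : a ∈ E), (⟨a, hEH a ha⟩ : H) ∈ N := fun a ha =>
    Subgroup.mem_subgroupOf.2 (Subgroup.le_normalizer ha)
  have hKN : ∀ (k : C0) (hk : k ∈ KSub), (⟨F.ι k, hKH k hk⟩ : H) ∈ N := fun k hk =>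
    Subgroup.mem_subgroupOf.2 (norm_of_maps (hE.norm k hk))
  let o : H := ⟨F.ι (oP p), hLH _ ho1⟩
  have hoN : o ∉ N := fun e => ho (Subgroup.mem_subgroupOf.1 e)
  let Ω := H ⧸ N
  let b : Ω := ((1 : H) : Ω)
  let KFix : Ω → Prop := fun A => ∀ (k : C0) (hk : k ∈ KSub), (⟨F.ι k, hKH k hk⟩ : H) • A = A
  have hKo : ∀ j : ℕ, KFix ((o ^ j) • b) := by
    intro j k hk
    have hmem : (o ^ j)⁻¹ * ⟨F.ι k, hKH k hk⟩ * o ^ j ∈ N := by
      have e : (o ^ j)⁻¹ * ⟨F.ι k, hKH k hk⟩ * o ^ j =
          (⟨F.ι ((oP p ^ j)⁻¹ * k * oP p ^ j), hKH _ (by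
            simpa using K_normal (oP p ^ j)⁻¹ k hk)⟩ : H) := Subtype.ext (by simp [o])
      rw [e]
      exact hKN _ (by simpa using K_normal (oP p ^ j)⁻¹ k hk)
    rw [smul_smul, MulAction.Quotient.smul_mk, smul_eq_mul, mul_one]
    show ((⟨F.ι k, hKH k hk⟩ * o ^ j : H) : Ω) = _
    rw [MulAction.Quotient.smul_mk, smul_eq_mul, mul_one, QuotientGroup.eq]
    have := inv_mem hmem
    convert this using 1
    group
  -- the stabiliser in the nine-subgroup of a point fixed by the quaternion subgroup
  have hfree : ∀ A : Ω, KFix A → A ≠ b → ∀ (a : G) (ha : a ∈ E), (⟨a, hEH a ha⟩ : H) • A = A → a = 1 := by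
    intro A hA hAb a ha haA
    by_contra ha1
    have hall : ∀ (c : G) (hc : c ∈ E), (⟨c, hEH c hc⟩ : H) • A = A := by
      let f : KSub → {c : E // c ≠ 1} := fun k => ⟨⟨_, (K_conj hE k.2 ha).1⟩, fun e => ha1 (by
        have e' : F.ι k * a * (F.ι k)⁻¹ = 1 := congrArg Subtype.val e
        rw [mul_inv_eq_one] at e'
        exact mul_eq_left.1 e')⟩
      have hf : Function.Injective f := by
        intro k l e
        have e' : F.ι k * a * (F.ι k)⁻¹ = F.ι l * a * (F.ι l)⁻¹ :=
          congrArg (fun q : {c : E // c ≠ 1} => ((q.1 : E) : G)) e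
        have hc : F.ι ((l : C0)⁻¹ * k) * a = a * F.ι ((l : C0)⁻¹ * k) := by
          rw [map_mul, map_inv]
          calc (F.ι l)⁻¹ * F.ι k * a = (F.ι l)⁻¹ * (F.ι k * a * (F.ι k)⁻¹) * F.ι k := by group
            _ = _ := by rw [e']; group
        by_contra hne
        exact ha1 (K_free hE (mul_mem (inv_mem l.2) k.2)
          (fun e2 => hne (Subtype.ext (inv_mul_eq_one.1 e2)).symm) ha hc)
      haveI := Fintype.ofFinite E
      haveI := Fintype.ofFinite KSub
      have hsurj : Function.Surjective f := by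
        refine ((Fintype.bijective_iff_injective_and_card f).2 ⟨hf, ?_⟩).2
        rw [← Nat.card_eq_fintype_card, card_KSub, Fintype.card_subtype_compl, Fintype.card_subtype_eq,
          ← Nat.card_eq_fintype_card, hE.card_E]
      intro c hc
      by_cases hc1 : c = 1
      · subst hc1
        exact one_smul H A
      obtain ⟨k, hk⟩ := hsurj ⟨⟨c, hc⟩, fun e => hc1 (congrArg Subtype.val e)⟩
      have hk' : F.ι k * a * (F.ι k)⁻¹ = c := congrArg (fun q : {c : E // c ≠ 1} => ((q.1 : E) : G)) hk
      have e : (⟨c, hEH c hc⟩ : H) = ⟨F.ι k, hKH _ k.2⟩ * ⟨a, hEH a ha⟩ * (⟨F.ι k, hKH _ k.2⟩ : H)⁻¹ :=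
        Subtype.ext hk'.symm
      rw [e, mul_smul, mul_smul]
      have hkA := hA k k.2
      rw [inv_smul_eq_iff.2 hkA.symm, haA, hkA]
    obtain ⟨h, rfl⟩ := QuotientGroup.mk_surjective A
    set NG := Subgroup.normalizer (E : Set G) with hNG
    have hE' : ∀ c ∈ E, (h : G)⁻¹ * c * h ∈ NG := by
      intro c hc
      have e := hall c hc
      rw [MulAction.Quotient.smul_mk, smul_eq_mul, QuotientGroup.eq] at e
      have := inv_mem (Subgroup.mem_subgroupOf.1 e)
      simpa [mul_assoc] using this
    let E' : Subgroup NG := (E.map (MulAut.conj (h : G)⁻¹).toMonoidHom).subgroupOf NG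
    let En : Subgroup NG := E.subgroupOf NG
    haveI : En.Normal := ⟨fun x hx g => Subgroup.mem_subgroupOf.2
      ((Subgroup.mem_normalizer_iff.1 g.2 _).1 (Subgroup.mem_subgroupOf.1 hx))⟩
    have hleN : E.map (MulAut.conj (h : G)⁻¹).toMonoidHom ≤ NG := by
      rintro _ ⟨c, hc, rfl⟩
      simpa using hE' c hc
    -- the intersection is invariant
    have hcap : ∀ c ∈ E, (h : G)⁻¹ * c * h ∈ E → c = 1 := by
      intro c hc hc'
      by_contra hc1
      have hinv : ∀ (k : C0), k ∈ KSub → (h : G)⁻¹ * (F.ι k * ((h : G) * ((h : G)⁻¹ * c * h) * (h : G)⁻¹) * (F.ι k)⁻¹) * h ∈ E := by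
        intro k hk
        have hkh := hA k hk
        rw [MulAction.Quotient.smul_mk, smul_eq_mul, QuotientGroup.eq] at hkh
        have hkn := Subgroup.mem_subgroupOf.1 (inv_mem hkh)
        have := (Subgroup.mem_normalizer_iff.1 hkn _).1 hc'
        simp only [Subgroup.coe_inv, Subgroup.coe_mul, inv_inv, mul_inv_rev] at this
        convert this using 1
        group
      -- every element of the nine-subgroup moves into it
      have hnorm : ∀ d ∈ E, (h : G)⁻¹ * d * h ∈ E := by
        intro d hd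
        by_cases hd1 : d = 1
        · rw [hd1, mul_one, inv_mul_cancel]; exact one_mem _
        let f : KSub → {q : E // q ≠ 1} := fun k => ⟨⟨_, (K_conj hE k.2 hc).1⟩, fun e => hc1 (by
          have e' : F.ι k * c * (F.ι k)⁻¹ = 1 := congrArg Subtype.val e
          rw [mul_inv_eq_one] at e'
          exact mul_eq_left.1 e')⟩
        have hf : Function.Injective f := by
          intro k l e
          have e' : F.ι k * c * (F.ι k)⁻¹ = F.ι l * c * (F.ι l)⁻¹ :=
            congrArg (fun q : {q : E // q ≠ 1} => ((q.1 : E) : G)) e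
          have hcc : F.ι ((l : C0)⁻¹ * k) * c = c * F.ι ((l : C0)⁻¹ * k) := by
            rw [map_mul, map_inv]
            calc (F.ι l)⁻¹ * F.ι k * c = (F.ι l)⁻¹ * (F.ι k * c * (F.ι k)⁻¹) * F.ι k := by group
              _ = _ := by rw [e']; group
          by_contra hne
          exact hc1 (K_free hE (mul_mem (inv_mem l.2) k.2)
            (fun e2 => hne (Subtype.ext (inv_mul_eq_one.1 e2)).symm) hc hcc)
        haveI := Fintype.ofFinite E
        haveI := Fintype.ofFinite KSub
        have hsurj : Function.Surjective f := by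
          refine ((Fintype.bijective_iff_injective_and_card f).2 ⟨hf, ?_⟩).2
          rw [← Nat.card_eq_fintype_card, card_KSub, Fintype.card_subtype_compl, Fintype.card_subtype_eq,
            ← Nat.card_eq_fintype_card, hE.card_E]
        obtain ⟨k, hk⟩ := hsurj ⟨⟨d, hd⟩, fun e => hd1 (congrArg Subtype.val e)⟩
        have hk' : F.ι k * c * (F.ι k)⁻¹ = d := congrArg (fun q : {q : E // q ≠ 1} => ((q.1 : E) : G)) hk
        have := hinv k k.2
        rwa [show (h : G) * ((h : G)⁻¹ * c * h) * (h : G)⁻¹ = c by group, hk'] at this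
      have hmemN : (h : G)⁻¹ ∈ NG := norm_of_maps fun d hd => by simpa using hnorm d hd
      refine hAb ?_
      show ((h : H) : Ω) = ((1 : H) : Ω)
      rw [QuotientGroup.eq, mul_one]
      exact Subgroup.mem_subgroupOf.2 hmemN
    have hdisj : ∀ x ∈ E', x ∈ En → x = 1 := by
      intro x hx hx'
      obtain ⟨c, hc, hcx⟩ := Subgroup.mem_subgroupOf.1 hx
      have hcx' : (h : G)⁻¹ * c * h = (x : G) := by simpa using hcx
      have := hcap c hc (by rw [hcx']; exact Subgroup.mem_subgroupOf.1 hx')
      rw [this, mul_one, inv_mul_cancel] at hcx'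
      exact Subtype.ext hcx'.symm
    have h9 : Nat.card E' = 9 := by
      rw [Nat.card_congr (Subgroup.subgroupOfEquivOfLe hleN).toEquiv,
        Subgroup.card_map_of_injective (MulEquiv.injective _), hE.card_E]
    have h9' : Nat.card En = 9 := by
      rw [Nat.card_congr (Subgroup.subgroupOfEquivOfLe Subgroup.le_normalizer).toEquiv, hE.card_E]
    let π : E' →* NG ⧸ En := (QuotientGroup.mk' En).comp E'.subtype
    have hπ : Function.Injective π := (injective_iff_map_eq_one π).2 fun x hx =>
      Subtype.ext (hdisj x x.2 ((QuotientGroup.eq_one_iff _).1 hx))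
    have hd : 9 ∣ En.index := by
      rw [← h9, Subgroup.index_eq_card, Nat.card_congr (MonoidHom.ofInjective hπ).toEquiv]
      exact Subgroup.card_subgroup_dvd_card _
    have h81 : 81 ∣ Nat.card NG := by
      rw [← Subgroup.card_mul_index En, h9', show 81 = 9 * 9 from rfl]
      exact Nat.mul_dvd_mul_left 9 hd
    have := h81.trans (Subgroup.card_subgroup_dvd_card NG)
    rw [F.card_eq] at this
    norm_num at this
  -- the two orbits
  let zH : H := ⟨F.z, F.map_z ▸ hKH z0 (Or.inr (Or.inl (by decide +kernel)))⟩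
  have hzfix : ∀ A, KFix A → zH • A = A := fun A hA => by
    have := hA z0 (Or.inr (Or.inl (by decide +kernel)))
    convert this using 2
    exact Subtype.ext F.map_z.symm
  let a₁ : Ω := (o ^ 1) • b
  let a₂ : Ω := (o ^ 2) • b
  have ho3' : o ^ 3 = 1 := Subtype.ext (by show F.ι (oP p) ^ 3 = 1; rw [← map_pow, ho3, map_one])
  have hne : ∀ i : Bool, (if i then a₂ else a₁) ≠ b := by
    intro i e
    cases i
    · simp only [Bool.false_eq_true, if_false] at e
      replace e : (o ^ 1 * 1 : H)⁻¹ * 1 ∈ N := QuotientGroup.eq.1 e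
      rw [mul_one, mul_one, pow_one] at e
      exact hoN (by simpa using inv_mem e)
    · simp only [if_true] at e
      replace e : (o ^ 2 * 1 : H)⁻¹ * 1 ∈ N := QuotientGroup.eq.1 e
      rw [mul_one, mul_one] at e
      refine hoN ?_
      have := mul_mem (inv_mem e) (inv_mem e)
      rw [inv_inv, ← pow_add, show 2 + 2 = 3 + 1 from rfl, pow_add, ho3', one_mul, pow_one] at this
      exact this
  have h12 : a₁ ≠ a₂ := fun e => hne false (by
    have e' := congrArg ((o ^ 2) • ·) e
    simp only [a₁, a₂, smul_smul, ← pow_add] at e'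
    rw [show 2 + 1 = 3 from rfl, ho3', one_smul, show 2 + 2 = 3 + 1 from rfl, pow_add, ho3', one_mul] at e'
    exact e'.symm)
  have hfix : ∀ i : Bool, KFix (if i then a₂ else a₁) := by
    intro i; cases i
    exacts [hKo 1, hKo 2]
  have hEb : ∀ (a : G) (ha : a ∈ E), (⟨a, hEH a ha⟩ : H) • b = b := fun a ha => by
    show ((⟨a, hEH a ha⟩ * 1 : H) : Ω) = ((1 : H) : Ω)
    rw [mul_one, QuotientGroup.eq, mul_one]
    exact inv_mem (hEN a ha)
  let g : Option (Bool × E) → Ω := fun x => x.elim b fun q => (⟨q.2, hEH _ q.2.2⟩ : H) • if q.1 then a₂ else a₁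
  have hsucc : ∀ (i : Bool) (e : E), (⟨e, hEH _ e.2⟩ : H) • (if i then a₂ else a₁) ≠ b := fun i e he => hne i (by
    rw [← hEb e e.2] at he
    exact (smul_left_cancel_iff _).1 he)
  have hg : Function.Injective g := by
    rintro (_ | ⟨i, e⟩) (_ | ⟨j, e'⟩) h
    · rfl
    · exact absurd h.symm (hsucc j e')
    · exact absurd h (hsucc i e)
    · change (⟨e, hEH _ e.2⟩ : H) • (if i then a₂ else a₁) = (⟨e', hEH _ e'.2⟩ : H) • (if j then a₂ else a₁) at h
      set d : E := e'⁻¹ * e with hd
      have hd' : (⟨d, hEH _ d.2⟩ : H) • (if i then a₂ else a₁) = if j then a₂ else a₁ := by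
        rw [show (⟨d, hEH _ d.2⟩ : H) = (⟨e', hEH _ e'.2⟩ : H)⁻¹ * ⟨e, hEH _ e.2⟩ from Subtype.ext rfl, mul_smul, h,
          inv_smul_smul]
      have hzd : (⟨(d : G)⁻¹ * (d : G)⁻¹, hEH _ (mul_mem (inv_mem d.2) (inv_mem d.2))⟩ : H) •
          (if i then a₂ else a₁) = if i then a₂ else a₁ := by
        have e1 : (⟨(d : G)⁻¹ * (d : G)⁻¹, hEH _ (mul_mem (inv_mem d.2) (inv_mem d.2))⟩ : H) =
            (⟨d, hEH _ d.2⟩ : H)⁻¹ * zH * ⟨d, hEH _ d.2⟩ * zH⁻¹ := by
          refine Subtype.ext ?_
          show (d : G)⁻¹ * (d : G)⁻¹ = (d : G)⁻¹ * F.z * d * F.z⁻¹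
          rw [mul_assoc (d : G)⁻¹ F.z, mul_assoc (d : G)⁻¹, hE.inv _ d.2]
        rw [e1, mul_smul, inv_smul_eq_iff.2 (hzfix _ (hfix i)).symm, mul_smul, hd', mul_smul, hzfix _ (hfix j),
          ← hd', inv_smul_smul]
      have h1 := hfree _ (hfix i) (hne i) _ (mul_mem (inv_mem d.2) (inv_mem d.2)) hzd
      have hd1 : (d : G) = 1 := eq_one_of_inv_self (hE.cube _ d.2) (by
        rw [← mul_inv_rev] at h1
        exact eq_inv_of_mul_eq_one_left (inv_eq_one.1 h1))
      have hee : e' = e := inv_mul_eq_one.1 (Subtype.ext hd1 : d = 1)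
      subst hee
      have hij := (smul_left_cancel_iff _).1 h
      cases i <;> cases j
      · rfl
      · exact absurd hij h12
      · exact absurd hij.symm h12
      · rfl
  haveI := Fintype.ofFinite E
  haveI := Fintype.ofFinite Ω
  have hcardg : Fintype.card (Option (Bool × E)) = 19 := by
    rw [Fintype.card_option, Fintype.card_prod, Fintype.card_bool, ← Nat.card_eq_fintype_card (α := E), hE.card_E]
  have hmul : Nat.card H = Nat.card Ω * Nat.card N := Subgroup.card_eq_card_quotient_mul_card_subgroup N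
  rw [hmul]
  refine Nat.mul_le_mul_right _ ?_
  have h19 := Fintype.card_le_of_injective g hg
  rw [hcardg, ← Nat.card_eq_fintype_card] at h19
  by_contra hlt
  rcases (by omega : Nat.card Ω = 19 ∨ Nat.card Ω = 20) with e | e
  · have hd : Nat.card Ω ∣ Nat.card G :=
      (Dvd.intro _ hmul.symm).trans (Subgroup.card_subgroup_dvd_card H)
    rw [e, F.card_eq] at hd
    norm_num at hd
  · -- the remaining point is fixed
    let R := (Finset.univ.image g)ᶜ
    have hR : R.card = 1 := by
      rw [Finset.card_compl, Finset.card_image_of_injective _ hg, Finset.card_univ, hcardg,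
        ← Nat.card_eq_fintype_card, e]
    obtain ⟨r, hr⟩ := Finset.card_eq_one.1 hR
    have hrim : ∀ x, g x ≠ r := fun x hx => by
      have : r ∈ R := hr ▸ Finset.mem_singleton_self r
      exact Finset.mem_compl.1 this (Finset.mem_image.2 ⟨x, Finset.mem_univ _, hx⟩)
    have hinv : ∀ h : H, (∀ x, ∃ y, h • g x = g y) → h • r = r := by
      intro h hh
      have : h • r ∈ R := by
        refine Finset.mem_compl.2 fun hm => ?_
        obtain ⟨y, -, hy⟩ := Finset.mem_image.1 hm
        -- the map permutes the image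
        choose σ hσ using hh
        have hσi : Function.Injective σ := fun x x' e' => hg ((smul_left_cancel_iff h).1 (by rw [hσ, hσ, e']))
        obtain ⟨x, hx⟩ := Finite.surjective_of_injective hσi y
        exact hrim x ((smul_left_cancel_iff h).1 (by rw [hσ, hx, hy]))
      rwa [hr, Finset.mem_singleton] at this
    have hKr : KFix r := fun k hk => hinv _ fun x => by
      rcases x with _ | ⟨i, e'⟩
      · refine ⟨none, ?_⟩
        show (⟨F.ι k, hKH k hk⟩ : H) • b = b
        have := hKo 0 k hk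
        rwa [pow_zero, one_smul] at this
      · refine ⟨some (i, ⟨_, (K_conj hE hk e'.2).1⟩), ?_⟩
        show (⟨F.ι k, hKH k hk⟩ : H) • ((⟨e', hEH _ e'.2⟩ : H) • _) = _ • _
        conv_lhs => rw [smul_smul]
        conv_rhs => rw [← hfix i k hk, smul_smul]
        congr 1
        exact Subtype.ext (by show F.ι k * e' = F.ι k * e' * (F.ι k)⁻¹ * F.ι k; group)
    have hErfix : ∀ (a : G) (ha : a ∈ E), (⟨a, hEH a ha⟩ : H) • r = r := fun a ha => hinv _ fun x => by
      rcases x with _ | ⟨i, e'⟩
      · exact ⟨none, hEb a ha⟩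
      · refine ⟨some (i, ⟨a * e', mul_mem ha e'.2⟩), ?_⟩
        show (⟨a, hEH a ha⟩ : H) • ((⟨e', hEH _ e'.2⟩ : H) • _) = _ • _
        rw [smul_smul]
        rfl
    haveI : Nontrivial E := by rw [← Finite.one_lt_card_iff_nontrivial, hE.card_E]; norm_num
    obtain ⟨u, hu⟩ := exists_ne (1 : E)
    exact hu (Subtype.ext (hfree r hKr (fun e' => hrim none e'.symm) u u.2 (hErfix u u.2)))

/-- A subgroup of index twelve. -/
theorem exists_index_twelve (hE : Nine F.toSetup E) : ∃ H : Subgroup G, H.index = 12 := by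
  classical
  haveI : Fact (Nat.Prime 3) := ⟨Nat.prime_three⟩
  haveI : Fact (Nat.Prime 5) := ⟨by norm_num⟩
  haveI : Fact (Nat.Prime 11) := ⟨by norm_num⟩
  obtain ⟨p, hp, ho⟩ := exists_point hE
  set H := E ⊔ (stabPt p).map F.ι with hH
  refine ⟨H, ?_⟩
  have hidx := index_bound hE p hp
  have hLc : Nat.card ((stabPt p).map F.ι) = 48 := by
    rw [Subgroup.card_map_of_injective F.inj, card_stabPt p hp]
  have h9 : 9 ∣ Nat.card H := hE.card_E ▸ Subgroup.card_dvd_of_le le_sup_left
  have h16 : 16 ∣ Nat.card H := (by norm_num : 16 ∣ 48).trans (hLc ▸ Subgroup.card_dvd_of_le le_sup_right)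
  obtain ⟨m, hm⟩ : 144 ∣ Nat.card H := Nat.Coprime.mul_dvd_of_dvd_of_dvd (by norm_num : Nat.Coprime 9 16) h9 h16
  have hmul := Subgroup.card_mul_index H
  rw [F.card_eq, hm] at hmul
  have hm55 : m < 56 := by
    by_contra hge
    have : 144 * 56 * 12 ≤ 144 * m * H.index := Nat.mul_le_mul (Nat.mul_le_mul_left _ (by omega)) hidx
    omega
  have hd660 : m ∣ 660 := ⟨H.index, Nat.eq_of_mul_eq_mul_left (show 0 < 144 by norm_num)
    (by rw [← mul_assoc, hmul])⟩
  -- the lower bound on the normaliser
  set N := (Subgroup.normalizer (E : Set G)).subgroupOf H with hN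
  have hEH : E ≤ H := le_sup_left
  have hEKH : EK hE ≤ H := by
    rintro _ ⟨a, ha, k, hk, rfl⟩
    exact mul_mem (hEH ha) (Subgroup.mem_sup_right ⟨k, KSub_le_stab p hp hk, rfl⟩)
  have h72 : 72 ∣ Nat.card N := by
    have hle : (EK hE).subgroupOf H ≤ N := fun x hx => by
      obtain ⟨a, ha, k, hk, hx'⟩ := Subgroup.mem_subgroupOf.1 hx
      refine Subgroup.mem_subgroupOf.2 ?_
      rw [hx']
      exact mul_mem (Subgroup.le_normalizer ha) (norm_of_maps (hE.norm k hk))
    have := Subgroup.card_dvd_of_le hle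
    rwa [Nat.card_congr (Subgroup.subgroupOfEquivOfLe hEKH).toEquiv, ← Nat.card_congr (ekEquiv hE),
      Nat.card_prod, hE.card_E, card_KSub] at this
  have h216 : 27 ∣ Nat.card H → 216 ∣ Nat.card N := by
    intro h27
    obtain ⟨P, hP⟩ := (IsPGroup.of_card (n := 2) (by
      rw [Nat.card_congr (Subgroup.subgroupOfEquivOfLe hEH).toEquiv, hE.card_E]; norm_num) :
      IsPGroup 3 (E.subgroupOf H)).exists_le_sylow
    have hPc : Nat.card (P : Subgroup H) = 27 := by
      obtain ⟨j, hj⟩ := P.isPGroup'.exists_card_eq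
      have hd : Nat.card (P : Subgroup H) ∣ 95040 :=
        (Subgroup.card_subgroup_dvd_card _).trans (F.card_eq ▸ Subgroup.card_subgroup_dvd_card H)
      have hdiv : 3 ^ 3 ∣ Nat.card (P : Subgroup H) :=
        P.pow_dvd_card_of_pow_dvd_card (by simpa using h27)
      rw [hj] at hd hdiv ⊢
      have hj3 := (Nat.pow_dvd_pow_iff_le_right (by norm_num)).1 hdiv
      have hj4 : j < 4 := by
        by_contra hge
        have := (pow_dvd_pow 3 (by omega : 4 ≤ j)).trans hd
        norm_num at this
      rw [show j = 3 by omega]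
      norm_num
    have hi : ((E.subgroupOf H).subgroupOf (P : Subgroup H)).index = 3 := by
      have := Subgroup.card_mul_index ((E.subgroupOf H).subgroupOf (P : Subgroup H))
      rw [Nat.card_congr (Subgroup.subgroupOfEquivOfLe hP).toEquiv,
        Nat.card_congr (Subgroup.subgroupOfEquivOfLe hEH).toEquiv, hE.card_E, hPc] at this
      omega
    have hn : ((E.subgroupOf H).subgroupOf (P : Subgroup H)).Normal :=
      Subgroup.normal_of_index_eq_minFac_card (by rw [hi, hPc]; norm_num)
    have hle : (P : Subgroup H) ≤ N := fun x hx => by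
      refine Subgroup.mem_subgroupOf.2 (norm_of_maps fun a ha => ?_)
      have := hn.conj_mem (⟨⟨a, hEH ha⟩, hP (Subgroup.mem_subgroupOf.2 ha)⟩ : (P : Subgroup H))
        (Subgroup.mem_subgroupOf.2 (Subgroup.mem_subgroupOf.2 ha)) ⟨x, hx⟩
      exact Subgroup.mem_subgroupOf.1 (Subgroup.mem_subgroupOf.1 this)
    have h27' := hPc ▸ Subgroup.card_dvd_of_le hle
    exact Nat.Coprime.mul_dvd_of_dvd_of_dvd (by norm_num : Nat.Coprime 8 27) ((by norm_num : 8 ∣ 72).trans h72) h27'
  have hcount := conj_count hE hp ho hH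
  rw [← hN, hm] at hcount
  have hNpos : 0 < Nat.card N := Nat.card_pos
  have hgen : ∀ q : ℕ, q.Prime → (q = 5 ∨ q = 11) →
      ¬ q ∣ Nat.card E ∧ ¬ q ∣ Nat.card ((stabPt p).map F.ι) := by
    intro q _ hq
    rw [hE.card_E, hLc]
    rcases hq with rfl | rfl <;> norm_num
  rcases card_arith ⟨m, hm55⟩ hd660 with h | h | h | h | h <;> simp only at h
  · have := Nat.le_of_dvd hNpos h72
    omega
  · have := Nat.le_of_dvd hNpos (h216 (hm ▸ h.1))
    omega
  · -- order 2880
    exfalso
    subst h
    have hq : 5 ∣ Nat.card H := by rw [hm]; norm_num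
    obtain ⟨P⟩ : Nonempty (Sylow 5 H) := inferInstance
    have hP5 : Nat.card (P : Subgroup H) = 5 := by
      rw [P.card_eq_multiplicity, hm, show Nat.factorization (144 * 20) 5 = 1 by
        rw [Nat.factorization_def _ (by norm_num)]; decide +kernel]
      norm_num
    set NP := Subgroup.normalizer ((P : Subgroup H) : Set H) with hNP
    set CP := Subgroup.centralizer ((P : Subgroup H) : Set H) with hCP
    obtain ⟨g, hgP, hg, hgen'⟩ := MathieuEleven.gen_prime hP5
    have hg5 : orderOf (g : G) = 5 := (Subgroup.orderOf_coe g).trans hg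
    have hC10 : Nat.card CP ∣ 10 := by
      have hmap : CP.map H.subtype ≤ Subgroup.centralizer ({(g : G)} : Set G) := by
        rintro _ ⟨c, hc, rfl⟩
        exact Subgroup.mem_centralizer_singleton_iff.2
          (congrArg Subtype.val (Subgroup.mem_centralizer_iff.1 hc g hgP)).symm
      have := Subgroup.card_dvd_of_le hmap
      rw [Subgroup.card_map_of_injective H.subtype_injective,
        ← conj_centralizer_card (F.five_local.2.1 _ hg5), F.five_local.1] at this
      exact this
    have h40 : Nat.card NP ∣ 40 := by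
      obtain ⟨e, he⟩ := MathieuEleven.centralizer_dvd_normalizer (P : Subgroup H)
      have hd := MathieuEleven.normalizer_dvd (p := 5) (by norm_num) hP5
      rw [he, mul_comm (5 - 1) _] at hd
      have he4 := (Nat.mul_dvd_mul_iff_left Nat.card_pos).1 hd
      rw [hNP, he]
      exact (Nat.mul_dvd_mul hC10 he4)
    have h5N : 5 ∣ Nat.card NP := hP5 ▸ Subgroup.card_dvd_of_le Subgroup.le_normalizer
    have hmulN : Nat.card (Sylow 5 H) * Nat.card NP = 2880 := by
      rw [Sylow.card_eq_index_normalizer P]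
      exact (Subgroup.index_mul_card NP).trans (by rw [hm])
    have hNP5 : Nat.card NP = 5 := by
      have hle := Nat.le_of_dvd (by norm_num) h40
      have := five_arith' ⟨Nat.card NP, by omega⟩ h40 h5N (by
        show (2880 / Nat.card NP) % 5 = 1
        rw [← hmulN, Nat.mul_div_cancel _ Nat.card_pos]
        exact card_sylow_modEq_one 5 H)
      exact this
    have heq : (P : Subgroup H) = NP :=
      Subgroup.eq_of_le_of_card_ge Subgroup.le_normalizer (by rw [hNP5, hP5])
    obtain ⟨h1, h2⟩ := hgen 5 (by norm_num) (Or.inl rfl)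
    refine no_transfer H hq P (fun x hx => Subgroup.mem_centralizer_iff.2 fun y hy => ?_) hH h1 h2
    exact MathieuEleven.comm_of_prime hP5 y hy x (heq ▸ hx)
  · -- eleven without five
    exfalso
    obtain ⟨h11, h5⟩ := h
    rw [← hm] at h11 h5
    obtain ⟨P⟩ : Nonempty (Sylow 11 H) := inferInstance
    have hP11 : Nat.card (P : Subgroup H) = 11 := by
      obtain ⟨j, hj⟩ := P.isPGroup'.exists_card_eq
      have hdiv : 11 ^ 1 ∣ Nat.card (P : Subgroup H) := P.pow_dvd_card_of_pow_dvd_card (by simpa using h11)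
      have hd : Nat.card (P : Subgroup H) ∣ 95040 :=
        (Subgroup.card_subgroup_dvd_card _).trans (F.card_eq ▸ Subgroup.card_subgroup_dvd_card H)
      rw [hj] at hd hdiv ⊢
      have hj1 := (Nat.pow_dvd_pow_iff_le_right (by norm_num)).1 hdiv
      have hj2 : j < 2 := by
        by_contra hge
        have := (pow_dvd_pow 11 (by omega : 2 ≤ j)).trans hd
        norm_num at this
      rw [show j = 1 by omega]
      norm_num
    set NP := Subgroup.normalizer ((P : Subgroup H) : Set H) with hNP
    obtain ⟨e, he⟩ := MathieuEleven.centralizer_dvd_normalizer (P : Subgroup H)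
    obtain ⟨g, hgP, hg, hgen'⟩ := MathieuEleven.gen_prime hP11
    have hg11 : orderOf (g : G) = 11 := (Subgroup.orderOf_coe g).trans hg
    have hC : Nat.card (Subgroup.centralizer ((P : Subgroup H) : Set H)) = 11 := by
      have hmap : (Subgroup.centralizer ((P : Subgroup H) : Set H)).map H.subtype ≤
          Subgroup.centralizer ({(g : G)} : Set G) := by
        rintro _ ⟨c, hc, rfl⟩
        exact Subgroup.mem_centralizer_singleton_iff.2
          (congrArg Subtype.val (Subgroup.mem_centralizer_iff.1 hc g hgP)).symm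
      have h1 := Subgroup.card_dvd_of_le hmap
      rw [Subgroup.card_map_of_injective H.subtype_injective, F.centralizer_eleven hg11] at h1
      exact Nat.dvd_antisymm h1 (MathieuEleven.self_dvd_centralizer hP11)
    have hd := MathieuEleven.normalizer_dvd (p := 11) (by norm_num) hP11
    rw [he, mul_comm (11 - 1) _] at hd
    have he10 : e ∣ 10 := (Nat.mul_dvd_mul_iff_left Nat.card_pos).1 hd
    -- the normaliser in the whole group has odd order
    have hodd : ¬ 2 ∣ Nat.card NP := by
      intro h2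
      let P' : Subgroup G := (P : Subgroup H).map H.subtype
      have hP' : Nat.card P' = 11 := by rw [Subgroup.card_map_of_injective H.subtype_injective, hP11]
      have hf : (Nat.card G).factorization 11 = 1 := by
        rw [F.card_eq, Nat.factorization_def _ (by norm_num)]; decide +kernel
      let PG : Sylow 11 G := Sylow.ofCard P' (by rw [hP', hf]; norm_num)
      have hNG : Nat.card (Sylow 11 G) * Nat.card (Subgroup.normalizer (P' : Set G)) = 95040 := by
        rw [Sylow.card_eq_index_normalizer PG, ← F.card_eq]; exact Subgroup.index_mul_card _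
      rw [(F.eleven_local PG).1] at hNG
      have hle : NP.map H.subtype ≤ Subgroup.normalizer (P' : Set G) := Subgroup.le_normalizer_map _
      have h3 := Subgroup.card_dvd_of_le hle
      rw [Subgroup.card_map_of_injective H.subtype_injective,
        show Nat.card (Subgroup.normalizer (P' : Set G)) = 55 by omega] at h3
      have := h2.trans h3
      norm_num at this
    have he1 : e = 1 := by
      have hdH : Nat.card NP ∣ Nat.card H := Subgroup.card_subgroup_dvd_card _
      rw [hNP, he, hC] at hdH hodd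
      have key : ∀ e : Fin 11, (e : ℕ) ∣ 10 → ¬ 2 ∣ 11 * (e : ℕ) → (e : ℕ) = 1 ∨ (e : ℕ) = 5 := by decide
      have hle := Nat.le_of_dvd (by norm_num) he10
      rcases key ⟨e, by omega⟩ he10 hodd with k | k
      · exact k
      · simp only at k
        exact absurd ((dvd_mul_left 5 11).trans (k ▸ hdH)) h5
    rw [he1, mul_one] at he
    obtain ⟨h1, h2⟩ := hgen 11 (by norm_num) (Or.inr rfl)
    refine no_transfer H h11 P ?_ hH h1 h2
    exact (Subgroup.eq_of_le_of_card_ge (Subgroup.centralizer_le_normalizer _) he.le).ge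
  · subst h
    omega

end Frame

/-- A simple group with the involution centraliser of `M12` is `M12`. -/
theorem isoM12_of_setup {G : Type u} [Group G] [Finite G] [IsSimpleGroup G] (hG : ¬ IsMulCommutative G)
    (D : Setup G) : Cfsg.Spor.IsoM12 G := by
  obtain ⟨F, E, hE⟩ := exists_nine_frame hG D
  obtain ⟨H, hH⟩ := Frame.exists_index_twelve hE
  exact isoM12_of_index_twelve F.card_eq H hH

end Cfsg.Agent.MTwelve
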