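import Cfsg.Agent.Lib.Spor.MTwelve.ModelData

/-!
The centraliser of a central involution in the Mathieu group of degree twelve, as a group on 192 letters.
-/

set_option autoImplicit false
set_option maxRecDepth 100000
set_option maxHeartbeats 4000000
set_option Elab.async false

namespace Cfsg.Agent.MTwelve

/-- the model group -/
structure C0 where
  /-- the index -/
  idx : Fin 192
deriving DecidableEq

namespace C0

/-- the elements as an equivalence -/
def equivFin : C0 ≃ Fin 192 := ⟨idx, mk, fun _ => rfl, fun _ => rfl⟩

instance : Fintype C0 := Fintype.ofEquiv _ equivFin.symm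

theorem card : Nat.card C0 = 192 := (Nat.card_congr equivFin).trans (Nat.card_fin _)

/-- read a byte -/
def ofNat' (n : ℕ) : C0 := ⟨⟨n % 192, Nat.mod_lt _ (by decide)⟩⟩

/-- a numeral -/
def el (n : ℕ) : C0 := ofNat' n

/-- table product -/
def tmul (x y : C0) : C0 := ofNat' ((mulRow x.idx.val >>> (8 * y.idx.val)) % 256)

/-- table inverse -/
def tinv (x : C0) : C0 := ofNat' ((invTab >>> (8 * x.idx.val)) % 256)

/-- image of a point -/
def img (x : C0) (p : Fin 12) : Fin 12 :=
  ⟨(permRow x.idx.val >>> (4 * p.val)) % 16 % 12, Nat.mod_lt _ (by decide)⟩

/-- check over all elements, numerically -/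
theorem forall_of_all {p : C0 → Bool} (h : (List.range 192).all (fun i => p (el i)) = true) (x : C0) :
    p x = true := by
  have := List.all_eq_true.1 h x.idx.val (List.mem_range.2 x.idx.isLt)
  rwa [show el x.idx.val = x from by
    cases x with | mk i => simp [el, ofNat', Nat.mod_eq_of_lt i.isLt]] at this

/-- the first generator -/
def genA : C0 := el 44

/-- the second generator -/
def genB : C0 := el 83

/-- a shorter word -/
def preW (x : C0) : C0 := ofNat' ((0xa24317842757b365347a5378383b7c9e2c726dbea54f4e1d69b58081225faf55305b6b7495086e0905918c49440c8a8866b2641969b581803b7f7e9f636222af2a09941f8e924a8cbe6c2fbf4fa651a741a1a387b267796079607e0fbf7301518a98a1411966ab369f39bc2e004d32bbba336a772657b0b13d8259b49e110f385f55ae126e08289591490490725d732c1d1b500042a28543ab37a9a88b9b99458416b4b73f585334ae136220880c32bb3376961f2b29904a4b8d999b47896b00 >>> (8 * x.idx.val)) % 256)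

/-- the leading letter -/
def genW (x : C0) : C0 := if ((0x114051545014055041040545145001511410511111141415115111514415055414114510501045141044111451515054 >>> (2 * x.idx.val)) % 4).beq 0 then genA else genB

/-- the length of the word -/
def lenW (x : C0) : ℕ := (0x60607050705070907090205060607050205090705070707080304080705030703040808050705070705040707070405090708030803080406080804080907030707080608080604070808070704070908040807070807080708080707080907040804080309060804080608010a06080606090807050608070a07060507070605070608050707050507070605050802070709010806090606060808090606080507060806090207060609090507060806090606090a06060809060608090800 >>> (8 * x.idx.val)) % 256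

theorem word_step : ∀ x : C0, x = el 0 ∨ (x = tmul (genW x) (preW x) ∧ lenW (preW x) < lenW x) := fun x => by
  have h := forall_of_all (p := fun x => x.idx.val.beq 0 ||
    ((tmul (genW x) (preW x)).idx.val.beq x.idx.val && (lenW (preW x)).blt (lenW x))) (by decide +kernel) x
  simp only [Bool.or_eq_true, Bool.and_eq_true, Nat.beq_eq, Nat.blt_eq] at h
  rcases h with h | ⟨h, h'⟩
  · left; cases x with | mk i => simp only [el, ofNat', mk.injEq]; exact Fin.ext (by simpa using h)
  · right; exact ⟨by cases x; cases e : tmul _ _; simp_all [mk.injEq, Fin.ext_iff], h'⟩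

theorem tmul_one_left : ∀ y : C0, tmul (el 0) y = y := fun y =>
  eq_of_beq (forall_of_all (p := fun y => tmul (el 0) y == y) (by decide +kernel) y)

theorem img_gen (g : C0) (hg : g = genA ∨ g = genB) (y : C0) (p : Fin 12) :
    img (tmul g y) p = img g (img y p) := by
  have key : ∀ g : C0, ((List.range 192).all fun j => (List.finRange 12).all fun q =>
      img (tmul g (el j)) q == img g (img (el j) q)) = true →
      ∀ y p, img (tmul g y) p = img g (img y p) := fun g h y p => by
    have h2 := forall_of_all (p := fun y => (List.finRange 12).all fun q =>
      img (tmul g y) q == img g (img y q)) h y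
    simpa using List.all_eq_true.1 h2 p (List.mem_finRange p)
  rcases hg with rfl | rfl
  · exact key _ (by decide +kernel) y p
  · exact key _ (by decide +kernel) y p

theorem tmul_word (x y : C0) (hx : x ≠ el 0) : tmul x y = tmul (genW x) (tmul (preW x) y) := by
  have h1 := forall_of_all (p := fun x => x.idx.val.beq 0 || (List.range 192).all fun j =>
    (tmul x (el j)).idx.val.beq (tmul (genW x) (tmul (preW x) (el j))).idx.val) (by decide +kernel) x
  simp only [Bool.or_eq_true, Nat.beq_eq] at h1
  rcases h1 with h | h
  · exact absurd (by cases x with | mk i => simp only [el, ofNat', mk.injEq]; exact Fin.ext (by simpa using h)) hx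
  · have h2 := forall_of_all (p := fun y => (tmul x y).idx.val.beq (tmul (genW x) (tmul (preW x) y)).idx.val) h y
    rw [Nat.beq_eq] at h2
    cases e1 : tmul x y; cases e2 : tmul (genW x) (tmul (preW x) y)
    rw [e1, e2] at h2
    simpa [Fin.ext_iff] using h2

theorem img_zero : ∀ p, img (el 0) p = p := by decide +kernel

theorem tmul_img : ∀ (x y : C0) (p : Fin 12), img (tmul x y) p = img x (img y p) := by
  suffices ∀ (n : ℕ) (x : C0), lenW x ≤ n → ∀ y p, img (tmul x y) p = img x (img y p) from
    fun x => this _ x le_rfl
  intro n
  induction n with
  | zero =>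
    intro x hn y p
    rcases word_step x with rfl | ⟨-, h⟩
    · rw [tmul_one_left, img_zero]
    · omega
  | succ n ih =>
    intro x hn y p
    by_cases hx : x = el 0
    · rw [hx, tmul_one_left, img_zero]
    · obtain ⟨e, h⟩ := (word_step x).resolve_left hx
      have hg : genW x = genA ∨ genW x = genB := by unfold genW; split <;> simp
      rw [tmul_word x y hx, img_gen _ hg, ih (preW x) (by omega)]
      conv_rhs => rw [e, img_gen _ hg]

theorem img_injective {x y : C0} (h : ∀ p, img x p = img y p) : x = y := by
  have hr : ∀ x : C0, (permRow x.idx.val = ((List.finRange 12).map fun p =>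
      (img x p).val <<< (4 * p.val)).sum) := fun x => by
    simpa using forall_of_all (p := fun x => permRow x.idx.val == ((List.finRange 12).map fun p =>
      (img x p).val <<< (4 * p.val)).sum) (by decide +kernel) x
  have he : permRow x.idx.val = permRow y.idx.val := by rw [hr x, hr y]; simp only [h]
  have hd : ((List.range 192).all fun i => (List.range 192).all fun j =>
      !(permRow i == permRow j) || (i == j)) = true := by decide +kernel
  have h1 := List.all_eq_true.1 (List.all_eq_true.1 hd x.idx.val (List.mem_range.2 x.idx.isLt))
    y.idx.val (List.mem_range.2 y.idx.isLt)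
  simp [he] at h1
  cases x; cases y; simp only [mk.injEq]; exact Fin.ext h1

instance instMul : Mul C0 := ⟨tmul⟩
instance instOne : One C0 := ⟨el 0⟩
instance instInv : Inv C0 := ⟨tinv⟩

theorem img_mul (x y : C0) (p : Fin 12) : img (x * y) p = img x (img y p) := tmul_img x y p

theorem img_one : ∀ p, img (1 : C0) p = p := by decide +kernel

instance : Group C0 :=
  Group.ofLeftAxioms
    (fun a b c => img_injective fun p => by simp only [img_mul])
    (fun a => img_injective fun p => by rw [img_mul, img_one])
    (fun a => eq_of_beq (forall_of_all (p := fun a => a⁻¹ * a == 1) (by decide +kernel) a))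

/-- the central involution -/
def z0 : C0 := el 1
/-- an involution in the class of six -/
def a0 : C0 := el 18
/-- an involution in the class of twelve -/
def b0 : C0 := el 32
/-- an outer involution -/
def r0 : C0 := el 2
/-- an element of order three -/
def x0 : C0 := el 44
/-- the number of the conjugacy class -/
def kd (x : C0) : ℕ := (kdTab >>> (4 * x.idx.val)) % 16
/-- number of fixed points -/
def fx (x : C0) : ℕ := (fxTab >>> (4 * x.idx.val)) % 16
/-- automorphism moving the roots of non-central involutions -/
def epsFun (x : C0) : C0 := ofNat' ((epsTab >>> (8 * x.idx.val)) % 256)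
/-- automorphism exchanging the two quaternion subgroups -/
def sigFun (x : C0) : C0 := ofNat' ((sigTab >>> (8 * x.idx.val)) % 256)

theorem word_induction {P : C0 → Prop} (h1 : P 1) (hA : ∀ x, P x → P (genA * x)) (hB : ∀ x, P x → P (genB * x))
    (x : C0) : P x := by
  suffices ∀ (n : ℕ) (x : C0), lenW x ≤ n → P x from this _ x le_rfl
  intro n
  induction n with
  | zero =>
    intro x hn
    rcases word_step x with rfl | ⟨-, h⟩
    · exact h1
    · omega
  | succ n ih =>
    intro x hn
    rcases word_step x with rfl | ⟨e, h⟩
    · exact h1
    · have e' : x = genW x * preW x := e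
      have hg : genW x = genA ∨ genW x = genB := by unfold genW; split <;> simp
      rw [e']
      rcases hg with hg | hg <;> rw [hg]
      · exact hA _ (ih _ (by omega))
      · exact hB _ (ih _ (by omega))

theorem hom_of_gen (f : C0 → C0) (h1 : f 1 = 1)
    (hA : ((List.range 192).all fun j => f (genA * el j) == f genA * f (el j)) = true)
    (hB : ((List.range 192).all fun j => f (genB * el j) == f genB * f (el j)) = true)
    (x y : C0) : f (x * y) = f x * f y := by
  have hA' : ∀ y, f (genA * y) = f genA * f y := fun y =>
    eq_of_beq (forall_of_all (p := fun y => f (genA * y) == f genA * f y) hA y)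
  have hB' : ∀ y, f (genB * y) = f genB * f y := fun y =>
    eq_of_beq (forall_of_all (p := fun y => f (genB * y) == f genB * f y) hB y)
  revert y
  refine word_induction (P := fun x => ∀ y, f (x * y) = f x * f y) ?_ ?_ ?_ x
  · intro y; rw [h1, one_mul, one_mul]
  · intro x hx y; rw [mul_assoc, hA', hx, hA', mul_assoc]
  · intro x hx y; rw [mul_assoc, hB', hx, hB', mul_assoc]

theorem epsFun_mul (x y : C0) : epsFun (x * y) = epsFun x * epsFun y :=
  hom_of_gen epsFun (by decide +kernel) (by decide +kernel) (by decide +kernel) x y

theorem fx_eq : ∀ x : C0, fx x = ((List.finRange 12).filter fun p => img x p == p).length := fun x => by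
  simpa using forall_of_all (p := fun x => fx x == ((List.finRange 12).filter fun p => img x p == p).length)
    (by decide +kernel) x

end C0

end Cfsg.Agent.MTwelve
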