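import Cfsg.Agent.Lib.Spor.MTwelve.ThreeChar

/-!
An elementary subgroup of order nine normalised by a quaternion group.
-/

set_option autoImplicit false
set_option linter.style.haveILetI false
set_option linter.unusedSectionVars false

namespace Cfsg.Agent.MTwelve

universe u

/-- in a group of odd exponent no element is conjugate to its inverse -/
theorem odd_not_inverted {G : Type u} [Group G] {v a : G} (hv : v ^ 27 = 1) (h : v * a * v⁻¹ = a⁻¹) : a = a⁻¹ := by
  have h2 : Commute (v * v) a := by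
    show v * v * a = a * (v * v)
    have e : v * a⁻¹ * v⁻¹ = a := by
      have := congrArg (·⁻¹) h
      simpa [mul_assoc] using this
    calc v * v * a = v * (v * a * v⁻¹) * v := by group
      _ = v * a⁻¹ * v⁻¹ * (v * v) := by rw [h]; group
      _ = a * (v * v) := by rw [e]
  have hv' : (v * v) ^ 14 = v := by
    rw [← sq, ← pow_mul, show 2 * 14 = 27 + 1 from rfl, pow_add, hv, one_mul, pow_one]
  have hc : Commute v a := hv' ▸ h2.pow_left 14
  rw [hc.eq, mul_inv_cancel_right] at h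
  exact h

theorem eq_one_of_inv_self {G : Type u} [Group G] {a : G} (h3 : a ^ 3 = 1) (h : a = a⁻¹) : a = 1 := by
  have h2 : a * a = 1 := by nth_rw 2 [h]; exact mul_inv_cancel a
  rwa [pow_succ, sq, h2, one_mul] at h3

/-- the form of an element of an abelian group of order nine -/
theorem pair_form {G : Type u} [Group G] [Finite G] {A : Subgroup G} (hA : Nat.card A = 9) {u v : G} (hu : u ∈ A)
    (hv : v ∈ A) (hu1 : u ≠ 1) (hvu : v ∉ Subgroup.zpowers u) :
    (∀ a ∈ A, ∀ b ∈ A, a * b = b * a) ∧ (∀ a ∈ A, ∃ k l : ℤ, a = u ^ k * v ^ l) := by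
  haveI : Fact (Nat.Prime 3) := ⟨Nat.prime_three⟩
  have hA2 : Nat.card A = 3 ^ 2 := by rw [hA]; norm_num
  have hc : ∀ p q : A, p * q = q * p := (IsPGroup.isMulCommutative_of_card_eq_prime_sq hA2).is_comm.comm
  refine ⟨fun a ha b hb => congrArg Subtype.val (hc ⟨a, ha⟩ ⟨b, hb⟩), fun a ha => ?_⟩
  letI : CommGroup A := { (inferInstance : Group A) with mul_comm := hc }
  let u' : A := ⟨u, hu⟩
  let v' : A := ⟨v, hv⟩
  have htop : Subgroup.zpowers u' ⊔ Subgroup.zpowers v' = ⊤ := by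
    refine Subgroup.eq_top_of_card_eq _ ?_
    have hlt : Subgroup.zpowers u' < Subgroup.zpowers u' ⊔ Subgroup.zpowers v' := by
      refine lt_of_le_of_ne le_sup_left fun e => hvu ?_
      obtain ⟨k, hk⟩ := Subgroup.mem_zpowers_iff.1
        (e ▸ Subgroup.mem_sup_right (Subgroup.mem_zpowers v') : v' ∈ Subgroup.zpowers u')
      exact Subgroup.mem_zpowers_iff.2 ⟨k, congrArg Subtype.val hk⟩
    have hlt' : Nat.card (Subgroup.zpowers u') < Nat.card ↥(Subgroup.zpowers u' ⊔ Subgroup.zpowers v') := by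
      by_contra hge
      exact hlt.ne (Subgroup.eq_of_le_of_card_ge hlt.le (not_lt.1 hge))
    have h1 : 1 < Nat.card (Subgroup.zpowers u') := by
      rw [Finite.one_lt_card_iff_nontrivial]
      exact ⟨⟨⟨u', Subgroup.mem_zpowers _⟩, 1, fun e => hu1 (congrArg Subtype.val (congrArg Subtype.val e))⟩⟩
    obtain ⟨i, -, hi⟩ := (Nat.dvd_prime_pow Nat.prime_three).1
      (hA2 ▸ Subgroup.card_subgroup_dvd_card (Subgroup.zpowers u'))
    obtain ⟨j, hj, hj'⟩ := (Nat.dvd_prime_pow Nat.prime_three).1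
      (hA2 ▸ Subgroup.card_subgroup_dvd_card (Subgroup.zpowers u' ⊔ Subgroup.zpowers v'))
    rw [hi] at h1 hlt'
    rw [hj'] at hlt'
    rw [hj', hA2]
    have hij := (Nat.pow_lt_pow_iff_right (by norm_num : 1 < 3)).1 hlt'
    have hi0 : i ≠ 0 := fun e => by rw [e] at h1; norm_num at h1
    rw [show j = 2 by omega]
  obtain ⟨p, hp, q, hq, e⟩ := Subgroup.mem_sup.1 (htop.ge (Subgroup.mem_top (⟨a, ha⟩ : A)))
  obtain ⟨k, rfl⟩ := Subgroup.mem_zpowers_iff.1 hp
  obtain ⟨l, rfl⟩ := Subgroup.mem_zpowers_iff.1 hq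
  exact ⟨k, l, (congrArg Subtype.val e).symm⟩

theorem dvd_cube {G : Type u} [Group G] [Finite G] {S A : Subgroup G} (hS : Nat.card S = 27) (h : A ≤ S) :
    Nat.card A ∣ 3 ^ 3 := by
  have := Subgroup.card_dvd_of_le h
  rwa [hS] at this

theorem nine_eq_sup {G : Type u} [Group G] [Finite G] {S : Subgroup G} (hS : Nat.card S = 27) {A B : Subgroup G}
    (hA : A ≤ S) (hB : B ≤ S) (hA9 : 9 ≤ Nat.card A) (hne : ¬ B ≤ A) : A ⊔ B = S := by
  refine Subgroup.eq_of_le_of_card_ge (sup_le hA hB) ?_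
  obtain ⟨j, hj, hj'⟩ := (Nat.dvd_prime_pow Nat.prime_three).1
    (dvd_cube hS (sup_le hA hB))
  have hlt : Nat.card A < Nat.card ↥(A ⊔ B) := by
    by_contra hge
    exact hne ((le_sup_right : B ≤ A ⊔ B).trans (Subgroup.eq_of_le_of_card_ge le_sup_left (not_lt.1 hge)).ge)
  rw [hS, hj']
  rw [hj'] at hlt
  interval_cases j <;> omega

namespace Frame

variable {G : Type u} [Group G] (F : Frame G)
variable [Finite G] [IsSimpleGroup G]

open C0

/-- the elements of the Sylow subgroup fixed by an inverting involution -/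
structure FixLine (S : Subgroup G) (j s : G) : Prop where
  card_S : Nat.card S = 27
  mem_S : ∀ g : G, g ∈ S ↔ g * F.xel = F.xel * g ∧ g ^ 27 = 1
  nonab : ∃ a ∈ S, ∃ b ∈ S, a * b ≠ b * a
  j_xel : j * F.xel * j⁻¹ = F.xel⁻¹
  j_sq : j * j = 1
  j_z : j * F.z = F.z * j
  s_mem : s ∈ S
  s_ne : s ≠ 1
  s_comm : s * j = j * s

theorem xel_mem {S : Subgroup G} (hm : ∀ g : G, g ∈ S ↔ g * F.xel = F.xel * g ∧ g ^ 27 = 1) : F.xel ∈ S :=
  (hm _).2 ⟨rfl, by rw [show 27 = 3 * 9 from rfl, pow_mul, ← F.xel_order, pow_orderOf_eq_one, one_pow]⟩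

theorem xel_cube : F.xel ^ 3 = 1 := by rw [← F.xel_order]; exact pow_orderOf_eq_one _

theorem xel_ne : F.xel ≠ 1 := fun e => by
  have := F.xel_order
  rw [e, orderOf_one] at this
  omega

theorem z_xel : F.z * F.xel = F.xel * F.z := (F.D.commute_z (repK 5)).symm

variable {F}

theorem FixLine.cube {S : Subgroup G} {j s : G} (h : F.FixLine S j s) {v : G} (hv : v ∈ S) : v ^ 3 = 1 := by
  by_cases h1 : v = 1
  · rw [h1, one_pow]
  · exact F.three_order ((h.mem_S v).1 hv).2 h1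

/-- elements of the Sylow subgroup commuting with the central involution -/
theorem FixLine.meet_z {S : Subgroup G} {j s : G} (h : F.FixLine S j s) {v : G} (hv : v ∈ S)
    (hz : v * F.z = F.z * v) : v ∈ Subgroup.zpowers F.xel := by
  obtain ⟨c, hc⟩ := F.D.exists_pre hz
  obtain ⟨hvx, h27⟩ := (h.mem_S v).1 hv
  rcases x0_cubed c (F.inj (by rw [map_mul, map_mul, hc]; exact hvx))
    (F.inj (by rw [map_pow, hc, h27, map_one])) with rfl | rfl | rfl
  · rw [← hc, map_one]; exact one_mem _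
  · rw [← hc]; exact Subgroup.mem_zpowers _
  · rw [← hc, map_inv]; exact inv_mem (Subgroup.mem_zpowers _)

theorem FixLine.not_X {S : Subgroup G} {j s : G} (h : F.FixLine S j s) {v : G} (hv : v * j = j * v)
    (hX : v ∈ Subgroup.zpowers F.xel) : v = 1 := by
  have e : j * v * j⁻¹ = v⁻¹ := by
    obtain ⟨k, rfl⟩ := Subgroup.mem_zpowers_iff.1 hX
    rw [show j * F.xel ^ k * j⁻¹ = MulAut.conj j (F.xel ^ k) from rfl, map_zpow, MulAut.conj_apply, h.j_xel, inv_zpow]
  rw [← hv, mul_inv_cancel_right] at e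
  obtain ⟨k, rfl⟩ := Subgroup.mem_zpowers_iff.1 hX
  refine eq_one_of_inv_self ?_ e
  rw [← zpow_natCast, ← zpow_mul, mul_comm, zpow_mul, zpow_natCast, F.xel_cube, one_zpow]

theorem FixLine.center {S : Subgroup G} {j s : G} (h : F.FixLine S j s) {A : Subgroup G} (hA : A ≤ S)
    (hA9 : 9 ≤ Nat.card A) {B : Subgroup G} (hB : B ≤ S) (hne : ¬ B ≤ A)
    (hab : ∀ a ∈ A, ∀ b ∈ A, a * b = b * a) (hbb : ∀ a ∈ B, ∀ b ∈ B, a * b = b * a)
    (hcomm : ∀ a ∈ A, ∀ b ∈ B, a * b = b * a) : False := by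
  have hsup := nine_eq_sup h.card_S hA hB hA9 hne
  have hA' : A ⊔ B ≤ Subgroup.centralizer (A : Set G) :=
    sup_le (fun a ha => Subgroup.mem_centralizer_iff.2 fun b hb => hab b hb a ha)
      (fun b hb => Subgroup.mem_centralizer_iff.2 fun a ha => hcomm a ha b hb)
  have hB' : A ⊔ B ≤ Subgroup.centralizer (B : Set G) :=
    sup_le (fun a ha => Subgroup.mem_centralizer_iff.2 fun b hb => (hcomm a ha b hb).symm)
      (fun b hb => Subgroup.mem_centralizer_iff.2 fun a ha => hbb a ha b hb)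
  obtain ⟨p, hp, q, hq, hpq⟩ := h.nonab
  rw [← hsup] at hp hq
  have : A ⊔ B ≤ Subgroup.centralizer ({p} : Set G) :=
    sup_le (fun a ha => Subgroup.mem_centralizer_singleton_iff.2 (Subgroup.mem_centralizer_iff.1 (hA' hp) a ha))
      (fun b hb => Subgroup.mem_centralizer_singleton_iff.2 (Subgroup.mem_centralizer_iff.1 (hB' hp) b hb))
  exact hpq (Subgroup.mem_centralizer_singleton_iff.1 (this hq)).symm

/-- only the powers of the fixed element are fixed, and the central involution inverts it -/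
theorem FixLine.fixed_inv {S : Subgroup G} {j s : G} (h : F.FixLine S j s) : F.z * s * F.z⁻¹ = s⁻¹ := by
  haveI : Fact (Nat.Prime 3) := ⟨Nat.prime_three⟩
  set R := S ⊓ Subgroup.centralizer ({j} : Set G) with hR
  have hsR : s ∈ R := ⟨h.s_mem, Subgroup.mem_centralizer_singleton_iff.2 h.s_comm⟩
  have hzS : F.z * s * F.z⁻¹ ∈ R := by
    obtain ⟨hc, h27⟩ := (h.mem_S s).1 h.s_mem
    refine ⟨(h.mem_S _).2 ⟨?_, by rw [conj_pow, h27, mul_one, mul_inv_cancel]⟩, ?_⟩
    · exact (((show Commute F.z F.xel from F.z_xel).mul_left hc).mul_left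
        (show Commute F.z F.xel from F.z_xel).inv_left).eq
    · show _ ∈ Subgroup.centralizer ({j} : Set G)
      rw [Subgroup.mem_centralizer_singleton_iff]
      exact ((((show Commute F.z j from h.j_z.symm)).mul_left h.s_comm).mul_left
        (show Commute F.z j from h.j_z.symm).inv_left).eq
  have hx : F.xel ∉ R := fun e => F.xel_ne
    (h.not_X (Subgroup.mem_centralizer_singleton_iff.1 e.2) (Subgroup.mem_zpowers _))
  have hcard : Nat.card R = 3 := by
    obtain ⟨i, hi, hi'⟩ := (Nat.dvd_prime_pow Nat.prime_three).1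
      (dvd_cube (A := R) h.card_S inf_le_left)
    have h1 : 1 < Nat.card R := by
      rw [Finite.one_lt_card_iff_nontrivial]
      exact ⟨⟨⟨s, hsR⟩, 1, fun e => h.s_ne (congrArg Subtype.val e)⟩⟩
    have hxS := F.xel_mem h.mem_S
    rcases (by omega : i = 0 ∨ i = 1 ∨ i = 2 ∨ i = 3) with rfl | rfl | rfl | rfl
    · rw [hi'] at h1; norm_num at h1
    · rw [hi', pow_one]
    · exfalso
      refine h.center (A := R) inf_le_left (by rw [hi']; norm_num) (B := Subgroup.zpowers F.xel)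
        (Subgroup.zpowers_le.2 hxS) (fun e => hx (e (Subgroup.mem_zpowers _))) (fun a ha b hb => ?_) ?_ ?_
      · exact congrArg Subtype.val ((IsPGroup.isMulCommutative_of_card_eq_prime_sq hi').is_comm.comm
          (⟨a, ha⟩ : R) ⟨b, hb⟩)
      · intro a ha b hb
        obtain ⟨k, rfl⟩ := Subgroup.mem_zpowers_iff.1 ha
        obtain ⟨l, rfl⟩ := Subgroup.mem_zpowers_iff.1 hb
        rw [← zpow_add, ← zpow_add, add_comm]
      · intro a ha b hb
        obtain ⟨l, rfl⟩ := Subgroup.mem_zpowers_iff.1 hb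
        exact ((show Commute a F.xel from ((h.mem_S a).1 ha.1).1).zpow_right l).eq
    · exfalso
      refine hx ?_
      exact (Subgroup.eq_of_le_of_card_ge (H := R) (K := S) inf_le_left (by rw [hi', h.card_S]; norm_num)).ge hxS
  have hs3 := h.cube h.s_mem
  have hso : orderOf s = 3 := orderOf_eq_prime_iff.2 ⟨hs3, h.s_ne⟩
  have hRz : Subgroup.zpowers s = R := Subgroup.eq_of_le_of_card_ge (Subgroup.zpowers_le.2 hsR)
    (by rw [hcard, Nat.card_zpowers, hso])
  rw [← hRz] at hzS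
  obtain ⟨k, hk⟩ := Subgroup.mem_zpowers_iff.1 hzS
  have hk' := zpow_mod_orderOf s k
  rw [hso] at hk'
  have h0 := Int.emod_nonneg k (show (3 : ℤ) ≠ 0 by norm_num)
  have h3 := Int.emod_lt_of_pos k (show (0 : ℤ) < 3 by norm_num)
  push_cast at hk'
  rcases (by omega : k % 3 = 0 ∨ k % 3 = 1 ∨ k % 3 = 2) with e | e | e <;> rw [e] at hk' <;>
    rw [← hk, ← hk']
  · exfalso
    rw [← hk', zpow_zero] at hk
    exact h.s_ne (by
      calc s = F.z⁻¹ * (F.z * s * F.z⁻¹) * F.z := by group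
        _ = 1 := by rw [← hk]; group)
  · exfalso
    rw [← hk', zpow_one] at hk
    exact h.s_ne (h.not_X h.s_comm (h.meet_z h.s_mem (mul_inv_eq_iff_eq_mul.1 hk.symm).symm))
  · rw [show (2 : ℤ) = ((2 : ℕ) : ℤ) from rfl, zpow_natCast]
    exact eq_inv_of_mul_eq_one_left (by rw [← pow_succ]; exact hs3)

/-- the subgroup of order nine belonging to a fixed element -/
def line (S : Subgroup G) (s : G) : Subgroup G := S ⊓ Subgroup.centralizer ({s} : Set G)

theorem FixLine.s_not_X {S : Subgroup G} {j s : G} (h : F.FixLine S j s) : s ∉ Subgroup.zpowers F.xel :=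
  fun e => h.s_ne (h.not_X h.s_comm e)

theorem FixLine.line_card {S : Subgroup G} {j s : G} (h : F.FixLine S j s) :
    Nat.card (line S s) = 9 ∧ F.xel ∈ line S s ∧ s ∈ line S s := by
  have hxS := F.xel_mem h.mem_S
  have hx : F.xel ∈ line S s :=
    ⟨hxS, Subgroup.mem_centralizer_singleton_iff.2 (((h.mem_S s).1 h.s_mem).1).symm⟩
  have hs : s ∈ line S s := ⟨h.s_mem, Subgroup.mem_centralizer_singleton_iff.2 rfl⟩
  refine ⟨?_, hx, hs⟩
  obtain ⟨i, hi, hi'⟩ := (Nat.dvd_prime_pow Nat.prime_three).1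
    (dvd_cube (A := line S s) h.card_S inf_le_left)
  have hxo : Nat.card (Subgroup.zpowers F.xel) = 3 := by rw [Nat.card_zpowers, F.xel_order]
  have hlt : 3 < Nat.card (line S s) := by
    rw [← hxo]
    by_contra hge
    exact h.s_not_X (Subgroup.eq_of_le_of_card_ge (Subgroup.zpowers_le.2 hx) (not_lt.1 hge) ▸ hs)
  rw [hi'] at hlt ⊢
  rcases (by omega : i = 0 ∨ i = 1 ∨ i = 2 ∨ i = 3) with rfl | rfl | rfl | rfl
  · norm_num at hlt
  · norm_num at hlt
  · norm_num
  · exfalso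
    have htop : line S s = S := Subgroup.eq_of_le_of_card_ge inf_le_left (by rw [hi', h.card_S]; norm_num)
    let A := Subgroup.zpowers F.xel ⊔ Subgroup.zpowers s
    have hA : A ≤ S := sup_le (Subgroup.zpowers_le.2 hxS) (Subgroup.zpowers_le.2 h.s_mem)
    have hcent : ∀ a ∈ S, ∀ b ∈ A, a * b = b * a := by
      intro a ha b hb
      have : A ≤ Subgroup.centralizer ({a} : Set G) := sup_le
        (Subgroup.zpowers_le.2 (Subgroup.mem_centralizer_singleton_iff.2 ((h.mem_S a).1 ha).1.symm))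
        (Subgroup.zpowers_le.2 (Subgroup.mem_centralizer_singleton_iff.2 (by
          have ha' : a ∈ line S s := htop.symm ▸ ha
          exact (Subgroup.mem_centralizer_singleton_iff.1 ha'.2).symm)))
      exact (Subgroup.mem_centralizer_singleton_iff.1 (this hb)).symm
    have hA9 : 9 ≤ Nat.card A := by
      obtain ⟨m, hm, hm'⟩ := (Nat.dvd_prime_pow Nat.prime_three).1
        (dvd_cube h.card_S hA)
      have h3A : 3 < Nat.card A := by
        rw [← hxo]
        by_contra hge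
        exact h.s_not_X (Subgroup.eq_of_le_of_card_ge (le_sup_left : _ ≤ A) (not_lt.1 hge) ▸
          Subgroup.mem_sup_right (Subgroup.mem_zpowers s))
      rw [hm'] at h3A ⊢
      interval_cases m <;> omega
    by_cases hne : S ≤ A
    · obtain ⟨p, hp, q, hq, hpq⟩ := h.nonab
      exact hpq (hcent p hp q (hne hq))
    · obtain ⟨v, hv, hvA⟩ := SetLike.not_le_iff_exists.1 hne
      refine h.center hA hA9 (B := Subgroup.zpowers v) (Subgroup.zpowers_le.2 hv)
        (fun e => hvA (e (Subgroup.mem_zpowers v))) (fun a ha b hb => hcent a (hA ha) b hb) ?_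
        (fun a ha b hb => (hcent b (Subgroup.zpowers_le.2 hv hb) a ha).symm)
      intro a ha b hb
      obtain ⟨k, rfl⟩ := Subgroup.mem_zpowers_iff.1 ha
      obtain ⟨l, rfl⟩ := Subgroup.mem_zpowers_iff.1 hb
      rw [← zpow_add, ← zpow_add, add_comm]

theorem FixLine.line_form {S : Subgroup G} {j s : G} (h : F.FixLine S j s) :
    (∀ a ∈ line S s, ∀ b ∈ line S s, a * b = b * a) ∧ (∀ a ∈ line S s, ∃ k l : ℤ, a = F.xel ^ k * s ^ l) := by
  obtain ⟨hc, hx, hs⟩ := h.line_card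
  exact pair_form hc hx hs F.xel_ne h.s_not_X

theorem FixLine.line_inv {S : Subgroup G} {j s : G} (h : F.FixLine S j s) :
    ∀ a ∈ line S s, j * F.z * a * (j * F.z)⁻¹ = a⁻¹ := by
  intro a ha
  obtain ⟨k, l, rfl⟩ := h.line_form.2 a ha
  obtain ⟨-, hx, hs⟩ := h.line_card
  have ex : j * F.z * F.xel * (j * F.z)⁻¹ = F.xel⁻¹ := by
    calc j * F.z * F.xel * (j * F.z)⁻¹ = j * (F.z * F.xel * F.z⁻¹) * j⁻¹ := by group
      _ = F.xel⁻¹ := by rw [F.z_xel, mul_inv_cancel_right, h.j_xel]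
  have es : j * F.z * s * (j * F.z)⁻¹ = s⁻¹ := by
    calc j * F.z * s * (j * F.z)⁻¹ = j * (F.z * s * F.z⁻¹) * j⁻¹ := by group
      _ = s⁻¹ := by rw [h.fixed_inv, ← ((show Commute s j from h.s_comm).inv_left).eq, mul_inv_cancel_right]
  show MulAut.conj (j * F.z) (F.xel ^ k * s ^ l) = _
  rw [map_mul, map_zpow, map_zpow, MulAut.conj_apply, MulAut.conj_apply, ex, es, mul_inv_rev, inv_zpow, inv_zpow]
  exact h.line_form.1 _ (inv_mem (zpow_mem hx k)) _ (inv_mem (zpow_mem hs l))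

theorem FixLine.z_conj_line {S : Subgroup G} {j s : G} (h : F.FixLine S j s) :
    ∀ a ∈ line S s, F.z * a * F.z⁻¹ ∈ line S s := by
  intro a ha
  obtain ⟨k, l, rfl⟩ := h.line_form.2 a ha
  obtain ⟨-, hx, hs⟩ := h.line_card
  show MulAut.conj F.z (F.xel ^ k * s ^ l) ∈ _
  rw [map_mul, map_zpow, map_zpow, MulAut.conj_apply, MulAut.conj_apply, h.fixed_inv, F.z_xel, mul_inv_cancel_right]
  exact mul_mem (zpow_mem hx k) (zpow_mem (inv_mem hs) l)

theorem FixLine.S_normalizes {S : Subgroup G} {j s : G} (h : F.FixLine S j s) :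
    ∀ v ∈ S, ∀ a ∈ line S s, v * a * v⁻¹ ∈ line S s := by
  haveI : Fact (Nat.Prime 3) := ⟨Nat.prime_three⟩
  intro v hv a ha
  have hi : ((line S s).subgroupOf S).index = 3 := by
    have := Subgroup.card_mul_index ((line S s).subgroupOf S)
    rw [Nat.card_congr (Subgroup.subgroupOfEquivOfLe (show line S s ≤ S from inf_le_left)).toEquiv, h.line_card.1,
      h.card_S] at this
    omega
  have hn : ((line S s).subgroupOf S).Normal := Subgroup.normal_of_index_eq_minFac_card (by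
    rw [hi, h.card_S]; norm_num)
  exact Subgroup.mem_subgroupOf.1 (hn.conj_mem (⟨a, ha.1⟩ : S) (Subgroup.mem_subgroupOf.2 ha) ⟨v, hv⟩)

variable (F)

/-- The inverted elements of the Sylow subgroup. -/
theorem inverted_mem {S : Subgroup G} {j s j' t : G} (h : F.FixLine S j s) (h' : F.FixLine S j' t)
    (hjj : j' = j * F.z) {v : G} (hv : v ∈ S) (hinv : j' * v * j'⁻¹ = v⁻¹) : v ∈ line S s := by
  have htline : t ∉ line S s := fun e => by
    have h1 := h.line_inv t e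
    rw [← hjj, ← h'.s_comm, mul_inv_cancel_right] at h1
    exact h'.s_ne (eq_one_of_inv_self (h.cube h'.s_mem) h1)
  have hto : orderOf t = 3 := orderOf_eq_prime_iff.2 ⟨h.cube h'.s_mem, h'.s_ne⟩
  have hmeet : ∀ b : G, b ∈ line S s → b ∈ Subgroup.zpowers t → b = 1 := by
    intro b hb hb'
    by_contra hb1
    rcases three_elems (h.cube h'.s_mem) hb' with e | e | e
    · exact hb1 e
    · exact htline (e ▸ hb)
    · exact htline (by simpa using inv_mem (e ▸ hb : t⁻¹ ∈ line S s))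
  let φ : line S s × Subgroup.zpowers t → S := fun p => ⟨p.1.1 * p.2.1,
    mul_mem p.1.2.1 (Subgroup.zpowers_le.2 h'.s_mem p.2.2)⟩
  have hφ : Function.Injective φ := by
    rintro ⟨a, b⟩ ⟨a', b'⟩ e
    have e' : (a : G) * b = a' * b' := congrArg Subtype.val e
    have e2 : (a' : G)⁻¹ * a = b' * (b : G)⁻¹ := by
      calc (a' : G)⁻¹ * a = (a' : G)⁻¹ * (a * b) * (b : G)⁻¹ := by group
        _ = _ := by rw [e']; group
    have h1 := hmeet _ (mul_mem (inv_mem a'.2) a.2) (e2 ▸ mul_mem b'.2 (inv_mem b.2))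
    have ha : a' = a := Subtype.ext (inv_mul_eq_one.1 h1)
    subst ha
    exact Prod.ext rfl (Subtype.ext (mul_left_cancel e'))
  have hsurj : Function.Surjective φ := by
    haveI := Fintype.ofFinite S
    haveI := Fintype.ofFinite (line S s × Subgroup.zpowers t)
    refine ((Fintype.bijective_iff_injective_and_card φ).2 ⟨hφ, ?_⟩).2
    rw [← Nat.card_eq_fintype_card, ← Nat.card_eq_fintype_card, Nat.card_prod, h.line_card.1, Nat.card_zpowers,
      hto, h.card_S]
  obtain ⟨⟨⟨m, hm⟩, ⟨b, hb⟩⟩, e⟩ := hsurj ⟨v, hv⟩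
  obtain rfl : m * b = v := congrArg Subtype.val e
  have hbj : j' * b * j'⁻¹ = b := by
    obtain ⟨k, rfl⟩ := Subgroup.mem_zpowers_iff.1 hb
    rw [← ((show Commute t j' from h'.s_comm).zpow_left k).eq, mul_inv_cancel_right]
  have hmj : j' * m * j'⁻¹ = m⁻¹ := by rw [hjj]; exact h.line_inv m hm
  have hsplit : j' * (m * b) * j'⁻¹ = m⁻¹ * b := by
    calc j' * (m * b) * j'⁻¹ = j' * m * j'⁻¹ * (j' * b * j'⁻¹) := by group
      _ = _ := by rw [hmj, hbj]
  rw [hsplit] at hinv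
  have hconj : m⁻¹ * b * m⁻¹⁻¹ = b⁻¹ := by
    calc m⁻¹ * b * m⁻¹⁻¹ = m⁻¹ * b * m := by group
      _ = (m * b)⁻¹ * m := by rw [hinv]
      _ = _ := by group
  have hbS : b ∈ S := Subgroup.zpowers_le.2 h'.s_mem hb
  have hb1 : b = 1 := eq_one_of_inv_self (h.cube hbS)
    (odd_not_inverted (((h.mem_S _).1 (inv_mem hm.1)).2) hconj)
  rw [hb1, mul_one]
  exact hm

theorem cent_xel_split {S : Subgroup G} {j s : G} (h : F.FixLine S j s) {c : G} (hc : c * F.xel = F.xel * c) :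
    c ∈ S ∨ c * F.z ∈ S := by
  set C := Subgroup.centralizer ({F.xel} : Set G) with hC
  have hle : S ≤ C := fun a ha => Subgroup.mem_centralizer_singleton_iff.2 ((h.mem_S a).1 ha).1
  have hidx : (S.subgroupOf C).index = 2 := by
    have := Subgroup.card_mul_index (S.subgroupOf C)
    rw [Nat.card_congr (Subgroup.subgroupOfEquivOfLe hle).toEquiv, h.card_S, F.card_xel] at this
    omega
  have hzC : F.z ∈ C := Subgroup.mem_centralizer_singleton_iff.2 F.z_xel
  have hzn : F.z ∉ S := fun e => by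
    have h27 := ((h.mem_S _).1 e).2
    rw [show (27 : ℕ) = 2 * 13 + 1 from rfl, pow_succ, pow_mul, sq, F.D.z_sq, one_pow, one_mul] at h27
    exact F.D.z_ne h27
  by_cases hcS : c ∈ S
  · exact Or.inl hcS
  right
  have := (Subgroup.mul_mem_iff_of_index_two hidx
    (a := (⟨c, Subgroup.mem_centralizer_singleton_iff.2 hc⟩ : C)) (b := ⟨F.z, hzC⟩)).2
    ⟨fun e => absurd (Subgroup.mem_subgroupOf.1 e) hcS, fun e => absurd (Subgroup.mem_subgroupOf.1 e) hzn⟩
  exact Subgroup.mem_subgroupOf.1 this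

theorem rz_facts : F.rel * F.z * F.xel * (F.rel * F.z)⁻¹ = F.xel⁻¹ ∧
    F.rel * F.z * (F.rel * F.z) = 1 ∧ F.rel * F.z * F.z = F.rel := by
  refine ⟨?_, ?_, by rw [mul_assoc, F.D.z_sq, mul_one]⟩
  · calc F.rel * F.z * F.xel * (F.rel * F.z)⁻¹ = F.rel * (F.z * F.xel * F.z⁻¹) * F.rel⁻¹ := by group
      _ = F.xel⁻¹ := by rw [F.z_xel, mul_inv_cancel_right, F.rel_xel]
  · rw [mul_assoc, ← mul_assoc F.z, ← F.rel_z, mul_assoc F.rel, F.D.z_sq, mul_one, F.rel_sq]

/-- the fixed element and its inverse reach every element of the line outside the centre -/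
theorem reach {S : Subgroup G} {s₁ s₂ : G} (hd : F.ThreeData S s₁ s₂) (h₁ : F.FixLine S F.rel s₁) :
    ∀ b ∈ line S s₁, b ∉ Subgroup.zpowers F.xel →
      ∃ k : ℕ, s₂ ^ k * s₁ * (s₂ ^ k)⁻¹ = b ∨ s₂ ^ k * s₁⁻¹ * (s₂ ^ k)⁻¹ = b := by
  classical
  intro b hb hbX
  obtain ⟨hEc, hxE, hs1E⟩ := h₁.line_card
  set E := line S s₁ with hE
  set i := F.rel * F.z with hi
  have hiinv : ∀ a ∈ E, i * a * i⁻¹ = a⁻¹ := h₁.line_inv
  have hs2n : ∀ k : ℕ, ∀ a ∈ E, s₂ ^ k * a * (s₂ ^ k)⁻¹ ∈ E := fun k =>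
    h₁.S_normalizes _ (pow_mem hd.s₂_mem k)
  let f : Fin 3 × Bool → {a : E // (a : G) ∉ Subgroup.zpowers F.xel} := fun p =>
    ⟨⟨s₂ ^ (p.1 : ℕ) * (if p.2 then s₁ else s₁⁻¹) * (s₂ ^ (p.1 : ℕ))⁻¹,
      hs2n _ _ (by split_ifs; exacts [hs1E, inv_mem hs1E])⟩, fun e' => by
      obtain ⟨m, hm⟩ := Subgroup.mem_zpowers_iff.1 e'
      have hc : Commute (s₂ ^ (p.1 : ℕ)) (F.xel ^ m) :=
        ((show Commute s₂ F.xel from ((hd.mem_S _).1 hd.s₂_mem).1).pow_left _).zpow_right m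
      have e2 : (if p.2 then s₁ else s₁⁻¹) = F.xel ^ m := by
        calc (if p.2 then s₁ else s₁⁻¹) = (s₂ ^ (p.1 : ℕ))⁻¹ *
              (s₂ ^ (p.1 : ℕ) * (if p.2 then s₁ else s₁⁻¹) * (s₂ ^ (p.1 : ℕ))⁻¹) * s₂ ^ (p.1 : ℕ) := by group
          _ = (s₂ ^ (p.1 : ℕ))⁻¹ * (F.xel ^ m * s₂ ^ (p.1 : ℕ)) := by
            simp only at hm
            rw [← hm, mul_assoc]
          _ = F.xel ^ m := by rw [← hc.eq, inv_mul_cancel_left]
      have hmem : (if p.2 then s₁ else s₁⁻¹) ∈ Subgroup.zpowers F.xel := e2 ▸ ⟨m, rfl⟩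
      split_ifs at hmem
      · exact h₁.s_not_X hmem
      · exact h₁.s_not_X (by simpa using inv_mem hmem)⟩
  have hf : Function.Injective f := by
    rintro ⟨a, p⟩ ⟨a', p'⟩ e'
    have e2 : s₂ ^ (a : ℕ) * (if p then s₁ else s₁⁻¹) * (s₂ ^ (a : ℕ))⁻¹ =
        s₂ ^ (a' : ℕ) * (if p' then s₁ else s₁⁻¹) * (s₂ ^ (a' : ℕ))⁻¹ :=
      congrArg (fun q => ((q.1 : E) : G)) e'
    have hv : ((s₂ ^ (a' : ℕ))⁻¹ * s₂ ^ (a : ℕ)) * (if p then s₁ else s₁⁻¹) *
        ((s₂ ^ (a' : ℕ))⁻¹ * s₂ ^ (a : ℕ))⁻¹ = if p' then s₁ else s₁⁻¹ := by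
      calc _ = (s₂ ^ (a' : ℕ))⁻¹ * (s₂ ^ (a : ℕ) * (if p then s₁ else s₁⁻¹) * (s₂ ^ (a : ℕ))⁻¹) *
            s₂ ^ (a' : ℕ) := by group
        _ = _ := by rw [e2]; group
    set w := (s₂ ^ (a' : ℕ))⁻¹ * s₂ ^ (a : ℕ) with hw
    have hwS : w ∈ S := mul_mem (inv_mem (pow_mem hd.s₂_mem _)) (pow_mem hd.s₂_mem _)
    have hw27 := ((hd.mem_S w).1 hwS).2
    have hns : s₁ ≠ s₁⁻¹ := fun e'' => hd.s₁_ne (eq_one_of_inv_self (h₁.cube hd.s₁_mem) e'')
    obtain rfl : p = p' := by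
      cases p <;> cases p'
      · rfl
      · exfalso
        simp only [Bool.false_eq_true, if_false, if_true] at hv
        exact hns (by
          have := odd_not_inverted hw27 (a := s₁⁻¹) (by rw [inv_inv]; exact hv)
          simpa using this.symm)
      · exfalso
        simp only [Bool.false_eq_true, if_false, if_true] at hv
        exact hns (odd_not_inverted hw27 hv)
      · rfl
    have hwc : w * s₁ = s₁ * w := by
      cases p
      · simp only [Bool.false_eq_true, if_false] at hv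
        have := congrArg (·⁻¹) hv
        simp only [mul_inv_rev, inv_inv, ← mul_assoc] at this
        exact mul_inv_eq_iff_eq_mul.1 this
      · simp only [if_true] at hv
        exact mul_inv_eq_iff_eq_mul.1 hv
    have hwE : w ∈ E := ⟨hwS, Subgroup.mem_centralizer_singleton_iff.2 hwc⟩
    have hwi : w * i = i * w :=
      (((show Commute s₂ i from hd.s₂_comm).pow_left _).inv_left.mul_left
        ((show Commute s₂ i from hd.s₂_comm).pow_left _)).eq
    have hw1 : w = 1 := by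
      have h1 := hiinv w hwE
      rw [← hwi, mul_inv_cancel_right] at h1
      exact eq_one_of_inv_self (h₁.cube hwS) h1
    have hpow : s₂ ^ (a' : ℕ) = s₂ ^ (a : ℕ) := inv_mul_eq_one.1 hw1
    have ho : orderOf s₂ = 3 := orderOf_eq_prime_iff.2 ⟨h₁.cube hd.s₂_mem, hd.s₂_ne⟩
    have := pow_injOn_Iio_orderOf (x := s₂) (by rw [ho]; exact a'.isLt) (by rw [ho]; exact a.isLt) hpow
    exact Prod.ext (Fin.ext this.symm) rfl
  have hcard : Nat.card {a : E // (a : G) ∉ Subgroup.zpowers F.xel} = 6 := by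
    haveI := Fintype.ofFinite E
    rw [Nat.card_eq_fintype_card, Fintype.card_subtype_compl, ← Nat.card_eq_fintype_card,
      ← Nat.card_eq_fintype_card, hEc]
    have : Nat.card {a : E // (a : G) ∈ Subgroup.zpowers F.xel} = 3 := by
      rw [← F.xel_order, ← Nat.card_zpowers]
      exact Nat.card_congr ⟨fun a => ⟨a.1.1, a.2⟩,
        fun a => ⟨⟨a.1, Subgroup.zpowers_le.2 hxE a.2⟩, a.2⟩, fun a => rfl, fun a => rfl⟩
    rw [this]
  have hsurj : Function.Surjective f := by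
    haveI := Fintype.ofFinite {a : E // (a : G) ∉ Subgroup.zpowers F.xel}
    refine ((Fintype.bijective_iff_injective_and_card f).2 ⟨hf, ?_⟩).2
    rw [← Nat.card_eq_fintype_card (α := {a : E // (a : G) ∉ Subgroup.zpowers F.xel}), hcard]
    rfl
  obtain ⟨⟨a, p⟩, hap⟩ := hsurj ⟨⟨b, hb⟩, hbX⟩
  have := congrArg (fun q => ((q.1 : E) : G)) hap
  refine ⟨a, ?_⟩
  cases p
  · exact Or.inr this
  · exact Or.inl this

/-- The subgroup of order nine with two roots of the inverting involution. -/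
theorem exists_roots : ∃ (E : Subgroup G) (i q₁ q₂ : G), IsConj F.z i ∧ Nat.card E = 9 ∧
    (∀ a ∈ E, a ^ 3 = 1) ∧ (∀ a ∈ E, i * a * i⁻¹ = a⁻¹) ∧ (∀ a ∈ E, ∃ k, IsConj F.z k ∧ a * k = k * a) ∧
    q₁ * q₁ = i ∧ q₂ * q₂ = i ∧ q₁ * q₂ ≠ q₂ * q₁ ∧
    ∀ a ∈ E, q₁ * a * q₁⁻¹ ∈ E ∧ q₂ * a * q₂⁻¹ ∈ E := by
  classical
  haveI : Fact (Nat.Prime 3) := ⟨Nat.prime_three⟩
  obtain ⟨S, s₁, s₂, hd⟩ := F.exists_data
  obtain ⟨hrz_x, hrz_sq, hrz_z⟩ := F.rz_facts
  have h₁ : F.FixLine S F.rel s₁ :=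
    ⟨hd.card_S, hd.mem_S, hd.nonabelian, F.rel_xel, F.rel_sq, F.rel_z, hd.s₁_mem, hd.s₁_ne, hd.s₁_comm⟩
  have h₂ : F.FixLine S (F.rel * F.z) s₂ :=
    ⟨hd.card_S, hd.mem_S, hd.nonabelian, hrz_x, hrz_sq, ((show Commute F.rel F.z from F.rel_z).mul_left (Commute.refl _)).eq,
      hd.s₂_mem, hd.s₂_ne, hd.s₂_comm⟩
  obtain ⟨hEc, hxE, hs1E⟩ := h₁.line_card
  obtain ⟨hEab, hEform⟩ := h₁.line_form
  set E := line S s₁ with hE
  set i := F.rel * F.z with hi
  have hiinv : ∀ a ∈ E, i * a * i⁻¹ = a⁻¹ := h₁.line_inv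
  have hiz : IsConj F.z i := F.isConj_rel.2
  have hi_inv : i⁻¹ = i := inv_eq_of_mul_eq_one_right hrz_sq
  have hs2E : s₂ ∉ E := fun e => by
    have h1 := hiinv s₂ e
    rw [← hd.s₂_comm, mul_inv_cancel_right] at h1
    exact hd.s₂_ne (eq_one_of_inv_self (h₁.cube hd.s₂_mem) h1)
  have hs2n : ∀ k : ℕ, ∀ a ∈ E, s₂ ^ k * a * (s₂ ^ k)⁻¹ ∈ E := fun k =>
    h₁.S_normalizes _ (pow_mem hd.s₂_mem k)
  -- transitivity
  have htrans : ∀ e ∈ E, e ≠ 1 → ∃ n : G, n * F.xel * n⁻¹ = e ∧ n * i = i * n ∧ ∀ a ∈ E, n * a * n⁻¹ ∈ E := by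
    intro e he he1
    have hex : IsConj F.xel e := by
      by_cases hX : e ∈ Subgroup.zpowers F.xel
      · exact F.three_X (h₁.cube he.1) he1 (IsConj.refl _) (by
          obtain ⟨k, rfl⟩ := Subgroup.mem_zpowers_iff.1 hX
          exact ((show Commute F.z F.xel from F.z_xel).zpow_right k).eq.symm)
      · -- conjugating the fixed element reaches the coset
        obtain ⟨m, hm⟩ := F.reach hd h₁ e he hX
        rcases hm with hm | hm
        · exact (F.three_X (h₁.cube hd.s₁_mem) hd.s₁_ne F.isConj_rel.1 hd.s₁_comm).trans (isConj_iff.2 ⟨_, hm⟩)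
        · exact (F.three_X (h₁.cube (inv_mem hd.s₁_mem)) (inv_ne_one.2 hd.s₁_ne) F.isConj_rel.1
            ((show Commute s₁ F.rel from hd.s₁_comm).inv_left).eq).trans (isConj_iff.2 ⟨_, hm⟩)
    obtain ⟨g, hg⟩ := isConj_iff.1 hex
    set i' := g⁻¹ * i * g with hi'
    have hi'sq : i' * i' = 1 := by
      rw [hi', show g⁻¹ * i * g * (g⁻¹ * i * g) = g⁻¹ * (i * i) * g by group, hrz_sq]; group
    have hi'x : i' * F.xel * i'⁻¹ = F.xel⁻¹ := by
      have e1 := hiinv e he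
      rw [← hg] at e1
      calc i' * F.xel * i'⁻¹ = g⁻¹ * (i * (g * F.xel * g⁻¹) * i⁻¹) * g := by rw [hi']; group
        _ = _ := by rw [e1]; group
    have hc : i' * F.rel * F.xel = F.xel * (i' * F.rel) := by
      have e1 : F.rel * F.xel = F.xel⁻¹ * F.rel := mul_inv_eq_iff_eq_mul.1 F.rel_xel
      have e2 : i' * F.xel⁻¹ = F.xel * i' := by
        have := congrArg (·⁻¹) hi'x
        simp only [mul_inv_rev, inv_inv, ← mul_assoc] at this
        exact mul_inv_eq_iff_eq_mul.1 this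
      rw [mul_assoc, e1, ← mul_assoc, e2, mul_assoc]
    have hrinv : F.rel * F.rel = 1 := F.rel_sq
    -- replace the involution by one of the two standard ones
    obtain ⟨v, hv, j, hjdef, hvj⟩ : ∃ v ∈ S, ∃ j, (j = F.rel ∨ j = i) ∧ i' = v * j := by
      rcases F.cent_xel_split h₁ hc with hcS | hcS
      · exact ⟨_, hcS, F.rel, Or.inl rfl, by rw [mul_assoc, hrinv, mul_one]⟩
      · refine ⟨_, hcS, i, Or.inr rfl, ?_⟩
        rw [mul_assoc (i' * F.rel), ← mul_assoc F.z, ← F.rel_z, mul_assoc F.rel, F.D.z_sq, mul_one, mul_assoc,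
          hrinv, mul_one]
    have hjsq : j * j = 1 := by rcases hjdef with rfl | rfl; exacts [hrinv, hrz_sq]
    have hjinv : j⁻¹ = j := inv_eq_of_mul_eq_one_right hjsq
    set w := v ^ 14 with hw
    have hwS : w ∈ S := pow_mem hv 14
    have hvinv : j * v * j⁻¹ = v⁻¹ := by
      rw [hjinv]
      refine eq_inv_of_mul_eq_one_right ?_
      have := hi'sq
      rw [hvj] at this
      simpa [mul_assoc] using this
    have hwj : w * j * w⁻¹ = i' := by
      have e1 : j * w⁻¹ * j⁻¹ = w := by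
        rw [show j * w⁻¹ * j⁻¹ = MulAut.conj j w⁻¹ from rfl, map_inv, hw, map_pow, MulAut.conj_apply, hvinv,
          inv_pow, inv_inv]
      calc w * j * w⁻¹ = w * (j * w⁻¹ * j⁻¹) * j := by group
        _ = w * w * j := by rw [e1]
        _ = i' := by rw [hw, ← pow_add, show 14 + 14 = 27 + 1 from rfl, pow_add, ((hd.mem_S v).1 hv).2, one_mul,
            pow_one, hvj]
    set n := g * w with hn
    have hwx : w * F.xel = F.xel * w := ((hd.mem_S w).1 hwS).1
    have hnx : n * F.xel * n⁻¹ = e := by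
      rw [hn, ← hg]
      calc g * w * F.xel * (g * w)⁻¹ = g * (w * F.xel) * w⁻¹ * g⁻¹ := by group
        _ = g * (F.xel * w) * w⁻¹ * g⁻¹ := by rw [hwx]
        _ = _ := by group
    have hnj : n * j * n⁻¹ = i := by
      calc n * j * n⁻¹ = g * (w * j * w⁻¹) * g⁻¹ := by rw [hn]; group
        _ = i := by rw [hwj, hi']; group
    -- the preimage of the subgroup
    have hsub : ∀ a ∈ E, n⁻¹ * a * n ∈ S ∧ j * (n⁻¹ * a * n) * j⁻¹ = (n⁻¹ * a * n)⁻¹ := by
      intro a ha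
      refine ⟨(hd.mem_S _).2 ⟨?_, ?_⟩, ?_⟩
      · have hae := hEab a ha e he
        rw [← hnx] at hae
        calc n⁻¹ * a * n * F.xel = n⁻¹ * (a * (n * F.xel * n⁻¹)) * n := by group
          _ = n⁻¹ * (n * F.xel * n⁻¹ * a) * n := by rw [hae]
          _ = _ := by group
      · rw [show n⁻¹ * a * n = MulAut.conj n⁻¹ a by simp, ← map_pow, ((hd.mem_S a).1 ha.1).2, map_one]
      · have e1 := hiinv a ha
        rw [← hnj] at e1
        calc j * (n⁻¹ * a * n) * j⁻¹ = n⁻¹ * (n * j * n⁻¹ * a * (n * j * n⁻¹)⁻¹) * n := by group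
          _ = _ := by rw [e1]; group
    rcases hjdef with hj | hj
    · exfalso
      subst j
      let M := line S s₂
      have hM : ∀ a ∈ E, n⁻¹ * a * n ∈ M := fun a ha =>
        F.inverted_mem h₂ h₁ hrz_z.symm (hsub a ha).1 (hsub a ha).2
      have hmapM : M.map (MulAut.conj n).toMonoidHom = E := by
        have hle : E ≤ M.map (MulAut.conj n).toMonoidHom := fun a ha => ⟨_, hM a ha, by
          show n * (n⁻¹ * a * n) * n⁻¹ = a
          group⟩
        refine (Subgroup.eq_of_le_of_card_ge hle ?_).symm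
        rw [Subgroup.card_map_of_injective (MulEquiv.injective _), h₂.line_card.1, hEc]
      -- both conjugates of the Sylow subgroup normalise the subgroup
      have hf : (Nat.card G).factorization 3 = 3 := by
        rw [F.card_eq, show (95040 : ℕ) = 3 ^ 3 * 3520 by norm_num,
          Nat.factorization_mul (by norm_num) (by norm_num), Finsupp.add_apply,
          Nat.Prime.factorization_pow Nat.prime_three, Finsupp.single_eq_same,
          Nat.factorization_eq_zero_of_not_dvd (by norm_num)]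
      let P : Sylow 3 G := Sylow.ofCard S (by rw [hd.card_S, hf]; norm_num)
      let N := Subgroup.normalizer (E : Set G)
      have hPN : (P : Subgroup G) ≤ N := fun v hv => by
        refine Subgroup.mem_normalizer_iff.2 fun a => ⟨fun ha => h₁.S_normalizes v hv a ha, fun ha => ?_⟩
        have := h₁.S_normalizes v⁻¹ (inv_mem hv) _ ha
        rwa [show v⁻¹ * (v * a * v⁻¹) * v⁻¹⁻¹ = a by group] at this
      have hnPN : ((n • P : Sylow 3 G) : Subgroup G) ≤ N := by
        rintro _ ⟨v, hv, rfl⟩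
        refine Subgroup.mem_normalizer_iff.2 fun a => ?_
        change a ∈ E ↔ n * v * n⁻¹ * a * (n * v * n⁻¹)⁻¹ ∈ E
        rw [← hmapM]
        constructor
        · rintro ⟨b, hb, rfl⟩
          exact ⟨v * b * v⁻¹, h₂.S_normalizes v hv b hb, by
            show n * (v * b * v⁻¹) * n⁻¹ = n * v * n⁻¹ * (n * b * n⁻¹) * (n * v * n⁻¹)⁻¹
            group⟩
        · rintro ⟨b, hb, he'⟩
          change n * b * n⁻¹ = n * v * n⁻¹ * a * (n * v * n⁻¹)⁻¹ at he'
          exact ⟨v⁻¹ * b * v⁻¹⁻¹, h₂.S_normalizes v⁻¹ (inv_mem hv) b hb, by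
            show n * (v⁻¹ * b * v⁻¹⁻¹) * n⁻¹ = a
            calc n * (v⁻¹ * b * v⁻¹⁻¹) * n⁻¹ = (n * v * n⁻¹)⁻¹ * (n * b * n⁻¹) * (n * v * n⁻¹) := by group
              _ = a := by rw [he']; group⟩
      obtain ⟨u, hu⟩ := MulAction.exists_smul_eq N ((n • P).subtype hnPN) (P.subtype hPN)
      have hunS : ∀ v ∈ S, (u : G) * n * v * ((u : G) * n)⁻¹ ∈ S := by
        intro v hv
        have hm : n * v * n⁻¹ ∈ ((n • P : Sylow 3 G) : Subgroup G) := ⟨v, hv, rfl⟩
        have hm2 : (⟨n * v * n⁻¹, hnPN hm⟩ : N) ∈ ((n • P).subtype hnPN : Subgroup N) :=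
          Subgroup.mem_subgroupOf.2 hm
        have hm3 : u * ⟨n * v * n⁻¹, hnPN hm⟩ * u⁻¹ ∈ (P.subtype hPN : Subgroup N) := by
          rw [← hu]; exact ⟨_, hm2, rfl⟩
        have := Subgroup.mem_subgroupOf.1 hm3
        rw [show (u : G) * n * v * ((u : G) * n)⁻¹ = (u : G) * (n * v * n⁻¹) * (u : G)⁻¹ by group]
        exact this
      set p := (u : G) * n with hp
      have hpM : ∀ b ∈ M, p * b * p⁻¹ ∈ E := fun b hb => by
        have hb' : n * b * n⁻¹ ∈ E := hmapM ▸ ⟨b, hb, rfl⟩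
        have := (Subgroup.mem_normalizer_iff.1 u.2 _).1 hb'
        rw [hp]
        convert this using 1
        group
      have hsurj : ∀ y ∈ S, ∃ v ∈ S, p * v * p⁻¹ = y := by
        intro y hy
        let ψ : S → S := fun v => ⟨p * v * p⁻¹, hunS v v.2⟩
        obtain ⟨v, hv⟩ := Finite.surjective_of_injective (f := ψ)
          (fun a b e' => Subtype.ext (mul_left_cancel (mul_right_cancel (congrArg Subtype.val e')))) ⟨y, hy⟩
        exact ⟨v, v.2, congrArg Subtype.val hv⟩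
      -- the image of the centre
      have hpx : p * F.xel * p⁻¹ ∈ Subgroup.zpowers F.xel := by
        have hS' := hunS _ (F.xel_mem hd.mem_S)
        have hc' : ∀ y ∈ S, p * F.xel * p⁻¹ * y = y * (p * F.xel * p⁻¹) := by
          intro y hy
          obtain ⟨v, hv', rfl⟩ := hsurj y hy
          have := ((hd.mem_S v).1 hv').1
          calc p * F.xel * p⁻¹ * (p * v * p⁻¹) = p * (F.xel * v) * p⁻¹ := by group
            _ = p * (v * F.xel) * p⁻¹ := by rw [this]
            _ = _ := by group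
        set y := p * F.xel * p⁻¹ with hy
        have hyE : y ∈ E := ⟨hS', Subgroup.mem_centralizer_singleton_iff.2 (hc' _ hd.s₁_mem)⟩
        have hyM : y ∈ M := ⟨hS', Subgroup.mem_centralizer_singleton_iff.2 (hc' _ hd.s₂_mem)⟩
        refine h₁.meet_z hS' ?_
        have e1 := hiinv y hyE
        have e2 := h₂.line_inv y hyM
        rw [hrz_z] at e2
        have e3 : F.z * y * F.z⁻¹ = F.rel⁻¹ * (i * y * i⁻¹) * F.rel := by rw [hi]; group
        rw [e1, ← e2] at e3
        rw [show F.rel⁻¹ * (F.rel * y * F.rel⁻¹) * F.rel = y by group] at e3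
        exact (mul_inv_eq_iff_eq_mul.1 e3).symm
      have hnormM : ∀ c : G, c * F.xel = F.xel * c → ∀ b ∈ M, c * b * c⁻¹ ∈ M := by
        intro c hc b hb
        rcases F.cent_xel_split h₁ hc with hcS | hcS
        · exact h₂.S_normalizes c hcS b hb
        · have := h₂.S_normalizes _ hcS _ (h₂.z_conj_line b hb)
          rwa [show c * F.z * (F.z * b * F.z⁻¹) * (c * F.z)⁻¹ = c * (F.z * F.z) * b * (F.z * F.z)⁻¹ * c⁻¹ by group,
            F.D.z_sq, mul_one, inv_one, mul_one] at this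
      have hrM : ∀ b ∈ M, F.rel * b * F.rel⁻¹ ∈ M := fun b hb => by
        have := h₂.line_inv b hb
        rw [hrz_z] at this
        rw [this]
        exact inv_mem hb
      have hpnorm : ∀ b ∈ M, p * b * p⁻¹ ∈ M := by
        intro b hb
        rcases three_elems F.xel_cube hpx with e' | e' | e'
        · exfalso
          refine F.xel_ne ?_
          calc F.xel = p⁻¹ * (p * F.xel * p⁻¹) * p := by group
            _ = 1 := by rw [e']; group
        · exact hnormM p (mul_inv_eq_iff_eq_mul.1 e') b hb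
        · have hc' : F.rel * p * F.xel = F.xel * (F.rel * p) := by
            refine mul_inv_eq_iff_eq_mul.1 ?_
            calc F.rel * p * F.xel * (F.rel * p)⁻¹ = F.rel * (p * F.xel * p⁻¹) * F.rel⁻¹ := by group
              _ = F.rel * F.xel⁻¹ * F.rel⁻¹ := by rw [e']
              _ = F.xel := by
                have := congrArg (·⁻¹) F.rel_xel
                simpa [mul_assoc] using this
          have := hrM _ (hnormM _ hc' b hb)
          rwa [show F.rel * (F.rel * p * b * (F.rel * p)⁻¹) * F.rel⁻¹ =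
            F.rel * F.rel * (p * b * p⁻¹) * (F.rel * F.rel)⁻¹ by group, hrinv, one_mul, inv_one, mul_one] at this
      have hEM : M ≤ E := by
        intro b hb
        let ψ : M → M := fun b => ⟨p * b * p⁻¹, hpnorm b b.2⟩
        obtain ⟨b', hb'⟩ := Finite.surjective_of_injective (f := ψ)
          (fun a c e' => Subtype.ext (mul_left_cancel (mul_right_cancel (congrArg Subtype.val e')))) ⟨b, hb⟩
        have := hpM b' b'.2
        rwa [show p * (b' : G) * p⁻¹ = b from congrArg Subtype.val hb'] at this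
      exact hs2E (hEM h₂.line_card.2.2)
    · subst j
      have hnE : ∀ a ∈ E, n⁻¹ * a * n ∈ E := fun a ha =>
        F.inverted_mem h₁ h₂ rfl (hsub a ha).1 (hsub a ha).2
      refine ⟨n, hnx, mul_inv_eq_iff_eq_mul.1 hnj, fun a ha => ?_⟩
      let ψ : E → E := fun a => ⟨n⁻¹ * a * n, hnE a a.2⟩
      obtain ⟨b, hb⟩ := Finite.surjective_of_injective (f := ψ)
        (fun a c e' => Subtype.ext (mul_left_cancel (mul_right_cancel (congrArg Subtype.val e')))) ⟨a, ha⟩
      have hb' : n⁻¹ * (b : G) * n = a := congrArg Subtype.val hb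
      rw [← hb', show n * (n⁻¹ * (b : G) * n) * n⁻¹ = b by group]
      exact b.2
  -- prescribed images
  have hreal : ∀ e ∈ E, ∀ f ∈ E, e ≠ 1 → f ∉ Subgroup.zpowers e → ∃ q : G, q * F.xel * q⁻¹ = e ∧
      q * s₁ * q⁻¹ = f ∧ q * i = i * q ∧ ∀ a ∈ E, q * a * q⁻¹ ∈ E := by
    intro e he f hf he1 hfe
    obtain ⟨n, hnx, hni, hnE⟩ := htrans e he he1
    have hnE' : ∀ a ∈ E, ∃ b ∈ E, n * b * n⁻¹ = a := by
      intro a ha
      let ψ : E → E := fun b => ⟨n * b * n⁻¹, hnE b b.2⟩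
      obtain ⟨b, hb⟩ := Finite.surjective_of_injective (f := ψ)
        (fun a c e' => Subtype.ext (mul_left_cancel (mul_right_cancel (congrArg Subtype.val e')))) ⟨a, ha⟩
      exact ⟨b, b.2, congrArg Subtype.val hb⟩
    obtain ⟨b, hb, hbf⟩ := hnE' f hf
    have hbX : b ∉ Subgroup.zpowers F.xel := fun e' => hfe (by
      obtain ⟨m, rfl⟩ := Subgroup.mem_zpowers_iff.1 e'
      rw [← hbf, ← hnx, show n * F.xel ^ m * n⁻¹ = MulAut.conj n (F.xel ^ m) from rfl, map_zpow, MulAut.conj_apply]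
      exact ⟨m, rfl⟩)
    -- the stabiliser reaches every element outside the centre
    have hstab : ∃ v : G, v * F.xel * v⁻¹ = F.xel ∧ v * s₁ * v⁻¹ = b ∧ v * i = i * v ∧
        ∀ a ∈ E, v * a * v⁻¹ ∈ E := by
      obtain ⟨a, hap'⟩ := F.reach hd h₁ b hb hbX
      have hcx : Commute (s₂ ^ (a : ℕ)) F.xel :=
        (show Commute s₂ F.xel from ((hd.mem_S _).1 hd.s₂_mem).1).pow_left _
      have hci : Commute (s₂ ^ (a : ℕ)) i := (show Commute s₂ i from hd.s₂_comm).pow_left _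
      rcases hap' with hap' | hap'
      swap
      · have hzx : Commute F.z F.xel := F.z_xel
        refine ⟨s₂ ^ (a : ℕ) * F.z, mul_inv_eq_iff_eq_mul.2 (hcx.mul_left hzx).eq, ?_,
          (hci.mul_left ?_).eq, fun c hc => ?_⟩
        · rw [← hap', ← h₁.fixed_inv]; group
        · show F.z * i = i * F.z
          rw [hi, ← mul_assoc, ← F.rel_z]
        · rw [show s₂ ^ (a : ℕ) * F.z * c * (s₂ ^ (a : ℕ) * F.z)⁻¹ =
            s₂ ^ (a : ℕ) * (F.z * c * F.z⁻¹) * (s₂ ^ (a : ℕ))⁻¹ by group]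
          exact hs2n _ _ (h₁.z_conj_line c hc)
      · exact ⟨s₂ ^ (a : ℕ), mul_inv_eq_iff_eq_mul.2 hcx.eq, hap', hci.eq, hs2n _⟩
    obtain ⟨v, hvx, hvs, hvi, hvE⟩ := hstab
    refine ⟨n * v, ?_, ?_, ((show Commute n i from hni).mul_left hvi).eq, fun a ha => ?_⟩
    · rw [← hnx]
      conv_rhs => rw [← hvx]
      group
    · rw [← hbf, ← hvs]; group
    · rw [show n * v * a * (n * v)⁻¹ = n * (v * a * v⁻¹) * n⁻¹ by group]
      exact hnE _ (hvE a ha)
  have hfaith : ∀ v : G, v * F.xel = F.xel * v → v * s₁ = s₁ * v → v * i = i * v → v = 1 := by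
    intro v hx hs hvi
    rcases F.cent_xel_split h₁ hx with hv | hv
    · have hvE : v ∈ E := ⟨hv, Subgroup.mem_centralizer_singleton_iff.2 hs⟩
      have h1 := hiinv v hvE
      rw [← hvi, mul_inv_cancel_right] at h1
      exact eq_one_of_inv_self (h₁.cube hv) h1
    · exfalso
      refine hd.s₁_ne (eq_one_of_inv_self (h₁.cube hd.s₁_mem) (odd_not_inverted ((hd.mem_S _).1 hv).2 ?_))
      calc v * F.z * s₁ * (v * F.z)⁻¹ = v * (F.z * s₁ * F.z⁻¹) * v⁻¹ := by group
        _ = v * s₁⁻¹ * v⁻¹ := by rw [h₁.fixed_inv]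
        _ = _ := by rw [(show Commute v s₁ from hs).inv_right.eq, mul_inv_cancel_right]
  have hsq : ∀ q : G, q * i = i * q → q * q * F.xel * (q * q)⁻¹ = F.xel⁻¹ →
      q * q * s₁ * (q * q)⁻¹ = s₁⁻¹ → q * q = i := by
    intro q hqi hqx hqs
    have hci : Commute (q * q) i := (show Commute q i from hqi).mul_left hqi
    have hii : Commute i i := Commute.refl i
    have key : ∀ a ∈ E, q * q * a * (q * q)⁻¹ = a⁻¹ → q * q * i * a = a * (q * q * i) := by
      intro a ha h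
      refine mul_inv_eq_iff_eq_mul.1 ?_
      calc q * q * i * a * (q * q * i)⁻¹ = q * q * (i * a * i⁻¹) * (q * q)⁻¹ := by group
        _ = a := by
          rw [hiinv a ha]
          have := congrArg (·⁻¹) h
          simpa [mul_assoc] using this
    have h1 := hfaith (q * q * i) (key _ hxE hqx) (key _ hs1E hqs) (hci.mul_left hii).eq
    rw [mul_eq_one_iff_eq_inv, hi_inv] at h1
    exact h1
  have hs1X : s₁⁻¹ ∉ Subgroup.zpowers F.xel := fun e => h₁.s_not_X (by simpa using inv_mem e)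
  have hxs : ∀ a : G, a ∈ Subgroup.zpowers s₁ → a ∈ Subgroup.zpowers F.xel → a = 1 := by
    intro a ha hb
    rcases three_elems (h₁.cube hd.s₁_mem) ha with e | e | e
    · exact e
    · exact absurd (e ▸ hb) h₁.s_not_X
    · exact absurd (e ▸ hb) hs1X
  obtain ⟨q₁, q1x, q1s, q1i, q1E⟩ := hreal s₁ hs1E F.xel⁻¹ (inv_mem hxE) hd.s₁_ne
    (fun e => F.xel_ne (inv_eq_one.1 (hxs _ e (inv_mem (Subgroup.mem_zpowers _)))))
  have hne2 : F.xel * s₁ ≠ 1 := fun e => hs1X (eq_inv_of_mul_eq_one_left e ▸ Subgroup.mem_zpowers F.xel)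
  obtain ⟨q₂, q2x, q2s, q2i, q2E⟩ := hreal (F.xel * s₁) (mul_mem hxE hs1E) (F.xel * s₁⁻¹)
    (mul_mem hxE (inv_mem hs1E)) hne2 (by
      intro e
      rcases three_elems (h₁.cube (mul_mem hxE hs1E).1) e with e' | e' | e'
      · exact h₁.s_not_X (eq_of_mul_inv_eq_one e' ▸ Subgroup.mem_zpowers F.xel)
      · exact hd.s₁_ne (eq_one_of_inv_self (h₁.cube hd.s₁_mem) (mul_left_cancel e').symm)
      · refine F.xel_ne (eq_one_of_inv_self F.xel_cube ?_)
        rw [mul_inv_rev, ← hEab _ (inv_mem hxE) _ (inv_mem hs1E)] at e'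
        exact mul_right_cancel e')
  have hconj : ∀ (q a b : G), q * (a * b) * q⁻¹ = q * a * q⁻¹ * (q * b * q⁻¹) := fun q a b => by group
  have hcinv : ∀ (q a : G), q * a⁻¹ * q⁻¹ = (q * a * q⁻¹)⁻¹ := fun q a => by group
  have hq1 : q₁ * q₁ = i := by
    refine hsq q₁ q1i ?_ ?_
    · rw [show q₁ * q₁ * F.xel * (q₁ * q₁)⁻¹ = q₁ * (q₁ * F.xel * q₁⁻¹) * q₁⁻¹ by group, q1x, q1s]
    · rw [show q₁ * q₁ * s₁ * (q₁ * q₁)⁻¹ = q₁ * (q₁ * s₁ * q₁⁻¹) * q₁⁻¹ by group, q1s, hcinv, q1x]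
  have hx2 : F.xel * F.xel = F.xel⁻¹ := eq_inv_of_mul_eq_one_left (by rw [← sq, ← pow_succ]; exact F.xel_cube)
  have hs2' : s₁ * s₁ = s₁⁻¹ := eq_inv_of_mul_eq_one_left (by rw [← sq, ← pow_succ]; exact h₁.cube hd.s₁_mem)
  have hq2 : q₂ * q₂ = i := by
    refine hsq q₂ q2i ?_ ?_
    · rw [show q₂ * q₂ * F.xel * (q₂ * q₂)⁻¹ = q₂ * (q₂ * F.xel * q₂⁻¹) * q₂⁻¹ by group, q2x, hconj, q2x, q2s]
      rw [show F.xel * s₁ * (F.xel * s₁⁻¹) = F.xel * (s₁ * F.xel) * s₁⁻¹ by group, hEab _ hs1E _ hxE,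
        show F.xel * (F.xel * s₁) * s₁⁻¹ = F.xel * F.xel by group, hx2]
    · rw [show q₂ * q₂ * s₁ * (q₂ * q₂)⁻¹ = q₂ * (q₂ * s₁ * q₂⁻¹) * q₂⁻¹ by group, q2s, hconj, hcinv, q2x, q2s]
      rw [mul_inv_rev, inv_inv, show F.xel * s₁ * (s₁ * F.xel⁻¹) = F.xel * (s₁ * s₁) * F.xel⁻¹ by group, hs2',
        hEab _ hxE _ (inv_mem hs1E), mul_inv_cancel_right]
  refine ⟨E, i, q₁, q₂, hiz, hEc, fun a ha => h₁.cube ha.1, hiinv, fun a ha => ?_, hq1, hq2, ?_,
    fun a ha => ⟨q1E a ha, q2E a ha⟩⟩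
  · by_cases ha1 : a = 1
    · exact ⟨F.z, IsConj.refl _, by rw [ha1, one_mul, mul_one]⟩
    · obtain ⟨n, hnx, -, -⟩ := htrans a ha ha1
      refine ⟨n * F.z * n⁻¹, isConj_iff.2 ⟨n, rfl⟩, ?_⟩
      rw [← hnx]
      calc n * F.xel * n⁻¹ * (n * F.z * n⁻¹) = n * (F.xel * F.z) * n⁻¹ := by group
        _ = n * (F.z * F.xel) * n⁻¹ := by rw [F.z_xel]
        _ = _ := by group
  · intro e
    have h1 : q₁ * q₂ * F.xel * (q₁ * q₂)⁻¹ = s₁ * F.xel⁻¹ := by
      rw [show q₁ * q₂ * F.xel * (q₁ * q₂)⁻¹ = q₁ * (q₂ * F.xel * q₂⁻¹) * q₁⁻¹ by group, q2x, hconj, q1x, q1s]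
    have h2 : q₂ * q₁ * F.xel * (q₂ * q₁)⁻¹ = F.xel * s₁⁻¹ := by
      rw [show q₂ * q₁ * F.xel * (q₂ * q₁)⁻¹ = q₂ * (q₁ * F.xel * q₁⁻¹) * q₂⁻¹ by group, q1x, q2s]
    rw [e, h2, hEab _ hs1E _ (inv_mem hxE)] at h1
    have h3 : F.xel * F.xel = s₁ * s₁ := by
      calc F.xel * F.xel = F.xel * (F.xel * s₁⁻¹) * s₁ := by group
        _ = F.xel * (F.xel⁻¹ * s₁) * s₁ := by rw [h1]
        _ = _ := by group
    rw [hx2, hs2'] at h3
    exact h₁.s_not_X (inv_injective h3 ▸ Subgroup.mem_zpowers F.xel)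

end Frame

end Cfsg.Agent.MTwelve
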