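import Cfsg.Agent.Lib.Spor.MTwelve.OrderFacts
import Cfsg.Agent.Lib.Fusion.OrderFormula

/-!
The order of a simple group with the involution centraliser of the Mathieu group of degree twelve.
-/

set_option autoImplicit false
set_option maxRecDepth 100000
set_option linter.style.haveILetI false
set_option linter.unusedSectionVars false

namespace Cfsg.Agent.MTwelve

open C0

theorem allEl_nodup : allEl.Nodup := by decide +kernel

theorem card_filter_list (p : C0 → Bool) :
    (Finset.univ.filter fun c : C0 => p c = true).card = (allEl.filter p).length := by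
  rw [← List.toFinset_card_of_nodup (allEl_nodup.filter _)]
  congr 1
  ext c
  simp [mem_allEl]

theorem card_pairs_list (p : C0 → Bool) (q : C0 → C0 → Bool) :
    (Finset.univ.filter fun u : C0 × C0 => p u.1 = true ∧ q u.1 u.2 = true).card =
      ((allEl.filter p).map fun c => (allEl.filter fun d => q c d).length).sum := by
  rw [← List.sum_toFinset _ (allEl_nodup.filter _)]
  have e : (allEl.filter p).toFinset = Finset.univ.filter fun c : C0 => p c = true := by
    ext c; simp [mem_allEl]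
  rw [e, Finset.sum_congr rfl fun c _ => (card_filter_list (fun d => q c d)).symm, ← Finset.card_sigma]
  refine Finset.card_bij (fun u _ => ⟨u.1, u.2⟩) (fun u hu => ?_) (fun u _ v _ h => ?_) fun u hu => ?_
  · simpa using hu
  · cases u; cases v; simp only [Sigma.mk.injEq, heq_eq_eq] at h; simp [h.1, h.2]
  · exact ⟨(u.1, u.2), by simpa using hu, rfl⟩

theorem mul_self_of_orderOf {M : Type*} [Monoid M] {x : M} (h : orderOf x = 2) : x * x = 1 := by
  rw [← sq, ← h, pow_orderOf_eq_one]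

theorem commute_of_mem_zpowers {M : Type*} [Group M] {x y w : M} (hx : x * x = 1) (hy : y * y = 1) (hw : w * w = 1)
    (h : w ∈ Subgroup.zpowers (x * y)) : x * w = w * x ∧ y * w = w * y := by
  obtain ⟨k, hk⟩ := Subgroup.mem_zpowers_iff.1 h
  have hxi : x⁻¹ = x := inv_eq_of_mul_eq_one_left hx
  have hyi : y⁻¹ = y := inv_eq_of_mul_eq_one_left hy
  have hwi : w⁻¹ = w := inv_eq_of_mul_eq_one_left hw
  have h1 : x * (x * y) * x⁻¹ = (x * y)⁻¹ := by rw [mul_inv_rev, hxi, hyi, ← mul_assoc, hx, one_mul]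
  have h2 : x * w * x⁻¹ = w := by
    rw [← hk, ← conj_zpow, h1, inv_zpow, hk, hwi]
  have hxw : x * w = w * x := by
    calc x * w = x * w * x⁻¹ * x := by group
      _ = w * x := by rw [h2]
  refine ⟨hxw, ?_⟩
  have hc : x * y * w = w * (x * y) := by rw [← hk, ← zpow_one_add, ← zpow_add_one, add_comm]
  calc y * w = x⁻¹ * (x * y * w) := by group
    _ = x⁻¹ * (w * x * y) := by rw [hc, ← mul_assoc w]
    _ = x⁻¹ * (x * w * y) := by rw [hxw]
    _ = w * y := by group

namespace Setup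

variable {G : Type*} [Group G] (D : Setup G) [Finite G] (hG : D.IsX a0)

/-- whether the outer involutions of the centraliser belong to the first class -/
noncomputable def col : Bool := by classical exact decide (D.IsX r0)

theorem col_iff : D.col = true ↔ D.IsX r0 := by
  classical
  simp [col]

include hG

theorem isX_iff (c : C0) : D.IsX c ↔ xB D.col c = true := by
  simp only [xB, Bool.or_eq_true, beq_iff_eq, Bool.and_eq_true, col_iff]
  refine ⟨fun h => ?_, ?_⟩
  · obtain ⟨h1, h4⟩ := D.isX_kd h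
    have h4' : kd c ≠ 4 := fun e => D.not_isX_4 e h
    by_cases h2 : kd c = 2
    · refine Or.inr ⟨?_, h2⟩
      have := (D.isX_rep h1 h4).1 h
      rwa [h2] at this
    · left; omega
  · rintro (h | ⟨hr, h⟩)
    · exact D.isX_13 hG h
    · refine (D.isX_rep (by omega) (by omega)).2 ?_
      rw [h]
      exact hr

omit hG in
theorem t_ne_X : ¬ IsConj D.z D.t := D.not_isX_b0

theorem invol_kd (c : C0) (h : c * c = 1 ∧ c ≠ 1) : IsConj D.z (D.ι c) ∨ IsConj D.t (D.ι c) := by
  obtain ⟨h1, h4⟩ := (kd_invol c).1 h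
  have hb : ∀ d : C0, kd d = 4 → IsConj D.t (D.ι d) := fun d hd => by
    obtain ⟨k, hk⟩ := exists_conj_rep d (by omega) (by omega)
    rw [hd] at hk
    exact isConj_iff.2 ⟨D.ι k, by rw [t, ← map_inv, ← map_mul, ← map_mul]; exact congrArg D.ι hk⟩
  interval_cases e : kd c
  · exact Or.inl (D.isX_13 hG (Or.inl e))
  · by_cases hr : D.IsX r0
    · refine Or.inl ((D.isX_rep (by omega) (by omega)).2 ?_)
      rw [e]; exact hr
    · obtain ⟨d, -, hd2, hd1, hd4, hconj⟩ := D.r0_fuse (D.no_index_of_a0 hG)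
      have hnX : ¬ D.IsX d := fun hX => hr (hX.trans hconj.symm)
      have hd : kd d = 4 := by
        have : ¬ (kd d = 1 ∨ kd d = 3) := fun h => hnX (D.isX_13 hG h)
        omega
      obtain ⟨k, hk⟩ := exists_conj_rep c (by omega) (by omega)
      rw [e] at hk
      refine Or.inr (((hb d hd).trans hconj.symm).trans (isConj_iff.2 ⟨D.ι k, ?_⟩))
      rw [← map_inv, ← map_mul, ← map_mul]; exact congrArg D.ι hk
  · exact Or.inl (D.isX_13 hG (Or.inr e))
  · exact Or.inr (hb c e)

theorem classes {g : G} (hg : orderOf g = 2) : IsConj D.z g ∨ IsConj D.t g := by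
  obtain ⟨P, hP⟩ := D.exists_sylow
  obtain ⟨Q, hQ⟩ := (IsPGroup.of_card (n := 1) (by rw [Nat.card_zpowers, hg, pow_one]) :
    IsPGroup 2 (Subgroup.zpowers g)).exists_le_sylow
  obtain ⟨k, hk⟩ := MulAction.exists_smul_eq G Q P
  have hm : k * g * k⁻¹ ∈ (P : Subgroup G) := by
    rw [← hk]
    exact ⟨g, hQ (Subgroup.mem_zpowers g), rfl⟩
  rw [hP] at hm
  obtain ⟨c, -, hc⟩ := Subgroup.mem_map.1 hm
  have h2 : c * c = 1 ∧ c ≠ 1 := by
    have : orderOf (D.ι c) = 2 := by rw [hc, ← MulAut.conj_apply, MulEquiv.orderOf_eq, hg]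
    rw [orderOf_injective _ D.inj, orderOf_eq_prime_iff, sq] at this
    exact this
  have hback : IsConj (D.ι c) g := isConj_iff.2 ⟨k⁻¹, by rw [hc]; group⟩
  rcases D.invol_kd hG c h2 with h | h
  · exact Or.inl (h.trans hback)
  · exact Or.inr (h.trans hback)

omit hG in
theorem order_of_conj {g : G} (h : IsConj D.z g ∨ IsConj D.t g) : orderOf g = 2 := by
  rcases h with h | h
  · rw [← Fusion.orderOf_isConj h, D.z_order]
  · rw [← Fusion.orderOf_isConj h, D.t_order]

theorem isT_iff {g : G} (hg : orderOf g = 2) : IsConj D.t g ↔ ¬ IsConj D.z g :=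
  ⟨fun h h' => D.t_ne_X (h'.trans h.symm), fun h => (D.classes hG hg).resolve_left h⟩

theorem rz_eq : Fusion.rCount D.z D.t D.z = pairsZ D.col := by
  classical
  have hT : ∀ d : C0, IsConj D.t (D.ι d) ↔ tB D.col d = true := by
    intro d
    constructor
    · intro h
      have h2 := D.order_of_conj (Or.inr h)
      rw [orderOf_injective _ D.inj, orderOf_eq_prime_iff, sq] at h2
      obtain ⟨h1, h4⟩ := (kd_invol d).1 h2
      have hn : ¬ xB D.col d = true := fun e => D.t_ne_X (((D.isX_iff hG d).2 e).trans h.symm)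
      cases hc : D.col <;> simp [xB, tB, hc] at hn ⊢ <;> omega
    · intro h
      have hk : 1 ≤ kd d ∧ kd d ≤ 4 := by
        cases hc : D.col <;> simp [tB, hc] at h <;> omega
      have h2 := (kd_invol d).2 hk
      refine (D.invol_kd hG d h2).resolve_left fun hX => ?_
      have := (D.isX_iff hG d).1 hX
      cases hc : D.col <;> simp [xB, tB, hc] at h this <;> omega
  have e : pairsZ D.col = (Finset.univ.filter fun u : C0 × C0 => xB D.col u.1 = true ∧
      (tB D.col u.2 && hits z0 (u.1 * u.2) (u.1 * u.2) 24) = true).card := by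
    rw [card_pairs_list (xB D.col) (fun c d => tB D.col d && hits z0 (c * d) (c * d) 24), pairsZ]
    simp only [List.filter_filter, Bool.and_comm]
  rw [e, Fusion.rCount, ← Fintype.card_subtype, ← Nat.card_eq_fintype_card]
  symm
  refine Nat.card_eq_of_bijective (fun u => ⟨(D.ι u.1.1, D.ι u.1.2), ?_⟩) ⟨?_, ?_⟩
  · obtain ⟨hu1, hu2⟩ := u.2
    rw [Bool.and_eq_true] at hu2
    refine ⟨(D.isX_iff hG _).2 hu1, (hT _).2 hu2.1, ?_⟩
    have := (zpowers_iff_hits z0 (u.1.1 * u.1.2) 24 (by norm_num) (c0_pow_24 _)).2 hu2.2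
    obtain ⟨k, hk⟩ := Subgroup.mem_zpowers_iff.1 this
    exact Subgroup.mem_zpowers_iff.2 ⟨k, by rw [← map_mul, ← map_zpow, hk, D.map_z]⟩
  · intro u v h
    simp only [Subtype.mk.injEq, Prod.mk.injEq] at h
    exact Subtype.ext (Prod.ext (D.inj h.1) (D.inj h.2))
  · rintro ⟨⟨x, y⟩, hx, hy, hxy⟩
    obtain ⟨hcx, hcy⟩ := commute_of_mem_zpowers
      (mul_self_of_orderOf (D.order_of_conj (Or.inl hx)))
      (mul_self_of_orderOf (D.order_of_conj (Or.inr hy))) D.z_sq hxy
    obtain ⟨c, rfl⟩ := D.exists_pre hcx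
    obtain ⟨d, rfl⟩ := D.exists_pre hcy
    refine ⟨⟨(c, d), (D.isX_iff hG c).1 hx, ?_⟩, rfl⟩
    rw [Bool.and_eq_true]
    refine ⟨(hT d).1 hy, (zpowers_iff_hits _ _ 24 (by norm_num) (c0_pow_24 _)).1 ?_⟩
    obtain ⟨k, hk⟩ := Subgroup.mem_zpowers_iff.1 hxy
    exact Subgroup.mem_zpowers_iff.2 ⟨k, D.inj (by rw [map_zpow, map_mul, hk, D.map_z])⟩

theorem rt_small (hct : ∀ h ∈ D.Ct, ∃ w, w * b0 = b0 * w ∧ D.ι w = h) : Fusion.rCount D.z D.t D.t = 3 := by
  classical
  let L : List C0 := [z0, el 24, el 25]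
  have hL : ∀ c ∈ L, c * b0 = b0 * c := fun c hc => (w_pairs c (by simp [L] at hc ⊢; tauto)).1
  have e : pairsW = (Finset.univ.filter fun u : C0 × C0 => L.contains u.1 = true ∧
      ((u.2 * b0 == b0 * u.2 && decide (1 ≤ kd u.2 ∧ kd u.2 ≤ 4) && !L.contains u.2) &&
        hits b0 (u.1 * u.2) (u.1 * u.2) 24) = true).card := by
    rw [card_pairs_list (fun c => L.contains c) (fun c d => (d * b0 == b0 * d && decide (1 ≤ kd d ∧ kd d ≤ 4) &&
      !L.contains d) && hits b0 (c * d) (c * d) 24), pairsW, show allEl.filter (fun c => L.contains c) = L from by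
        decide +kernel]
    simp only [List.filter_filter, Bool.and_comm, L]
  rw [← pairsW_eq, e, Fusion.rCount, ← Fintype.card_subtype, ← Nat.card_eq_fintype_card]
  have hXw : ∀ {w}, w * b0 = b0 * w → (D.IsX w ↔ L.contains w = true) := fun {w} hw => by
    rw [D.isX_w hG hw]; simp [L]
  symm
  refine Nat.card_eq_of_bijective (fun u => ⟨(D.ι u.1.1, D.ι u.1.2), ?_⟩) ⟨?_, ?_⟩
  · obtain ⟨h1, h2⟩ := u.2
    simp only [Bool.and_eq_true, beq_iff_eq, decide_eq_true_eq, Bool.not_eq_true'] at h2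
    have hc1 := hL _ (List.contains_iff_mem.1 h1)
    have h2' := (kd_invol _).2 h2.1.1.2
    refine ⟨(hXw hc1).2 h1, (D.invol_kd hG _ h2').resolve_left fun hX => ?_, ?_⟩
    · rw [(hXw h2.1.1.1).1 hX] at h2
      exact absurd h2.1.2 (by simp)
    have := (zpowers_iff_hits b0 (u.1.1 * u.1.2) 24 (by norm_num) (c0_pow_24 _)).2 h2.2
    obtain ⟨k, hk⟩ := Subgroup.mem_zpowers_iff.1 this
    exact Subgroup.mem_zpowers_iff.2 ⟨k, by rw [← map_mul, ← map_zpow, hk]; rfl⟩
  · intro u v h
    simp only [Subtype.mk.injEq, Prod.mk.injEq] at h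
    exact Subtype.ext (Prod.ext (D.inj h.1) (D.inj h.2))
  · rintro ⟨⟨x, y⟩, hx, hy, hxy⟩
    have ht : D.t * D.t = 1 := mul_self_of_orderOf D.t_order
    obtain ⟨hcx, hcy⟩ := commute_of_mem_zpowers
      (mul_self_of_orderOf (D.order_of_conj (Or.inl hx)))
      (mul_self_of_orderOf (D.order_of_conj (Or.inr hy))) ht hxy
    obtain ⟨c, hc, rfl⟩ := hct x (D.mem_Ct.2 hcx)
    obtain ⟨d, hd, rfl⟩ := hct y (D.mem_Ct.2 hcy)
    refine ⟨⟨(c, d), (hXw hc).1 hx, ?_⟩, rfl⟩
    simp only [Bool.and_eq_true, beq_iff_eq, decide_eq_true_eq, Bool.not_eq_true']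
    have h2 := D.order_of_conj (Or.inr hy)
    rw [orderOf_injective _ D.inj, orderOf_eq_prime_iff, sq] at h2
    refine ⟨⟨⟨hd, (kd_invol d).1 h2⟩, ?_⟩, (zpowers_iff_hits _ _ 24 (by norm_num) (c0_pow_24 _)).1 ?_⟩
    · by_contra hL'
      exact D.t_ne_X (((hXw hd).2 (by simpa using hL')).trans hy.symm)
    obtain ⟨k, hk⟩ := Subgroup.mem_zpowers_iff.1 hxy
    exact Subgroup.mem_zpowers_iff.2 ⟨k, D.inj (by rw [map_zpow, map_mul, hk]; rfl)⟩

theorem rt_model {n : ℕ} (Φ : D.Ct ≃* Two × Equiv.Perm (Fin n)) (hΦt : Φ D.t' = (gen2, 1))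
    (hΦX : ∀ y : D.Ct, IsConj D.z (y : G) ↔ ((Φ y).1 = 1 ∧ IsDbl (Φ y).2))
    (N : ℕ) (hN : 0 < N) (hpow : ∀ q : Two × Equiv.Perm (Fin n), q ^ N = 1)
    (Dd : Finset (Equiv.Perm (Fin n))) (hD : ∀ v, v ∈ Dd ↔ IsDbl v)
    (Ti : Finset (Two × Equiv.Perm (Fin n)))
    (hTi : ∀ q, q ∈ Ti ↔ (q * q = 1 ∧ q ≠ 1 ∧ ¬ (q.1 = 1 ∧ IsDbl q.2))) :
    Fusion.rCount D.z D.t D.t = (((({1} : Finset Two) ×ˢ Dd) ×ˢ Ti).filter
        fun p => hits (gen2, 1) (p.1 * p.2) (p.1 * p.2) N = true).card := by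
  classical
  rw [Fusion.rCount, ← Fintype.card_coe, ← Nat.card_eq_fintype_card]
  symm
  refine Nat.card_eq_of_bijective (fun u => ⟨((Φ.symm u.1.1 : G), (Φ.symm u.1.2 : G)), ?_⟩) ⟨?_, ?_⟩
  · have hu := u.2
    simp only [Finset.mem_filter, Finset.mem_product, Finset.mem_singleton, hD, hTi] at hu
    obtain ⟨⟨h1, h2, h3, h4⟩, h5⟩ := hu
    refine ⟨(hΦX _).2 (by rw [Φ.apply_symm_apply]; exact h1), ?_, ?_⟩
    · have ho : orderOf (Φ.symm u.1.2 : G) = 2 := by
        rw [Subgroup.orderOf_coe, MulEquiv.orderOf_eq]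
        exact orderOf_eq_prime (by rw [sq]; exact h2) h3
      refine (D.isT_iff hG ho).2 fun h => h4 ?_
      have := (hΦX _).1 h
      rwa [Φ.apply_symm_apply] at this
    · have h6 := (zpowers_iff_hits _ _ N hN (hpow _)).2 h5
      obtain ⟨k, hk⟩ := Subgroup.mem_zpowers_iff.1 h6
      refine Subgroup.mem_zpowers_iff.2 ⟨k, ?_⟩
      have := congrArg (fun q => ((Φ.symm q : D.Ct) : G)) hk
      simp only [map_zpow, map_mul, Subgroup.coe_zpow, Subgroup.coe_mul] at this
      rw [this, ← hΦt, Φ.symm_apply_apply]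
      rfl
  · intro u v h
    simp only [Subtype.mk.injEq, Prod.mk.injEq] at h
    exact Subtype.ext (Prod.ext (Φ.symm.injective (Subtype.ext h.1)) (Φ.symm.injective (Subtype.ext h.2)))
  · rintro ⟨⟨x, y⟩, hx, hy, hxy⟩
    have ht : D.t * D.t = 1 := mul_self_of_orderOf D.t_order
    obtain ⟨hcx, hcy⟩ := commute_of_mem_zpowers
      (mul_self_of_orderOf (D.order_of_conj (Or.inl hx)))
      (mul_self_of_orderOf (D.order_of_conj (Or.inr hy))) ht hxy
    let x' : D.Ct := ⟨x, D.mem_Ct.2 hcx⟩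
    let y' : D.Ct := ⟨y, D.mem_Ct.2 hcy⟩
    refine ⟨⟨(Φ x', Φ y'), ?_⟩, Subtype.ext (Prod.ext ?_ ?_)⟩
    · simp only [Finset.mem_filter, Finset.mem_product, Finset.mem_singleton, hD, hTi]
      have h2 := D.order_of_conj (Or.inr hy)
      have h2' : orderOf (Φ y') = 2 := by rw [MulEquiv.orderOf_eq, ← Subgroup.orderOf_coe]; exact h2
      rw [orderOf_eq_prime_iff, sq] at h2'
      refine ⟨⟨(hΦX x').1 hx, h2'.1, h2'.2, fun h => D.t_ne_X (((hΦX y').2 h).trans hy.symm)⟩,
        (zpowers_iff_hits _ _ N hN (hpow _)).1 ?_⟩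
      obtain ⟨k, hk⟩ := Subgroup.mem_zpowers_iff.1 hxy
      refine Subgroup.mem_zpowers_iff.2 ⟨k, ?_⟩
      rw [← hΦt, ← map_mul, ← map_zpow]
      exact congrArg Φ (Subtype.ext hk)
    · exact congrArg Subtype.val (Φ.symm_apply_apply x')
    · exact congrArg Subtype.val (Φ.symm_apply_apply y')

/-- the number of first class involutions -/
noncomputable def nX : ℕ := Nat.card {x : G // IsConj D.z x}

omit hG in
theorem nX_mul : D.nX * 192 = Nat.card G := by
  rw [nX, ← Char.card_conjClass_mul_centralizer D.z]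
  congr 1
  rw [← D.range_eq, ← Nat.card_congr (MonoidHom.ofInjective D.inj).toEquiv, C0.card]

theorem order_eq : Nat.card G = pairsZ D.col * Nat.card D.Ct + 192 * Fusion.rCount D.z D.t D.t := by
  classical
  have h := Fusion.thompson_order_count D.z D.t D.z_order D.t_order D.t_ne_X ({D.z, D.t} : Finset G)
    (fun w hw => by
      simp only [Finset.mem_insert, Finset.mem_singleton] at hw
      rcases hw with rfl | rfl
      · exact D.z_order
      · exact D.t_order)
    (fun g hg => by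
      rcases D.classes hG hg with h | h
      · refine ⟨D.z, by simp, h.symm, fun w hw hw' => ?_⟩
        simp only [Finset.mem_insert, Finset.mem_singleton] at hw
        rcases hw with rfl | rfl
        · rfl
        · exact absurd (h.trans hw') D.t_ne_X
      · refine ⟨D.t, by simp, h.symm, fun w hw hw' => ?_⟩
        simp only [Finset.mem_insert, Finset.mem_singleton] at hw
        rcases hw with rfl | rfl
        · exact absurd (h.trans hw').symm D.t_ne_X
        · rfl)
  rw [Finset.sum_insert (by simp only [Finset.mem_singleton]; exact fun e => D.t_ne_X (e ▸ IsConj.refl _)),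
    Finset.sum_singleton, D.rz_eq hG] at h
  have ha : Nat.card {x : G // IsConj D.z x} * 192 = Nat.card G := D.nX_mul
  have hb : Nat.card {x : G // IsConj D.t x} * Nat.card D.Ct = Nat.card G := Char.card_conjClass_mul_centralizer D.t
  have hN : 0 < Nat.card G := Nat.card_pos
  refine Nat.eq_of_mul_eq_mul_left hN ?_
  generalize Nat.card {x : G // IsConj D.z x} = a at h ha
  generalize Nat.card {x : G // IsConj D.t x} = b at h hb
  calc Nat.card G * Nat.card G = (a * b) * (192 * Nat.card D.Ct) := by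
        rw [mul_mul_mul_comm, ha, hb]
    _ = (a * pairsZ D.col + b * Fusion.rCount D.z D.t D.t) * (192 * Nat.card D.Ct) := by rw [h]
    _ = (a * 192) * (pairsZ D.col * Nat.card D.Ct) + (b * Nat.card D.Ct) * (192 * Fusion.rCount D.z D.t D.t) := by
        ring
    _ = _ := by rw [ha, hb, mul_add]

/-- the first class involutions commuting with a given element -/
def sig (x : G) : Set G := {y | IsConj D.z y ∧ y * x = x * y}

theorem sig_eq : D.sig D.z = D.ι '' {c | xB D.col c = true} := by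
  ext y
  constructor
  · rintro ⟨hy, hc⟩
    obtain ⟨c, rfl⟩ := D.exists_pre hc
    exact ⟨c, (D.isX_iff hG c).1 hy, rfl⟩
  · rintro ⟨c, hc, rfl⟩
    exact ⟨(D.isX_iff hG c).2 hc, D.commute_z c⟩

theorem sig_card {x : G} (hx : IsConj D.z x) : Nat.card (D.sig x) = (allEl.filter (xB D.col)).length := by
  classical
  obtain ⟨g, rfl⟩ := isConj_iff.1 hx
  have e : D.sig (g * D.z * g⁻¹) = MulAut.conj g '' D.sig D.z := by
    ext y
    constructor
    · rintro ⟨hy, hc⟩
      refine ⟨g⁻¹ * y * g, ⟨hy.trans (isConj_iff.2 ⟨g⁻¹, by rw [inv_inv]⟩), ?_⟩, by simp [mul_assoc]⟩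
      calc g⁻¹ * y * g * D.z = g⁻¹ * (y * (g * D.z * g⁻¹)) * g := by group
        _ = g⁻¹ * (g * D.z * g⁻¹ * y) * g := by rw [hc]
        _ = D.z * (g⁻¹ * y * g) := by group
    · rintro ⟨w, ⟨hw, hc⟩, rfl⟩
      exact ⟨hw.trans (isConj_iff.2 ⟨g, rfl⟩), by
        show g * w * g⁻¹ * (g * D.z * g⁻¹) = g * D.z * g⁻¹ * (g * w * g⁻¹)
        calc _ = g * (w * D.z) * g⁻¹ := by group
          _ = g * (D.z * w) * g⁻¹ := by rw [hc]
          _ = _ := by group⟩
  rw [e, Nat.card_image_of_injective (MulAut.conj g).injective, D.sig_eq hG,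
    Nat.card_image_of_injective D.inj, ← card_filter_list, ← Fintype.card_subtype, ← Nat.card_eq_fintype_card]
  rfl

theorem row_facts (hrow : D.col = false) : Nat.card G = 1344 ∧ (∀ x, IsConj D.z x → x ∈ D.sig D.z) := by
  classical
  have h7 : ∀ x, IsConj D.z x → Nat.card (D.sig x) = 7 := fun x hx => by
    rw [D.sig_card hG hx, hrow]; exact xB_count.2
  have hcz : ∀ y ∈ D.sig D.z, D.sig y = D.sig D.z := fun y hy => by
    refine (Set.eq_of_subset_of_ncard_le (fun w hw => ?_) ?_ (Set.toFinite _)).symm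
    · rw [D.sig_eq hG, hrow] at hy hw
      obtain ⟨c, hc, rfl⟩ := hy
      obtain ⟨d, hd, rfl⟩ := hw
      refine ⟨(D.isX_iff hG d).2 (by rw [hrow]; exact hd), ?_⟩
      rw [← map_mul, ← map_mul, xB_false_comm c hc d hd]
    · rw [← Nat.card_coe_set_eq, ← Nat.card_coe_set_eq, h7 _ hy.1, h7 _ (IsConj.refl _)]
  have hall : ∀ x, IsConj D.z x → ∀ y ∈ D.sig x, D.sig y = D.sig x := fun x hx y hy => by
    obtain ⟨g, rfl⟩ := isConj_iff.1 hx
    have hm : ∀ w v : G, w ∈ D.sig v → g⁻¹ * w * g ∈ D.sig (g⁻¹ * v * g) := fun w v hw =>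
      ⟨hw.1.trans (isConj_iff.2 ⟨g⁻¹, by rw [inv_inv]⟩), by
        calc g⁻¹ * w * g * (g⁻¹ * v * g) = g⁻¹ * (w * v) * g := by group
          _ = g⁻¹ * (v * w) * g := by rw [hw.2]
          _ = g⁻¹ * v * g * (g⁻¹ * w * g) := by group⟩
    have hy' := hm _ _ hy
    rw [show g⁻¹ * (g * D.z * g⁻¹) * g = D.z by group] at hy'
    have e := hcz _ hy'
    refine Set.eq_of_subset_of_ncard_le (fun w hw => ?_) ?_ (Set.toFinite _)
    · have := hm _ _ hw
      rw [e] at this
      refine ⟨hw.1, ?_⟩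
      calc w * (g * D.z * g⁻¹) = g * (g⁻¹ * w * g * D.z) * g⁻¹ := by group
        _ = g * (D.z * (g⁻¹ * w * g)) * g⁻¹ := by rw [this.2]
        _ = g * D.z * g⁻¹ * w := by group
    · rw [← Nat.card_coe_set_eq, ← Nat.card_coe_set_eq, h7 _ hy.1, h7 _ hx]
  have hdvd : 7 ∣ D.nX := by
    haveI := Fintype.ofFinite G
    have e : D.nX = (Finset.univ.filter fun x : G => IsConj D.z x).card := by
      rw [nX, Nat.card_eq_fintype_card, Fintype.card_subtype]
    rw [e, Finset.card_eq_sum_card_image (fun x => D.sig x)]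
    refine Finset.dvd_sum fun s hs => ?_
    simp only [Finset.mem_image, Finset.mem_filter, Finset.mem_univ, true_and] at hs
    obtain ⟨x, hx, rfl⟩ := hs
    refine dvd_of_eq ?_
    rw [Finset.filter_filter]
    symm
    rw [← Fintype.card_subtype, ← Nat.card_eq_fintype_card]
    refine (Nat.card_congr (Equiv.subtypeEquivRight fun w => ?_)).trans (h7 x hx)
    constructor
    · rintro ⟨hw, e'⟩
      have : w ∈ D.sig w := ⟨hw, rfl⟩
      rwa [e'] at this
    · intro hw
      exact ⟨hw.1, hall x hx w hw⟩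
  have hN : Nat.card G = 48 * Nat.card D.Ct + 192 * Fusion.rCount D.z D.t D.t := by
    rw [D.order_eq hG, hrow, pairsZ_row]
  have h1344 : Nat.card G = 1344 := by
    have h7G : 7 ∣ Nat.card G := D.nX_mul ▸ hdvd.trans (dvd_mul_right _ _)
    rcases D.ct_cases hG with hct | ⟨ψ, -⟩ | ⟨ψ, -⟩
    · have h16 : Nat.card D.Ct = 16 := by
        rw [← cn_b0, cn, ← Fintype.card_subtype, ← Nat.card_eq_fintype_card]
        refine (Nat.card_eq_of_bijective (fun w => ⟨D.ι w.1, D.iota_mem_Ct w.2⟩) ⟨?_, ?_⟩).symm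
        · exact fun a b e => Subtype.ext (D.inj (congrArg Subtype.val e))
        · rintro ⟨h, hh⟩
          obtain ⟨w, hw, e⟩ := hct h hh
          exact ⟨⟨w, hw⟩, Subtype.ext e⟩
      rw [hN, h16, D.rt_small hG hct]
    · obtain ⟨Φ, hΦt, hΦX⟩ := D.model hG (Or.inl rfl) dbl_of_cent4 dbl_conj4 dbl_near4 two_flips4 ψ
      rw [hN, D.card_Ct_eq ψ, (D.rt_model hG Φ hΦt hΦX 60 (by norm_num) sym4_pow dbl4 (fun v => by simp [dbl4]) tInv4 (fun q => by simp [tInv4])).trans pairs_sym4] at h7G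
      norm_num [Nat.factorial] at h7G
    · obtain ⟨Φ, hΦt, hΦX⟩ := D.model hG (Or.inr rfl) dbl_of_cent5 dbl_conj5 dbl_near5 two_flips5 ψ
      rw [hN, D.card_Ct_eq ψ, (D.rt_model hG Φ hΦt hΦX 60 (by norm_num) sym5_pow dbl5 (fun v => by simp [dbl5]) tInv5 (fun q => by simp [tInv5])).trans pairs_sym5] at h7G
      norm_num [Nat.factorial] at h7G
  have hn7 : D.nX = 7 := by
    have := D.nX_mul; omega
  have heq : D.sig D.z = {x | IsConj D.z x} := Set.eq_of_subset_of_ncard_le (fun y hy => hy.1) (by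
    rw [← Nat.card_coe_set_eq, ← Nat.card_coe_set_eq, h7 _ (IsConj.refl _)]
    exact le_of_eq hn7) (Set.toFinite _)
  exact ⟨h1344, fun x hx => by rw [heq]; exact hx⟩

theorem nX_large (hcol : D.col = true) : 319 ≤ D.nX := by
  classical
  haveI := Fintype.ofFinite G
  set X := (Finset.univ.filter fun x : G => IsConj D.z x) with hX
  have hXc : X.card = D.nX := by rw [nX, Nat.card_eq_fintype_card, Fintype.card_subtype]
  set P : Finset (G × G) := Finset.univ.filter fun p : G × G =>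
    IsConj D.z p.1 ∧ IsConj D.z p.2 ∧ ¬ p.2 * p.1 = p.1 * p.2 with hP
  have hPc : P.card + D.nX * 31 = D.nX * D.nX := by
    have hc : (Finset.univ.filter fun p : G × G =>
        IsConj D.z p.1 ∧ IsConj D.z p.2 ∧ p.2 * p.1 = p.1 * p.2).card = D.nX * 31 := by
      rw [Finset.card_eq_sum_card_fiberwise (f := Prod.fst) (t := X) fun p hp => by
        simp only [Finset.coe_filter, Set.mem_setOf_eq, Finset.mem_univ, true_and] at hp
        exact Finset.mem_filter.2 ⟨Finset.mem_univ _, hp.1⟩]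
      rw [Finset.sum_congr rfl (g := fun _ => 31) fun x hx => ?_, Finset.sum_const, hXc, smul_eq_mul]
      simp only [hX, Finset.mem_filter, Finset.mem_univ, true_and] at hx
      have h31 : Nat.card (D.sig x) = 31 := by rw [D.sig_card hG hx, hcol]; exact xB_count.1
      rw [← h31, ← Set.Finite.card_toFinset (Set.toFinite _) |>.trans (Nat.card_eq_fintype_card).symm]
      refine Finset.card_bij (fun p _ => p.2) (fun p hp => ?_) (fun p hp q hq e => ?_) fun w hw => ?_
      · simp only [Finset.mem_filter, Finset.mem_univ, true_and] at hp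
        rw [Set.Finite.mem_toFinset, ← hp.2]
        exact ⟨hp.1.2.1, hp.1.2.2⟩
      · simp only [Finset.mem_filter, Finset.mem_univ, true_and] at hp hq
        exact Prod.ext (hp.2.trans hq.2.symm) e
      · rw [Set.Finite.mem_toFinset] at hw
        exact ⟨(x, w), Finset.mem_filter.2 ⟨Finset.mem_filter.2 ⟨Finset.mem_univ _, hx, hw.1, hw.2⟩, rfl⟩, rfl⟩
    have hsplit := Finset.card_filter_add_card_filter_not (s := X ×ˢ X) (fun p : G × G => p.2 * p.1 = p.1 * p.2)
    rw [Finset.card_product, hXc] at hsplit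
    have e1 : (X ×ˢ X).filter (fun p : G × G => p.2 * p.1 = p.1 * p.2) = Finset.univ.filter fun p : G × G =>
        IsConj D.z p.1 ∧ IsConj D.z p.2 ∧ p.2 * p.1 = p.1 * p.2 := by ext p; simp [hX, and_assoc]
    have e2 : (X ×ˢ X).filter (fun p : G × G => ¬ p.2 * p.1 = p.1 * p.2) = P := by ext p; simp [hX, hP, and_assoc]
    rw [e1, e2, hc] at hsplit
    omega
  have hinj : 288 * D.nX ≤ P.card := by
    have hlist : pairsXX = (Finset.univ.filter fun u : C0 × C0 => xB true u.1 = true ∧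
        (xB true u.2 && (!(u.1 * u.2 == u.2 * u.1) && hits z0 (u.1 * u.2) (u.1 * u.2) 24)) = true).card := by
      rw [card_pairs_list (xB true) (fun c d => xB true d && (!(c * d == d * c) && hits z0 (c * d) (c * d) 24)),
        pairsXX]
      simp only [List.filter_filter, Bool.and_comm, Bool.and_left_comm]
    set S := (Finset.univ.filter fun u : C0 × C0 => xB true u.1 = true ∧
        (xB true u.2 && (!(u.1 * u.2 == u.2 * u.1) && hits z0 (u.1 * u.2) (u.1 * u.2) 24)) = true) with hS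
    let g : G → G := fun i => if h : IsConj D.z i then (isConj_iff.1 h).choose else 1
    have hg : ∀ i, IsConj D.z i → g i * D.z * (g i)⁻¹ = i := fun i h => by
      simp only [g, dif_pos h]; exact (isConj_iff.1 h).choose_spec
    have key : (X ×ˢ S).card ≤ P.card := by
      refine Finset.card_le_card_of_injOn
        (fun p => (g p.1 * D.ι p.2.1 * (g p.1)⁻¹, g p.1 * D.ι p.2.2 * (g p.1)⁻¹)) (fun p hp => ?_) ?_
      · simp only [Finset.coe_product, Set.mem_prod, Finset.mem_coe, hS, hX, Finset.mem_filter, Finset.mem_univ,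
          true_and, Bool.and_eq_true, Bool.not_eq_true', beq_eq_false_iff_ne] at hp
        simp only [Finset.mem_coe, hP, Finset.mem_filter, Finset.mem_univ, true_and]
        obtain ⟨-, h1, h2, h3, -⟩ := hp
        refine ⟨((D.isX_iff hG _).2 (hcol ▸ h1)).trans (isConj_iff.2 ⟨_, rfl⟩),
          ((D.isX_iff hG _).2 (hcol ▸ h2)).trans (isConj_iff.2 ⟨_, rfl⟩), fun e => h3 (D.inj ?_)⟩
        rw [map_mul, map_mul]
        have := congrArg (fun w => (g p.1)⁻¹ * w * g p.1) e
        simp only [mul_assoc, inv_mul_cancel_left, inv_mul_cancel, mul_one] at this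
        exact this.symm
      · intro p hp q hq e
        simp only [Finset.coe_product, Set.mem_prod, Finset.mem_coe, hS, hX, Finset.mem_filter, Finset.mem_univ,
          true_and, Bool.and_eq_true] at hp hq
        simp only [Prod.mk.injEq] at e
        have hz : ∀ r : G × (C0 × C0), IsConj D.z r.1 → hits z0 (r.2.1 * r.2.2) (r.2.1 * r.2.2) 24 = true →
            r.1 ∈ Subgroup.zpowers (g r.1 * D.ι r.2.1 * (g r.1)⁻¹ * (g r.1 * D.ι r.2.2 * (g r.1)⁻¹)) := by
          intro r hr hh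
          obtain ⟨k, hk⟩ := Subgroup.mem_zpowers_iff.1
            ((zpowers_iff_hits z0 _ 24 (by norm_num) (c0_pow_24 _)).2 hh)
          refine Subgroup.mem_zpowers_iff.2 ⟨k, ?_⟩
          rw [show g r.1 * D.ι r.2.1 * (g r.1)⁻¹ * (g r.1 * D.ι r.2.2 * (g r.1)⁻¹) =
            g r.1 * (D.ι (r.2.1 * r.2.2)) * (g r.1)⁻¹ by rw [map_mul]; group, conj_zpow, ← map_zpow, hk, D.map_z]
          exact hg _ hr
        have hp1 := hz p hp.1 hp.2.2.2.2
        have hq1 := hz q hq.1 hq.2.2.2.2
        rw [← e.1, ← e.2] at hq1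
        have epq : p.1 = q.1 := (Fusion.invol_unique_in_zpowers (D.order_of_conj (Or.inl hp.1)) hp1).trans
          (Fusion.invol_unique_in_zpowers (D.order_of_conj (Or.inl hq.1)) hq1).symm
        refine Prod.ext epq (Prod.ext ?_ ?_)
        · have := e.1; rw [← epq] at this; exact D.inj (mul_left_cancel (mul_right_cancel this))
        · have := e.2; rw [← epq] at this; exact D.inj (mul_left_cancel (mul_right_cancel this))
    rw [Finset.card_product, hXc, ← hlist, pairsXX_eq, mul_comm] at key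
    exact key
  have hpos : 0 < D.nX := by
    have := D.nX_mul
    have := Nat.card_pos (α := G)
    omega
  by_contra hlt
  push Not at hlt
  have : D.nX * D.nX ≤ D.nX * 318 := Nat.mul_le_mul_left _ (by omega)
  omega

/-- The structure of the group: its order and the centraliser of the second class of involutions. -/
theorem structure_of_col (hcol : D.col = true) : Nat.card G = 95040 ∧ D.IsX r0 ∧ ∃ Φ : D.Ct ≃* Two × Equiv.Perm (Fin 5),
    Φ D.t' = (gen2, 1) ∧ ∀ y : D.Ct, IsConj D.z (y : G) ↔ ((Φ y).1 = 1 ∧ IsDbl (Φ y).2) := by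
  have hN : Nat.card G = 240 * Nat.card D.Ct + 192 * Fusion.rCount D.z D.t D.t := by
    rw [D.order_eq hG, hcol, pairsZ_col]
  have hbig : 319 * 192 ≤ Nat.card G := by
    rw [← D.nX_mul]; exact Nat.mul_le_mul_right _ (D.nX_large hG hcol)
  rcases D.ct_cases hG with hct | ⟨ψ, -⟩ | ⟨ψ, -⟩
  · exfalso
    have h16 : Nat.card D.Ct = 16 := by
      classical
      rw [← cn_b0, cn, ← Fintype.card_subtype, ← Nat.card_eq_fintype_card]
      refine (Nat.card_eq_of_bijective (fun w => ⟨D.ι w.1, D.iota_mem_Ct w.2⟩) ⟨?_, ?_⟩).symm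
      · exact fun a b e => Subtype.ext (D.inj (congrArg Subtype.val e))
      · rintro ⟨h, hh⟩
        obtain ⟨w, hw, e⟩ := hct h hh
        exact ⟨⟨w, hw⟩, Subtype.ext e⟩
    rw [hN, h16, D.rt_small hG hct] at hbig
    omega
  · exfalso
    obtain ⟨Φ, hΦt, hΦX⟩ := D.model hG (Or.inl rfl) dbl_of_cent4 dbl_conj4 dbl_near4 two_flips4 ψ
    rw [hN, D.card_Ct_eq ψ, (D.rt_model hG Φ hΦt hΦX 60 (by norm_num) sym4_pow dbl4 (fun v => by simp [dbl4]) tInv4 (fun q => by simp [tInv4])).trans pairs_sym4] at hbig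
    norm_num [Nat.factorial] at hbig
  · obtain ⟨Φ, hΦt, hΦX⟩ := D.model hG (Or.inr rfl) dbl_of_cent5 dbl_conj5 dbl_near5 two_flips5 ψ
    refine ⟨?_, D.col_iff.1 hcol, Φ, hΦt, hΦX⟩
    rw [hN, D.card_Ct_eq ψ, (D.rt_model hG Φ hΦt hΦX 60 (by norm_num) sym5_pow dbl5 (fun v => by simp [dbl5]) tInv5 (fun q => by simp [tInv5])).trans pairs_sym5]
    norm_num [Nat.factorial]

end Setup

namespace Setup

variable {G : Type*} [Group G] (D : Setup G) [Finite G] [IsSimpleGroup G] (hG : ¬ IsMulCommutative G)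
include hG

theorem col_true : D.col = true := by
  cases h : D.col
  · exfalso
    obtain ⟨-, hall⟩ := D.row_facts (D.isX_a0 hG) h
    let N := Subgroup.normalClosure ({D.z} : Set G)
    have hzC : N ≤ Subgroup.centralizer ({D.z} : Set G) := by
      refine Subgroup.closure_le _ |>.2 fun x hx => ?_
      obtain ⟨s, hs, hsx⟩ := Group.mem_conjugatesOfSet_iff.1 hx
      rw [Set.mem_singleton_iff] at hs
      subst hs
      exact Subgroup.mem_centralizer_singleton_iff.2 (hall x hsx).2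
    rcases IsSimpleGroup.eq_bot_or_eq_top_of_normal N inferInstance with e | e
    · have : D.z ∈ N := Subgroup.subset_normalClosure rfl
      rw [e, Subgroup.mem_bot] at this
      exact D.z_ne this
    · have hcen : D.z ∈ Subgroup.center G := Subgroup.mem_center_iff.2 fun g =>
        Subgroup.mem_centralizer_singleton_iff.1 (hzC (e ▸ Subgroup.mem_top g))
      rcases IsSimpleGroup.eq_bot_or_eq_top_of_normal (Subgroup.center G) inferInstance with h | h
      · exact D.z_ne (Subgroup.mem_bot.1 (h ▸ hcen))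
      · exact hG ⟨⟨fun a b => (Subgroup.mem_center_iff.1 (h ▸ Subgroup.mem_top a) b).symm⟩⟩
  · rfl

/-- The structure of a simple group in this setting. -/
theorem structure_thm : Nat.card G = 95040 ∧ D.IsX r0 ∧ ∃ Φ : D.Ct ≃* Two × Equiv.Perm (Fin 5),
    Φ D.t' = (gen2, 1) ∧ ∀ y : D.Ct, IsConj D.z (y : G) ↔ ((Φ y).1 = 1 ∧ IsDbl (Φ y).2) :=
  D.structure_of_col (D.isX_a0 hG) (D.col_true hG)

end Setup

end Cfsg.Agent.MTwelve
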