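import Cfsg.Agent.Lib.Spor.MTwelve.Fusion
import Cfsg.Agent.Lib.Spor.MTwelve.CentModel

/-!
The pair counts for the order formula.
-/

set_option autoImplicit false
set_option maxRecDepth 100000
set_option maxHeartbeats 4000000
set_option Elab.async false

namespace Cfsg.Agent.MTwelve

open C0

/-- does some power with exponent between one and the bound equal the target -/
def hits {M : Type*} [Mul M] [DecidableEq M] (target : M) (q : M) : M → ℕ → Bool
  | _, 0 => false
  | cur, k + 1 => (cur == target) || hits target q (cur * q) k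

theorem hits_iff {M : Type*} [Monoid M] [DecidableEq M] (target q : M) : ∀ (k i : ℕ),
    hits target q (q ^ (i + 1)) k = true ↔ ∃ j, j < k ∧ q ^ (i + 1 + j) = target
  | 0, i => by simp [hits]
  | k + 1, i => by
    rw [hits, Bool.or_eq_true, beq_iff_eq, ← pow_succ, hits_iff target q k (i + 1)]
    constructor
    · rintro (h | ⟨j, hj, e⟩)
      · exact ⟨0, by omega, h⟩
      · exact ⟨j + 1, by omega, by rw [← e]; congr 1; omega⟩
    · rintro ⟨j, hj, e⟩
      rcases j with - | j
      · exact Or.inl e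
      · exact Or.inr ⟨j, by omega, by rw [← e]; congr 1; omega⟩

theorem zpowers_iff_hits {M : Type*} [Group M] [DecidableEq M] (target q : M) (N : ℕ) (hN : 0 < N)
    (hq : q ^ N = 1) : target ∈ Subgroup.zpowers q ↔ hits target q q N = true := by
  have h := hits_iff target q N 0
  rw [zero_add, pow_one] at h
  rw [h]
  constructor
  · intro ht
    obtain ⟨k, rfl⟩ := Subgroup.mem_zpowers_iff.1 ht
    refine ⟨((k - 1) % (N : ℤ)).toNat, ?_, ?_⟩
    · have h1 := Int.emod_lt_of_pos (k - 1) (by exact_mod_cast hN : (0 : ℤ) < N)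
      have h2 := Int.emod_nonneg (k - 1) (by exact_mod_cast hN.ne' : (N : ℤ) ≠ 0)
      omega
    · have h2 := Int.emod_nonneg (k - 1) (by exact_mod_cast hN.ne' : (N : ℤ) ≠ 0)
      rw [← zpow_natCast, Nat.cast_add, Int.toNat_of_nonneg h2, Int.emod_def, Nat.cast_one, zpow_add, zpow_sub,
        zpow_mul, zpow_natCast, hq, one_zpow, inv_one, mul_one, ← zpow_add]
      congr 1
      omega
  · rintro ⟨j, -, e⟩
    rw [← e]
    exact Subgroup.npow_mem_zpowers _ _

theorem c0_pow_24 : ∀ c : C0, c ^ 24 = 1 := fun c =>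
  eq_of_beq (forall_of_all (p := fun c => c ^ 24 == 1) (by decide +kernel) c)

/-- the members of the first class of involutions -/
def xB (col : Bool) (c : C0) : Bool := kd c == 1 || kd c == 3 || (col && kd c == 2)

/-- the members of the second class of involutions -/
def tB (col : Bool) (c : C0) : Bool := kd c == 4 || (!col && kd c == 2)

/-- ordered pairs for the first involution -/
def pairsZ (col : Bool) : ℕ :=
  ((allEl.filter (xB col)).map fun c => ((allEl.filter (tB col)).filter fun d => hits z0 (c * d) (c * d) 24).length).sum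

theorem pairsZ_col : pairsZ true = 240 := by decide +kernel

theorem pairsZ_row : pairsZ false = 48 := by decide +kernel

/-- ordered pairs for the second involution, small case -/
def pairsW : ℕ :=
  (([z0, el 24, el 25] : List C0).map fun c => ((allEl.filter fun d => d * b0 == b0 * d &&
    decide (1 ≤ kd d ∧ kd d ≤ 4) && !([z0, el 24, el 25] : List C0).contains d).filter fun d =>
      hits b0 (c * d) (c * d) 24).length).sum

theorem pairsW_eq : pairsW = 3 := by decide +kernel

/-- ordered noncommuting pairs in the centraliser with the central involution among the powers of the product -/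
def pairsXX : ℕ :=
  ((allEl.filter (xB true)).map fun c => ((allEl.filter (xB true)).filter fun d =>
    !(c * d == d * c) && hits z0 (c * d) (c * d) 24).length).sum

theorem pairsXX_eq : pairsXX = 288 := by decide +kernel

theorem xB_count : (allEl.filter (xB true)).length = 31 ∧ (allEl.filter (xB false)).length = 7 := by decide +kernel

theorem xB_false_comm : ∀ c : C0, xB false c = true → ∀ d : C0, xB false d = true → c * d = d * c := fun c hc d hd => by
  have h := forall_of_all (p := fun c => !(xB false c) || allEl.all fun d => !(xB false d) || c * d == d * c)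
    (by decide +kernel) c
  simp [hc] at h
  simpa [hd] using h d (mem_allEl d)

/-- the double transpositions of five letters -/
def dbl5 : Finset (Equiv.Perm (Fin 5)) := Finset.univ.filter IsDbl

/-- the double transpositions of four letters -/
def dbl4 : Finset (Equiv.Perm (Fin 4)) := Finset.univ.filter IsDbl

/-- the involutions of the second kind -/
def tInv5 : Finset (Two × Equiv.Perm (Fin 5)) :=
  Finset.univ.filter fun q => q * q = 1 ∧ q ≠ 1 ∧ ¬ (q.1 = 1 ∧ IsDbl q.2)

/-- the involutions of the second kind on four letters -/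
def tInv4 : Finset (Two × Equiv.Perm (Fin 4)) :=
  Finset.univ.filter fun q => q * q = 1 ∧ q ≠ 1 ∧ ¬ (q.1 = 1 ∧ IsDbl q.2)

theorem two_sq : ∀ a : Two, a * a = 1 := by decide

theorem perm4_orders : ∀ v : Equiv.Perm (Fin 4), v * v * v = 1 ∨ v * v * (v * v) = 1 := by decide +kernel

theorem perm5_orders : ∀ v : Equiv.Perm (Fin 5),
    v * v * v * (v * v * v) = 1 ∨ v * v * (v * v) = 1 ∨ v * v * v * v * v = 1 := by decide +kernel

theorem sym4_pow (q : Two × Equiv.Perm (Fin 4)) : q ^ 60 = 1 := by
  refine Prod.ext ?_ ?_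
  · show q.1 ^ 60 = 1
    rw [show (60 : ℕ) = 2 * 30 from rfl, pow_mul, sq, two_sq, one_pow]
  · show q.2 ^ 60 = 1
    generalize hv : q.2 = v
    rcases perm4_orders v with h | h
    · have e : v ^ (1 + 1 + 1) = 1 := by rw [pow_add, pow_add, pow_one, h]
      calc v ^ 60 = (v ^ (1 + 1 + 1)) ^ 20 := by rw [← pow_mul]
        _ = 1 := by rw [e, one_pow]
    · have e : v ^ (1 + 1 + (1 + 1)) = 1 := by rw [pow_add, pow_add, pow_one, h]
      calc v ^ 60 = (v ^ (1 + 1 + (1 + 1))) ^ 15 := by rw [← pow_mul]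
        _ = 1 := by rw [e, one_pow]

theorem sym5_pow (q : Two × Equiv.Perm (Fin 5)) : q ^ 60 = 1 := by
  refine Prod.ext ?_ ?_
  · show q.1 ^ 60 = 1
    rw [show (60 : ℕ) = 2 * 30 from rfl, pow_mul, sq, two_sq, one_pow]
  · show q.2 ^ 60 = 1
    generalize hv : q.2 = v
    rcases perm5_orders v with h | h | h
    · have e : v ^ (1 + 1 + 1 + (1 + 1 + 1)) = 1 := by rw [pow_add, pow_add, pow_add, pow_one, h]
      calc v ^ 60 = (v ^ (1 + 1 + 1 + (1 + 1 + 1))) ^ 10 := by rw [← pow_mul]
        _ = 1 := by rw [e, one_pow]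
    · have e : v ^ (1 + 1 + (1 + 1)) = 1 := by rw [pow_add, pow_add, pow_one, h]
      calc v ^ 60 = (v ^ (1 + 1 + (1 + 1))) ^ 15 := by rw [← pow_mul]
        _ = 1 := by rw [e, one_pow]
    · have e : v ^ (1 + 1 + 1 + 1 + 1) = 1 := by rw [pow_add, pow_add, pow_add, pow_add, pow_one, h]
      calc v ^ 60 = (v ^ (1 + 1 + 1 + 1 + 1)) ^ 12 := by rw [← pow_mul]
        _ = 1 := by rw [e, one_pow]

theorem two_cases : ∀ a : Two, a = 1 ∨ a = gen2 := by decide

theorem hits_two {n : ℕ} (q : Two × Equiv.Perm (Fin n))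
    (he : q.2 * q.2 * q.2 = 1 ∨ q.2 * q.2 * (q.2 * q.2) = 1 ∨ q.2 * q.2 * q.2 * q.2 * q.2 = 1 ∨
      q.2 * q.2 * q.2 * (q.2 * q.2 * q.2) = 1) :
    hits (gen2, 1) q q 60 = true ↔
      q.1 ≠ 1 ∧ (q.2 * q.2 * q.2 = 1 ∨ q.2 * q.2 * q.2 * q.2 * q.2 = 1) := by
  have h := hits_iff (gen2, 1) q 60 0
  rw [zero_add, pow_one] at h
  rw [h]
  obtain ⟨a, v⟩ := q
  constructor
  · rintro ⟨j, -, e⟩
    have e1 : a ^ (1 + j) = gen2 := congrArg Prod.fst e
    have e2 : v ^ (1 + j) = 1 := congrArg Prod.snd e
    have ha : a ≠ 1 := fun h => by rw [h, one_pow] at e1; exact absurd e1 (by decide)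
    have hodd : ¬ (2 ∣ 1 + j) := fun ⟨k, hk⟩ => by
      rw [hk, pow_mul, sq, two_sq, one_pow] at e1; exact absurd e1 (by decide)
    refine ⟨ha, ?_⟩
    have hd : orderOf v ∣ 1 + j := orderOf_dvd_of_pow_eq_one e2
    have h2 : ¬ (2 ∣ orderOf v) := fun h => hodd (h.trans hd)
    have key : ∀ N : ℕ, orderOf v ∣ 2 * N → v ^ N = 1 := fun N hN =>
      orderOf_dvd_iff_pow_eq_one.1 (Nat.Coprime.dvd_of_dvd_mul_left
        (Nat.Coprime.symm (Nat.prime_two.coprime_iff_not_dvd.2 h2)) hN)
    rcases he with h | h | h | h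
    · exact Or.inl h
    · have h4 : v ^ 4 = 1 := by rw [show (4 : ℕ) = 1 + 1 + (1 + 1) from rfl, pow_add, pow_add, pow_one]; exact h
      have h2' : v ^ 2 = 1 := key 2 (orderOf_dvd_of_pow_eq_one h4)
      have h1' : v = 1 := by
        simpa using key 1 (orderOf_dvd_of_pow_eq_one h2')
      simp [h1']
    · exact Or.inr h
    · have h6 : v ^ 6 = 1 := by
        rw [show (6 : ℕ) = 1 + 1 + 1 + (1 + 1 + 1) from rfl, pow_add, pow_add, pow_add, pow_one]; exact h
      have h3 := key 3 (orderOf_dvd_of_pow_eq_one h6)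
      rw [show (3 : ℕ) = 1 + 1 + 1 from rfl, pow_add, pow_add, pow_one] at h3
      exact Or.inl h3
  · rintro ⟨ha, h | h⟩
    · refine ⟨2, by norm_num, Prod.ext ?_ ?_⟩
      · show a ^ (1 + 2) = gen2
        rw [(two_cases a).resolve_left ha]; decide
      · show v ^ (1 + 2) = 1
        rw [pow_add, pow_one, sq, ← mul_assoc]; exact h
    · refine ⟨4, by norm_num, Prod.ext ?_ ?_⟩
      · show a ^ (1 + 4) = gen2
        rw [(two_cases a).resolve_left ha]; decide
      · show v ^ (1 + 4) = 1
        rw [show (1 + 4 : ℕ) = 1 + 1 + 1 + 1 + 1 from rfl, pow_add, pow_add, pow_add, pow_add, pow_one]; exact h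

theorem perm4_exp (v : Equiv.Perm (Fin 4)) : v * v * v = 1 ∨ v * v * (v * v) = 1 ∨ v * v * v * v * v = 1 ∨
    v * v * v * (v * v * v) = 1 := by
  rcases perm4_orders v with h | h
  · exact Or.inl h
  · exact Or.inr (Or.inl h)

theorem perm5_exp (v : Equiv.Perm (Fin 5)) : v * v * v = 1 ∨ v * v * (v * v) = 1 ∨ v * v * v * v * v = 1 ∨
    v * v * v * (v * v * v) = 1 := by
  rcases perm5_orders v with h | h | h
  · exact Or.inr (Or.inr (Or.inr h))
  · exact Or.inr (Or.inl h)
  · exact Or.inr (Or.inr (Or.inl h))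

theorem pairs_sym4 : (((({1} : Finset Two) ×ˢ dbl4) ×ˢ tInv4).filter fun p =>
      hits (gen2, 1) (p.1 * p.2) (p.1 * p.2) 60 = true).card = 3 := by
  rw [Finset.filter_congr fun p _ => hits_two (p.1 * p.2) (perm4_exp _)]
  decide +kernel

theorem pairs_sym5 : (((({1} : Finset Two) ×ˢ dbl5) ×ˢ tInv5).filter fun p =>
      hits (gen2, 1) (p.1 * p.2) (p.1 * p.2) 60 = true).card = 195 := by
  rw [Finset.filter_congr fun p _ => hits_two (p.1 * p.2) (perm5_exp _)]
  decide +kernel

end Cfsg.Agent.MTwelve
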