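import Cfsg.Agent.Lib.Spor.MTwelve.Classes
import Cfsg.Agent.Lib.Spor.MTwelve.RealCent
import Cfsg.Agent.Lib.Spor.MTwelve.Iso
import Cfsg.Prelude.Def_Sporadic

/-!
The numbers of elements of each order in the Mathieu group of degree twelve, and recognition of simplicity from them.
-/

set_option autoImplicit false
set_option linter.style.haveILetI false
set_option linter.unusedSectionVars false

namespace Cfsg.Agent.MTwelve

open MulAction

theorem isM12_concrete : Cfsg.IsM12 ↥Cfsg.Spor.M12 := by
  obtain ⟨e⟩ := m12_stab Cfsg.Agent.Local.FS.squareDodecad_mem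
  haveI := Cfsg.Agent.Spor.simple_stab_dodecad Cfsg.Agent.Local.FS.squareDodecad_mem
  exact ⟨MulEquiv.isSimpleGroup e,
    (Nat.card_congr e.toEquiv).trans (Cfsg.Agent.Spor.card_stab_dodecad Cfsg.Agent.Local.FS.squareDodecad_mem)⟩

theorem concrete_not_comm : ¬ IsMulCommutative ↥Cfsg.Spor.M12 := fun h => by
  haveI := isM12_concrete.1
  letI : CommGroup ↥Cfsg.Spor.M12 := { (inferInstance : Group ↥Cfsg.Spor.M12) with
    mul_comm := fun a b => h.is_comm.comm a b }
  have := IsSimpleGroup.prime_card (α := ↥Cfsg.Spor.M12)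
  rw [isM12_concrete.2] at this
  norm_num at this

/-- the parametrisation of an involution centraliser in the concrete group -/
noncomputable def concreteSetup : Setup ↥Cfsg.Spor.M12 where
  z := embHom C0.z0
  ι := embHom
  inj := embHom_injective
  range_eq := range_embHom
  map_z := rfl

namespace Frame

variable {G : Type*} [Group G] (F : Frame G) [Finite G] [IsSimpleGroup G]

include F in
/-- representatives of the given order -/
theorem count_even {n : ℕ} (hn : 2 ∣ n) : Nat.card {g : G // orderOf g = n} =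
    ∑ i ∈ (Finset.univ.filter fun i : Fin 13 => repOrd i = n), repSize i := by
  classical
  haveI := Fintype.ofFinite G
  rw [Nat.card_eq_fintype_card, Fintype.card_subtype,
    show (Finset.univ.filter fun g : G => orderOf g = n) = (Finset.univ.filter fun i : Fin 13 => repOrd i = n).biUnion
      fun i => Finset.univ.filter fun g => IsConj (F.rep i) g from ?_, Finset.card_biUnion]
  · exact Finset.sum_congr rfl fun i _ => by
      rw [← F.rep_size i, Nat.card_eq_fintype_card, Fintype.card_subtype]
  · intro i _ j _ hij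
    rw [Function.onFun, Finset.disjoint_filter]
    exact fun g _ h1 h2 => hij (F.rep_inj i j (h1.trans h2.symm))
  · ext g
    simp only [Finset.mem_filter, Finset.mem_univ, true_and, Finset.mem_biUnion]
    constructor
    · intro hg
      obtain ⟨i, -, -, hi⟩ := F.even_cover (g := g) (hg ▸ hn)
      exact ⟨i, by rw [← F.rep_order, Fusion.orderOf_isConj hi, hg], hi⟩
    · rintro ⟨i, hi, h⟩
      rw [← Fusion.orderOf_isConj h, F.rep_order, hi]

include F in
theorem count_values {n : ℕ} (h : 0 < Nat.card {g : G // orderOf g = n}) :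
    Nat.card {g : G // orderOf g = n} ∈ ([1, 891, 4400, 5940, 9504, 17280, 23760] : List ℕ) := by
  obtain ⟨⟨g, hg⟩⟩ := (Nat.card_pos_iff.1 h).1
  by_cases h2 : 2 ∣ n
  · rw [F.count_even h2]
    obtain ⟨i, h1, h9, hi⟩ := F.even_cover (g := g) (hg ▸ h2)
    have hn : repOrd i = n := by rw [← F.rep_order, Fusion.orderOf_isConj hi, hg]
    subst hn
    clear h h2 hg hi h1 h9
    revert i
    decide +kernel
  have h2' : ¬ 2 ∣ orderOf g := hg.symm ▸ h2
  rcases F.odd_cases h2' with e | e | e | ⟨e27, e1⟩
  · rw [hg] at e; subst e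
    have : Nat.card {g : G // orderOf g = 1} = 1 :=
      Nat.card_eq_one_iff_unique.2 ⟨⟨fun a b => Subtype.ext (by
        rw [orderOf_eq_one_iff.1 a.2, orderOf_eq_one_iff.1 b.2])⟩, ⟨⟨1, orderOf_one⟩⟩⟩
    rw [this]; simp
  · rw [hg] at e; subst e
    rw [F.count_eleven]; simp
  · have := Fusion.orderOf_isConj e
    rw [F.order_five, hg] at this
    subst this
    rw [F.five_local.2.2]; simp
  · have h3 : ∀ x : G, orderOf x ∣ 27 → orderOf x ≠ 1 → orderOf x = 3 := fun x hx hx1 => by
      rcases F.three_sizes.2.2 x hx hx1 with h' | h' <;>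
        rw [← Fusion.orderOf_isConj h', F.rep_order] <;> rfl
    have hn : n = 3 := by rw [← hg]; exact h3 g e27 e1
    subst hn
    have : Nat.card {g : G // orderOf g = 3} = Nat.card {g : G // orderOf g ∣ 27 ∧ orderOf g ≠ 1} :=
      Nat.card_congr (Equiv.subtypeEquivRight fun x => ⟨fun hx => by rw [hx]; norm_num, fun hx => h3 x hx.1 hx.2⟩)
    rw [this, F.three_count]; simp

end Frame

theorem concrete_values {n : ℕ} (h : 0 < Nat.card {g : ↥Cfsg.Spor.M12 // orderOf g = n}) :
    Nat.card {g : ↥Cfsg.Spor.M12 // orderOf g = n} ∈ ([1, 891, 4400, 5940, 9504, 17280, 23760] : List ℕ) := by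
  haveI := isM12_concrete.1
  obtain ⟨F⟩ := exists_frame concrete_not_comm concreteSetup
  exact F.count_values h

theorem div_8640_aux : ∀ j : Fin 786, 11 * (j : ℕ) + 1 ∣ 8640 → (j : ℕ) ∈ ([0, 1, 4, 13, 29, 49, 157] : List ℕ) := by
  decide +kernel

theorem div_8640 (d : ℕ) (h : d < 8641) (hd : d ∣ 8640) (hm : d % 11 = 1) :
    d ∈ ([1, 12, 45, 144, 320, 540, 1728] : List ℕ) := by
  have := div_8640_aux ⟨d / 11, by omega⟩ (by rwa [show 11 * (d / 11) + 1 = d by omega])
  simp only [List.mem_cons, List.not_mem_nil, or_false] at this ⊢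
  omega

/-- A prime power divisor of `8640` congruent to one modulo eleven is one. -/
theorem prime_power_one {q k : ℕ} (hq : q.Prime) (hd : q ^ k ∣ 8640) (hm : q ^ k % 11 = 1) : q ^ k = 1 := by
  have h := div_8640 _ (Nat.lt_succ_of_le (Nat.le_of_dvd (by norm_num) hd)) hd hm
  simp only [List.mem_cons, List.not_mem_nil, or_false] at h
  rcases h with h | h
  · exact h
  exfalso
  have key : ∀ r : ℕ, r.Prime → r ∣ q ^ k → q = r := fun r hr hd' =>
    ((Nat.prime_dvd_prime_iff_eq hr hq).1 (hr.dvd_of_dvd_pow hd')).symm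
  have h235 : (2 ∣ q ^ k ∧ 3 ∣ q ^ k) ∨ (3 ∣ q ^ k ∧ 5 ∣ q ^ k) ∨ (2 ∣ q ^ k ∧ 5 ∣ q ^ k) := by omega
  rcases h235 with ⟨a, b⟩ | ⟨a, b⟩ | ⟨a, b⟩
  · have := key 2 Nat.prime_two a; have := key 3 Nat.prime_three b; omega
  · have := key 3 Nat.prime_three a; have := key 5 Nat.prime_five b; omega
  · have := key 2 Nat.prime_two a; have := key 5 Nat.prime_five b; omega

variable {G : Type*} [Group G] [Finite G]

theorem sylow_eleven_of_card (hcard : Nat.card G = 95040) (P : Sylow 11 G) : Nat.card (P : Subgroup G) = 11 := by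
  haveI : Fact (Nat.Prime 11) := ⟨by norm_num⟩
  rw [P.card_eq_multiplicity, hcard, show (95040 : ℕ) = 11 ^ 1 * 8640 by norm_num,
    Nat.factorization_mul (by norm_num) (by norm_num), Finsupp.add_apply,
    (by norm_num : Nat.Prime 11).factorization_pow, Finsupp.single_eq_same,
    Nat.factorization_eq_zero_of_not_dvd (by norm_num)]
  norm_num

/-- A normal subgroup of order prime to eleven is trivial when elements of order eleven are self-centralising. -/
theorem eq_bot_of_coprime (hcard : Nat.card G = 95040)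
    (hcent : ∀ x : G, orderOf x = 11 → Nat.card (Subgroup.centralizer ({x} : Set G)) = 11)
    (N : Subgroup G) [hN : N.Normal] (h11 : ¬ 11 ∣ Nat.card N) : N = ⊥ := by
  classical
  haveI : Fact (Nat.Prime 11) := ⟨by norm_num⟩
  by_contra hne
  obtain ⟨q, hq, hqN⟩ := Nat.exists_prime_and_dvd fun e => hne (Subgroup.card_eq_one.1 e)
  haveI := Fact.mk hq
  obtain ⟨Q⟩ : Nonempty (Sylow q N) := inferInstance
  have htop := Sylow.normalizer_sup_eq_top Q
  set M := (Q : Subgroup N).map N.subtype with hM
  have hM11 : 11 ∣ Nat.card (Subgroup.normalizer (M : Set G)) := by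
    have hsurj : Function.Surjective ((QuotientGroup.mk' N).comp (Subgroup.normalizer (M : Set G)).subtype) := by
      intro y
      obtain ⟨g, rfl⟩ := QuotientGroup.mk'_surjective N y
      have hg : g ∈ Subgroup.normalizer (M : Set G) ⊔ N := by rw [htop]; exact Subgroup.mem_top g
      rw [← SetLike.mem_coe, Subgroup.mul_normal] at hg
      obtain ⟨a, ha, n, hn, rfl⟩ := hg
      exact ⟨⟨a, ha⟩, by
        show (QuotientGroup.mk' N) a = (QuotientGroup.mk' N) (a * n)
        rw [map_mul, show (QuotientGroup.mk' N) n = 1 from (QuotientGroup.eq_one_iff n).2 hn, mul_one]⟩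
    refine dvd_trans ?_ (Subgroup.card_dvd_of_surjective _ hsurj)
    have : 11 ∣ N.index * Nat.card N := by rw [N.index_mul_card, hcard]; norm_num
    exact ((Nat.Prime.dvd_mul (by norm_num)).1 this).resolve_right h11
  obtain ⟨⟨x, hxn⟩, hx⟩ := exists_prime_orderOf_dvd_card' (G := Subgroup.normalizer (M : Set G)) 11 hM11
  have hxo : orderOf x = 11 := by rwa [Subgroup.orderOf_mk] at hx
  obtain ⟨k, hk⟩ := Q.isPGroup'.exists_card_eq
  have hMc : Nat.card M = q ^ k := (Subgroup.card_map_of_injective Subtype.val_injective).trans hk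
  have hMN : M ≤ N := Subgroup.map_subtype_le _
  let X := Subgroup.zpowers (⟨x, hxn⟩ : Subgroup.normalizer (M : Set G))
  let φ : X →* MulAut M := (M.normalizerMonoidHom).comp X.subtype
  letI : MulAction X M := MulAction.compHom _ φ
  have hmod := (IsPGroup.of_card (n := 1) (by rw [Nat.card_zpowers, hx, pow_one]) :
    IsPGroup 11 X).card_modEq_card_fixedPoints M
  have hfix : Nat.card (fixedPoints X M) = 1 := by
    refine Nat.card_eq_one_iff_unique.2 ⟨⟨fun a b => ?_⟩, ⟨⟨1, fun s => Subtype.ext (show
      ((s : Subgroup.normalizer (M : Set G)) : G) * 1 * ((s : Subgroup.normalizer (M : Set G)) : G)⁻¹ = 1 by group)⟩⟩⟩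
    have key : ∀ c : fixedPoints X M, ((c : M) : G) = 1 := by
      rintro ⟨c, hc⟩
      have hcomm : (c : G) * x = x * c :=
        (mul_inv_eq_iff_eq_mul.1 (congrArg Subtype.val (hc ⟨_, Subgroup.mem_zpowers _⟩))).symm
      have h11c := Subgroup.orderOf_dvd_natCard (Subgroup.centralizer ({x} : Set G))
        (Subgroup.mem_centralizer_singleton_iff.2 hcomm)
      rw [hcent _ hxo] at h11c
      rcases (Nat.dvd_prime (by norm_num : Nat.Prime 11)).1 h11c with e | e
      · exact orderOf_eq_one_iff.1 e
      · exact absurd (e ▸ Subgroup.orderOf_dvd_natCard N (hMN c.2)) h11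
    exact Subtype.ext (Subtype.ext ((key a).trans (key b).symm))
  rw [hfix, hMc] at hmod
  have hd : q ^ k ∣ 8640 := by
    have h7 : q ^ k ∣ 11 * 8640 := by
      have := hMc ▸ Subgroup.card_subgroup_dvd_card M
      rwa [hcard] at this
    refine (((by norm_num : Nat.Prime 11).coprime_iff_not_dvd.2 fun h => h11 ?_).symm).dvd_of_dvd_mul_left h7
    exact h.trans (hMc ▸ Subgroup.card_dvd_of_le hMN)
  have h1 := prime_power_one hq hd hmod
  exact Q.ne_bot_of_dvd_card hqN (Subgroup.card_eq_one.1 (hk.trans h1))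

/-- A group of order 95040 with 1728 self-centralising Sylow 11-subgroups is simple. -/
theorem simple_of_eleven (hcard : Nat.card G = 95040) (h1728 : Nat.card (Sylow 11 G) = 1728)
    (hcent : ∀ x : G, orderOf x = 11 → Nat.card (Subgroup.centralizer ({x} : Set G)) = 11) : IsSimpleGroup G := by
  classical
  haveI : Fact (Nat.Prime 11) := ⟨by norm_num⟩
  haveI : Nontrivial G := Finite.one_lt_card_iff_nontrivial.1 (by omega)
  have hP := sylow_eleven_of_card hcard
  refine ⟨fun N hN => ?_⟩
  haveI := hN
  by_cases h11 : 11 ∣ Nat.card N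
  swap
  · exact Or.inl (eq_bot_of_coprime hcard hcent N h11)
  refine Or.inr ?_
  have hall : ∀ P : Sylow 11 G, (P : Subgroup G) ≤ N := by
    intro P
    obtain ⟨x, hx⟩ := exists_prime_orderOf_dvd_card' (G := N) 11 h11
    obtain ⟨P₀, hP₀⟩ := (IsPGroup.of_card (n := 1) (by rw [Nat.card_zpowers, Subgroup.orderOf_coe, hx, pow_one]) :
      IsPGroup 11 (Subgroup.zpowers (x : G))).exists_le_sylow
    have e : Subgroup.zpowers (x : G) = (P₀ : Subgroup G) :=
      Subgroup.eq_of_le_of_card_ge hP₀ (by rw [Nat.card_zpowers, Subgroup.orderOf_coe, hx, hP P₀])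
    obtain ⟨g, rfl⟩ := MulAction.exists_smul_eq G P₀ P
    intro a ha
    have h' := (MathieuEleven.mem_smul_sylow P₀).1 ha
    rw [← e] at h'
    have h'' := hN.conj_mem _ ((Subgroup.zpowers_le).2 x.2 h') g
    rwa [show g * (g⁻¹ * a * g) * g⁻¹ = a by group] at h''
  by_contra htop
  obtain ⟨P⟩ : Nonempty (Sylow 11 G) := inferInstance
  obtain ⟨-, hprod, -⟩ := MathieuEleven.sylow_count_in P (hall P)
  rw [Nat.card_congr (Equiv.subtypeUnivEquiv hall), h1728] at hprod
  set NP := Subgroup.normalizer ((P : Subgroup G) : Set G) with hNP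
  have hNP55 : Nat.card NP = 55 := by
    have h := MathieuEleven.sylow_mul_normalizer P
    rw [h1728, hcard] at h
    rw [hNP]; omega
  have hNlt : Nat.card N < 95040 := by
    rcases lt_or_ge (Nat.card N) 95040 with h | h
    · exact h
    · exact absurd (Subgroup.eq_top_of_card_eq N (le_antisymm (Subgroup.card_le_card_group N) (hcard ▸ h))) htop
  have hd : Nat.card ↥(N ⊓ NP) ∣ 11 * 5 := by
    have := Subgroup.card_dvd_of_le (inf_le_right : N ⊓ NP ≤ NP)
    rwa [hNP55] at this
  have hPd : 11 ∣ Nat.card ↥(N ⊓ NP) :=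
    hP P ▸ Subgroup.card_dvd_of_le (le_inf (hall P) Subgroup.le_normalizer)
  have hNN : Nat.card ↥(N ⊓ NP) = 11 := by
    obtain ⟨a, ha⟩ := hPd
    have ha5 : a ∣ 5 := Nat.dvd_of_mul_dvd_mul_left (by norm_num : 0 < 11) (by rwa [← ha])
    rcases (Nat.dvd_prime Nat.prime_five).1 ha5 with rfl | rfl
    · exact ha
    · omega
  obtain ⟨P', hP'⟩ : ∃ P' : Sylow 11 N, P' = P.subtype (hall P) := ⟨_, rfl⟩
  have hP'c : Nat.card (P' : Subgroup N) = 11 := by
    rw [hP']
    exact (Nat.card_congr (Subgroup.subgroupOfEquivOfLe (hall P)).toEquiv).trans (hP P)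
  have hcen : Subgroup.normalizer ((P' : Subgroup N) : Set N) ≤ Subgroup.centralizer ((P' : Subgroup N) : Set N) := by
    have hle : (P' : Subgroup N) ≤ Subgroup.normalizer ((P' : Subgroup N) : Set N) := Subgroup.le_normalizer
    have heq : Subgroup.normalizer ((P' : Subgroup N) : Set N) = (P' : Subgroup N) := by
      refine (Subgroup.eq_of_le_of_card_ge hle ?_).symm
      have h := MathieuEleven.sylow_mul_normalizer P'
      have h2 : Nat.card (Sylow 11 N) = 1728 := by
        rw [← h1728]
        refine Nat.card_congr (Equiv.ofBijective (fun Q : Sylow 11 G => Q.subtype (hall Q))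
          ⟨fun a b hab => Sylow.subtype_injective hab, fun R => ?_⟩).symm
        obtain ⟨g, hg⟩ := MulAction.exists_smul_eq N (P.subtype (hall P)) R
        refine ⟨(g : G) • P, ?_⟩
        rw [← hg, Sylow.smul_subtype (hP := hall P)]
        rfl
      rw [h2, ← hprod, hNN] at h
      rw [hP'c]; omega
    rw [heq]
    exact fun a ha => Subgroup.mem_centralizer_iff.2 fun b hb => MathieuEleven.comm_of_prime hP'c b hb a ha
  have hcompl := MonoidHom.ker_transferSylow_isComplement' P' hcen
  set f := MonoidHom.transferSylow P' hcen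
  have hK : Nat.card f.ker = 1728 := by
    have := hcompl.card_mul_card
    rw [hP'c, ← hprod, hNN] at this
    omega
  haveI : f.ker.Characteristic := by
    rw [Subgroup.characteristic_iff_comap_le]
    intro φ a ha
    have h1 : f a ^ 1728 = 1 := by
      have := Subgroup.orderOf_dvd_natCard f.ker (x := φ.toMonoidHom a) ha
      rw [hK] at this
      have e : orderOf (φ.toMonoidHom a) = orderOf a := φ.orderOf_eq a
      rw [e] at this
      rw [← map_pow, orderOf_dvd_iff_pow_eq_one.1 this, map_one]
    have h2 : f a ^ 11 = 1 := orderOf_dvd_iff_pow_eq_one.1 ((orderOf_dvd_natCard (f a)).trans (dvd_of_eq hP'c))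
    rw [MonoidHom.mem_ker]
    simpa using (pow_gcd_eq_one.2 ⟨h1, h2⟩ : f a ^ Nat.gcd 1728 11 = 1)
  have hKc : Nat.card (f.ker.map N.subtype) = 1728 := by
    rw [Subgroup.card_map_of_injective Subtype.val_injective, hK]
  have := eq_bot_of_coprime hcard hcent (f.ker.map N.subtype) (by rw [hKc]; norm_num)
  rw [this, Subgroup.card_bot] at hKc
  omega

/-- Recognition from the order and the set of numbers of elements of equal order. -/
theorem isM12_of_counts (hcard : Nat.card G = Nat.card ↥Cfsg.Spor.M12)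
    (hnse : {c : ℕ | 0 < c ∧ ∃ n : ℕ, c = Nat.card {g : G // orderOf g = n}} =
      {c : ℕ | 0 < c ∧ ∃ n : ℕ, c = Nat.card {g : ↥Cfsg.Spor.M12 // orderOf g = n}}) : Cfsg.IsM12 G := by
  classical
  haveI : Fact (Nat.Prime 11) := ⟨by norm_num⟩
  rw [isM12_concrete.2] at hcard
  have hval : ∀ n, 0 < Nat.card {g : G // orderOf g = n} →
      Nat.card {g : G // orderOf g = n} ∈ ([1, 891, 4400, 5940, 9504, 17280, 23760] : List ℕ) := by
    intro n hn
    obtain ⟨hp, m, hm⟩ := (Set.ext_iff.1 hnse (Nat.card {g : G // orderOf g = n})).1 ⟨hn, n, rfl⟩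
    rw [hm] at hp ⊢
    exact concrete_values hp
  have hP := sylow_eleven_of_card hcard
  have h1728 : Nat.card (Sylow 11 G) = 1728 := by
    obtain ⟨P⟩ : Nonempty (Sylow 11 G) := inferInstance
    have hd : Nat.card (Sylow 11 G) ∣ 8640 := by
      have h := P.card_dvd_index
      have h' := (P : Subgroup G).index_mul_card
      rw [hP P, hcard] at h'
      rwa [show (P : Subgroup G).index = 8640 by omega] at h
    have hcount := MathieuEleven.count_prime 10 hP (fun P a ha h => MathieuEleven.prime_order hP P a ha h)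
      (MathieuEleven.prime_unique hP)
    have hpos : 0 < Nat.card {g : G // orderOf g = 11} := by
      rw [hcount]
      have : 0 < Nat.card (Sylow 11 G) := Nat.card_pos
      omega
    have hv := hval 11 hpos
    rw [hcount] at hv
    have h := div_8640 _ (Nat.lt_succ_of_le (Nat.le_of_dvd (by norm_num) hd)) hd (card_sylow_modEq_one 11 G)
    simp only [List.mem_cons, List.not_mem_nil, or_false] at h hv
    omega
  refine ⟨simple_of_eleven hcard h1728 fun x hx => ?_, hcard⟩
  obtain ⟨Q, hQ⟩ := (IsPGroup.of_card (n := 1) (by rw [Nat.card_zpowers, hx, pow_one]) :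
    IsPGroup 11 (Subgroup.zpowers x)).exists_le_sylow
  have e : Subgroup.zpowers x = (Q : Subgroup G) :=
    Subgroup.eq_of_le_of_card_ge hQ (by rw [Nat.card_zpowers, hx, hP Q])
  rw [← MathieuEleven.centralizer_gen e]
  have hN : ∀ R : Sylow 11 G, Nat.card (Subgroup.normalizer ((R : Subgroup G) : Set G)) = 55 := fun R => by
    have h := MathieuEleven.sylow_mul_normalizer R
    rw [h1728, hcard] at h
    omega
  have hd : Nat.card (Subgroup.centralizer ((Q : Subgroup G) : Set G)) ∣ 11 * 5 := by
    have := Subgroup.card_dvd_of_le (Subgroup.centralizer_le_normalizer ((Q : Subgroup G) : Set G))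
    rwa [hN Q] at this
  obtain ⟨a, ha⟩ := MathieuEleven.self_dvd_centralizer (hP Q)
  have ha5 : a ∣ 5 := Nat.dvd_of_mul_dvd_mul_left (by norm_num : 0 < 11) (by rwa [← ha])
  rcases (Nat.dvd_prime Nat.prime_five).1 ha5 with rfl | rfl
  · exact ha
  exfalso
  -- elements of order 55: forty in each centraliser
  have h55 : Nat.card {g : G // orderOf g = 55} = 69120 := by
    haveI : Fintype (Sylow 11 G) := Fintype.ofFinite _
    have hC : ∀ R : Sylow 11 G, Nat.card (Subgroup.centralizer ((R : Subgroup G) : Set G)) = 55 := by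
      intro R
      obtain ⟨g, rfl⟩ := MulAction.exists_smul_eq G Q R
      refine le_antisymm ?_ ?_
      · have hd' := Subgroup.card_dvd_of_le
          (Subgroup.centralizer_le_normalizer (((g • Q : Sylow 11 G) : Subgroup G) : Set G))
        rw [hN (g • Q)] at hd'
        exact Nat.le_of_dvd (by norm_num) hd'
      · rw [← show Nat.card (Subgroup.centralizer ((Q : Subgroup G) : Set G)) = 55 from ha]
        exact Nat.card_le_card_of_injective
          (fun a => ⟨g * a * g⁻¹, MathieuEleven.conj_centralizer_smul Q a.2⟩)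
          (fun a b e => Subtype.ext (mul_left_cancel (mul_right_cancel (congrArg Subtype.val e))))
    let f : (Σ R : Sylow 11 G, {a : Subgroup.centralizer ((R : Subgroup G) : Set G) // orderOf a = 55}) →
        {g : G // orderOf g = 55} := fun x => ⟨(x.2.1 : G), by rw [Subgroup.orderOf_coe]; exact x.2.2⟩
    have hfifth : ∀ (R : Sylow 11 G) (b : G), b ∈ Subgroup.centralizer ((R : Subgroup G) : Set G) →
        orderOf b = 55 → Subgroup.zpowers (b ^ 5) = (R : Subgroup G) := by
      intro R b hb hb55
      have h5 : orderOf (b ^ 5) = 11 := by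
        rw [orderOf_pow' _ (by norm_num), hb55]; norm_num
      refine Subgroup.eq_of_le_of_card_ge ((Subgroup.zpowers_le).2 ?_) (by rw [Nat.card_zpowers, h5, hP R])
      exact MathieuEleven.mem_of_normalises ⟨1, by rw [pow_one, ← h5, pow_orderOf_eq_one]⟩ R
        (pow_mem (Subgroup.centralizer_le_normalizer _ hb) 5)
    have hf : Function.Bijective f := by
      constructor
      · rintro ⟨R, ⟨a, haR⟩, ha55⟩ ⟨R', ⟨b, hbR⟩, hb55⟩ e'
        obtain rfl : a = b := congrArg Subtype.val e'
        have ho : orderOf a = 55 := by rw [← ha55, Subgroup.orderOf_mk]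
        obtain rfl : R = R' := Sylow.ext ((hfifth R a haR ho).symm.trans (hfifth R' a hbR ho))
        rfl
      · rintro ⟨b, hb55⟩
        have h5 : orderOf (b ^ 5) = 11 := by
          rw [orderOf_pow' _ (by norm_num), hb55]; norm_num
        obtain ⟨R, hR⟩ := (IsPGroup.of_card (n := 1) (by rw [Nat.card_zpowers, h5, pow_one]) :
          IsPGroup 11 (Subgroup.zpowers (b ^ 5))).exists_le_sylow
        have eR : Subgroup.zpowers (b ^ 5) = (R : Subgroup G) :=
          Subgroup.eq_of_le_of_card_ge hR (by rw [Nat.card_zpowers, h5, hP R])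
        have hbR : b ∈ Subgroup.centralizer ((R : Subgroup G) : Set G) := by
          rw [MathieuEleven.centralizer_gen eR]
          exact Subgroup.mem_centralizer_singleton_iff.2 ((Commute.refl b).pow_right 5).eq
        exact ⟨⟨R, ⟨b, hbR⟩, by rw [Subgroup.orderOf_mk, hb55]⟩, rfl⟩
    have hphi : ∀ R : Sylow 11 G,
        Nat.card {a : Subgroup.centralizer ((R : Subgroup G) : Set G) // orderOf a = 55} = 40 := by
      intro R
      set C := Subgroup.centralizer ((R : Subgroup G) : Set G)
      haveI : Fintype C := Fintype.ofFinite _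
      obtain ⟨b, hb⟩ := exists_prime_orderOf_dvd_card' (G := C) 5 (by rw [hC R]; norm_num)
      obtain ⟨c, hcR, hco, -⟩ := MathieuEleven.gen_prime (hP R)
      have hcC : c ∈ C := Subgroup.mem_centralizer_iff.2 fun d hd => MathieuEleven.comm_of_prime (hP R) d hd c hcR
      have hcomm : Commute b ⟨c, hcC⟩ := Subtype.ext (Subgroup.mem_centralizer_iff.1 b.2 c hcR).symm
      have ho : orderOf (b * ⟨c, hcC⟩) = Nat.card C := by
        rw [hcomm.orderOf_mul_eq_mul_orderOf_of_coprime (by rw [hb, Subgroup.orderOf_mk, hco]; norm_num), hb,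
          Subgroup.orderOf_mk, hco, hC R]
      haveI : IsCyclic C := isCyclic_of_orderOf_eq_card _ ho
      rw [Nat.card_eq_fintype_card, Fintype.card_subtype,
        IsCyclic.card_orderOf_eq_totient (α := C) (by rw [← Nat.card_eq_fintype_card, hC R]), show (55 : ℕ) = 5 * 11 by norm_num,
        Nat.totient_mul (by norm_num), Nat.totient_prime Nat.prime_five, Nat.totient_prime (by norm_num)]
    rw [← Nat.card_congr (Equiv.ofBijective f hf), Nat.card_sigma, Finset.sum_congr rfl fun R _ => hphi R,
      Finset.sum_const, Finset.card_univ, ← Nat.card_eq_fintype_card, h1728, smul_eq_mul]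
  have := hval 55 (by rw [h55]; norm_num)
  rw [h55] at this
  simp at this

end Cfsg.Agent.MTwelve
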