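import Cfsg.Agent.Lib.Spor.MTwelve.CharEleven
import Cfsg.Agent.Lib.Spor.MTwelve.Roots
import Cfsg.Agent.Lib.Spor.MTwelve.RecogCounts
import Cfsg.Agent.Lib.Char.SkewSquare
import Cfsg.Agent.Lib.Char.BSW.Eqs
import Cfsg.Agent.Lib.Char.SmallOrderGraph.Invol
import Cfsg.Agent.Lib.Spor.MTwelve.OrderFront.Values
import Cfsg.Prelude.Def_DegreeGraph

/-!
Two degrees of the Mathieu group of degree twelve: one equal to 55 and one divisible by 33.
-/

set_option autoImplicit false
set_option linter.style.haveILetI false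
set_option linter.unusedSectionVars false

namespace Cfsg.Agent.MTwelve

open C0 Cfsg Cfsg.Agent.Char Cfsg.Agent.Small.Order459648
open scoped ComplexConjugate

universe u

/-- values at the squares of the representatives -/
def repSq (i : Fin 13) : ℤ := ([11, 11, 11, 3, 3, 2, 3, -1, -1, 1, 2, -1, 1] : List ℤ).getD i 0

/-- the numbers of the representatives inside the first centraliser -/
def repNum (i : Fin 13) : ℕ := ([0, 0, 0, 6, 8, 10, 11, 12, 0, 0, 5, 0, 0] : List ℕ).getD i 0

theorem iota_squares : ∀ i : Fin 13, repNum i ≠ 0 → (fx (repK (repNum i) * repK (repNum i)) : ℤ) - 1 = repSq i := by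
  decide +kernel

theorem m5_squares : (((gen2, cyc3) : M5) * (gen2, cyc3) = ((1, cyc3 * cyc3) : M5)) ∧ cyc3 * cyc3 ≠ 1 ∧
    cyc3 * cyc3 * (cyc3 * cyc3) * (cyc3 * cyc3) = 1 ∧
    (((1, cyc3) : M5) * (1, cyc3) = ((1, cyc3 * cyc3) : M5)) := by decide +kernel

theorem sig_kinds : kd (sigFun (repK 6)) = 8 ∧ kd (sigFun (epsFun (repK 6))) = 8 ∧
    kd (sigFun (repK 8)) = 6 ∧ kd (sigFun (epsFun (repK 8))) = 6 := by decide +kernel

theorem square_match : ∀ i j : Fin 13, repOrd i = repOrd j → repSize i = repSize j → i ≠ 3 → i ≠ 4 →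
    repVal j * repVal j = repVal i * repVal i := by decide +kernel

theorem size_match : ∀ i j : Fin 13, repOrd i = repOrd j → repSize i = repSize j → i = 0 ∨ i = 9 ∨ i = 12 →
    j = i := by decide +kernel

theorem split_degrees : ∀ a : Fin 121, (a : ℕ) ∣ 95040 → 121 - (a : ℕ) ∣ 95040 →
    33 ∣ (a : ℕ) ∨ 33 ∣ 121 - (a : ℕ) ∨ (a : ℕ) = 1 ∨ (a : ℕ) = 11 ∨ (a : ℕ) = 110 ∨ (a : ℕ) = 120 := by
  decide +kernel

namespace Frame

variable {G : Type u} [Group G] (F : Frame G) [Finite G] [IsSimpleGroup G]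

theorem y_square {p : M5} (hp : p = ((1, cyc3 * cyc3) : M5)) : F.fval (F.ofM p) = -1 := by
  subst hp
  obtain ⟨u, hu⟩ := perm_three _ m5_squares.2.2.1 m5_squares.2.1
  refine F.fval_y (isConj_iff.2 ⟨F.ofM (1, u), ?_⟩)
  have : ((1, u) : M5) * (1, cyc3) = (1, cyc3 * cyc3) * (1, u) := Prod.ext rfl (by
    show u * cyc3 = cyc3 * cyc3 * u
    rw [← hu]; group)
  rw [← F.ofM_mul, this, F.ofM_mul, mul_inv_cancel_right]

theorem sq_five {g : G} (h : orderOf g = 10 ∨ orderOf g = 5) : F.fval (g * g) = 1 := by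
  refine F.fval_five (F.five_local.2.1 _ ?_)
  rw [← sq, orderOf_pow' _ two_ne_zero]
  rcases h with h | h <;> rw [h] <;> decide

/-- the value at a square -/
theorem fval_sq {i : Fin 13} {g : G} (h : IsConj (F.rep i) g) : F.fval (g * g) = repSq i := by
  obtain ⟨k, hk⟩ := isConj_iff.1 h
  have hred : F.fval (g * g) = F.fval (F.rep i * F.rep i) :=
    (F.fval_conj (isConj_iff.2 ⟨k, by rw [← hk]; group⟩)).symm
  have hiota : ∀ j : Fin 13, repNum j ≠ 0 → F.rep j = F.ι (repK (repNum j)) → F.fval (F.rep j * F.rep j) = repSq j :=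
    fun j h1 h2 => by rw [h2, ← map_mul, F.fval_iota, iota_squares j h1]
  rw [hred]
  fin_cases i
  · show F.fval ((1 : G) * 1) = _
    rw [one_mul, F.fval_one]; rfl
  · show F.fval (F.z * F.z) = _
    rw [F.D.z_sq, F.fval_one]; rfl
  · show F.fval (F.D.t * F.D.t) = _
    rw [← sq, ← F.D.t_order, pow_orderOf_eq_one, F.fval_one]; rfl
  · exact hiota 3 (by decide) rfl
  · exact hiota 4 (by decide) rfl
  · exact hiota 5 (by decide) rfl
  · exact hiota 6 (by decide) rfl
  · exact hiota 7 (by decide) rfl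
  · show F.fval (F.ofM (gen2, cyc3) * F.ofM (gen2, cyc3)) = _
    rw [← F.ofM_mul, F.y_square m5_squares.1]; rfl
  · exact (F.sq_five (g := F.rep 9) (Or.inl ((F.rep_order 9).trans rfl))).trans rfl
  · exact hiota 10 (by decide) rfl
  · show F.fval (F.ofM (1, cyc3) * F.ofM (1, cyc3)) = _
    rw [← F.ofM_mul, F.y_square m5_squares.2.2.2]; rfl
  · exact (F.sq_five (g := F.rep 12) (Or.inr ((F.rep_order 12).trans rfl))).trans rfl

include F in
/-- The skew square of the character of degree eleven is irreducible. -/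
theorem exists_fifty_five : ∃ χ : IrrCharacter G, charDegree (χ : G → ℂ) = 55 := by
  haveI := Fintype.ofFinite G
  have hsum : ∑ g : G, (F.fval g * F.fval g - F.fval (g * g)) * (F.fval g * F.fval g - F.fval (g * g)) = 4 * 95040 := by
    rw [F.sum_classes _ (fun i => (repVal i * repVal i - repSq i) * (repVal i * repVal i - repSq i)) 0
      (fun i g h => by rw [F.fval_rep h, F.fval_sq h]) (fun g h => by
        have h2 : orderOf (g * g) = 11 := by rw [← sq, orderOf_pow' _ two_ne_zero, h]; decide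
        rw [F.fval_eleven h, F.fval_eleven h2]; norm_num)]
    decide +kernel
  set ψ : G → ℂ := fun g => (F.theta g * F.theta g - F.theta (g * g)) / 2 with hψ
  have hchar : IsCharacter G ψ := isCharacter_skew (irr_isCharacter F.theta_irr)
  have hnorm : classInner ψ ψ = 1 := by
    rw [classInner, F.card_eq]
    have : ∑ g : G, ψ g * conj (ψ g) = 95040 := by
      have h := congrArg (fun n : ℤ => (n : ℂ) / 4) hsum
      simp only [Int.cast_sum, Finset.sum_div] at h
      refine (Finset.sum_congr rfl fun g _ => ?_).trans (h.trans (by norm_num))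
      simp only [hψ, theta, map_div₀, map_sub, map_mul, map_intCast, map_ofNat]
      push_cast
      ring
    rw [this]; norm_num
  refine ⟨⟨ψ, isIrr_of_norm_one hchar hnorm⟩, ?_⟩
  show charDegree ψ = 55
  rw [charDegree, hψ]
  simp only [theta, mul_one, F.fval_one]
  norm_num

/-- A frame with the classes of elements of order four exchanged. -/
theorem exists_other : ∃ F' : Frame G, F'.theta ≠ F.theta ∧
    IsConj (F'.rep 3) (F.rep 4) ∧ IsConj (F'.rep 4) (F.rep 3) := by
  have hna : ¬ IsMulCommutative G := F.not_comm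
  obtain ⟨F', hF'⟩ := exists_frame' hna F.toSetup.swapK
  obtain ⟨s6, s6', s8, s8'⟩ := sig_kinds
  have hh : ∀ (k m : ℕ), kd (sigFun (repK k)) = m → kd (sigFun (epsFun (repK k))) = m →
      IsConj (F'.ι (repK k)) (F.ι (repK m)) := by
    intro k m h1 h2
    have key : ∀ c : C0, kd c = m → IsConj (F.ι c) (F.ι (repK m)) := fun c hc => by
      obtain ⟨d, hd⟩ := conj_repK c
      rw [hc] at hd
      exact (isConj_iff.2 ⟨F.ι d, by rw [← map_inv, ← map_mul, ← map_mul, hd]⟩ : IsConj (F.ι (repK m)) (F.ι c)).symm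
    rcases hF' with h | h
    · rw [show F'.ι (repK k) = F.ι (sigFun (repK k)) by rw [show F'.ι = F.toSetup.swapK.ι by rw [h]]; rfl]
      exact key _ h1
    · rw [show F'.ι (repK k) = F.ι (sigFun (epsFun (repK k))) by
        rw [show F'.ι = F.toSetup.swapK.twist.ι by rw [h]]; rfl]
      exact key _ h2
  have h34 : IsConj (F'.rep 3) (F.rep 4) := hh 6 8 s6 s6'
  refine ⟨F', fun e => ?_, h34, hh 8 6 s8 s8'⟩
  have h := congrFun e (F.rep 4)
  rw [theta, theta] at h
  have h' : F'.fval (F.rep 4) = F.fval (F.rep 4) := by exact_mod_cast h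
  rw [F'.fval_rep h34, F.fval_rep (IsConj.refl (F.rep 4))] at h'
  revert h'; decide

include F in
/-- Some degree is divisible by 33. -/
theorem exists_thirty_three : ∃ χ : IrrCharacter G, 33 ∣ charDegree (χ : G → ℂ) := by
  classical
  haveI := Fintype.ofFinite G
  haveI : Fact (Nat.Prime 5) := ⟨Nat.prime_five⟩
  obtain ⟨F', hne, h34, h43⟩ := F.exists_other
  have hclass : ∀ {i : Fin 13} {g : G}, IsConj (F.rep i) g → ∃ j, IsConj (F'.rep j) g ∧ repOrd i = repOrd j ∧
      repSize i = repSize j := by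
    intro i g h
    rcases F'.cover g with e | ⟨j, hj⟩
    · rw [← Fusion.orderOf_isConj h] at e
      exact absurd e (F.rep_not_eleven i)
    · refine ⟨j, hj, ?_, ?_⟩
      · rw [← F.rep_order, ← F'.rep_order, Fusion.orderOf_isConj h, Fusion.orderOf_isConj hj]
      · rw [← F.rep_size, ← F'.rep_size]
        exact Nat.card_congr (Equiv.subtypeEquivRight fun x =>
          ⟨fun hx => hj.trans (h.symm.trans hx), fun hx => h.trans (hj.symm.trans hx)⟩)
  have hsame : ∀ i : Fin 13, i = 0 ∨ i = 9 ∨ i = 12 → ∀ g, IsConj (F.rep i) g → F'.fval g = repVal i := by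
    intro i hi g h
    obtain ⟨j, hj, h1, h2⟩ := hclass h
    rw [F'.fval_rep hj, size_match i j h1 h2 hi]
  -- the norm of the product
  have hsum : ∑ g : G, F.fval g * F'.fval g * (F.fval g * F'.fval g) = 2 * 95040 := by
    rw [F.sum_classes _ (fun i => repVal i * repVal i * (if i = 3 then repVal 4 * repVal 4
        else if i = 4 then repVal 3 * repVal 3 else repVal i * repVal i)) 0 ?_ (fun g h => by
        rw [F.fval_eleven h]; norm_num)]
    · decide +kernel
    intro i g h
    rw [F.fval_rep h]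
    obtain ⟨j, hj, h1, h2⟩ := hclass h
    rw [F'.fval_rep hj]
    by_cases h3 : i = 3
    · subst h3
      rw [if_pos rfl, F'.rep_inj j 4 (hj.trans (h43.trans h).symm)]; ring
    by_cases h4 : i = 4
    · subst h4
      rw [if_neg h3, if_pos rfl, F'.rep_inj j 3 (hj.trans (h34.trans h).symm)]; ring
    rw [if_neg h3, if_neg h4]
    linear_combination (repVal i * repVal i) * square_match i j h1 h2 h3 h4
  set π : G → ℂ := F.theta * F'.theta with hπ
  have hchar : IsCharacter G π := isCharacter_mul (irr_isCharacter F.theta_irr) (irr_isCharacter F'.theta_irr)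
  have hnorm : classInner π π = 2 := by
    rw [classInner, F.card_eq]
    have : ∑ g : G, π g * conj (π g) = 2 * 95040 := by
      have h := congrArg (fun n : ℤ => (n : ℂ)) hsum
      simp only [Int.cast_sum] at h
      refine (Finset.sum_congr rfl fun g _ => ?_).trans (h.trans (by norm_num))
      simp only [hπ, Pi.mul_apply, theta, map_mul, map_intCast]
      push_cast
      ring
    rw [this]; norm_num
  obtain ⟨m, hm⟩ := exists_decomposition hchar
  have hsq : ∑ χ, (m χ : ℤ) * m χ = 2 := by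
    have h := classInner_int_combination (θ := π) (z := fun χ => (m χ : ℤ)) (by
      rw [hm]; exact Finset.sum_congr rfl fun χ _ => by rw [Int.cast_natCast, Nat.cast_smul_eq_nsmul])
    rw [hnorm] at h
    exact_mod_cast h.symm
  set S := Finset.univ.filter fun χ => m χ ≠ 0 with hS
  have hone : ∀ χ ∈ S, m χ = 1 := fun χ hχ => by
    have h0 : m χ ≠ 0 := (Finset.mem_filter.1 hχ).2
    have h2 : (m χ : ℤ) * m χ ≤ 2 := hsq ▸ Finset.single_le_sum (f := fun χ => (m χ : ℤ) * m χ)
      (fun ψ _ => mul_self_nonneg _) (Finset.mem_univ χ)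
    by_contra h1
    have : (2 : ℤ) ≤ m χ := by omega
    nlinarith
  have hcard : S.card = 2 := by
    have h : ∑ χ ∈ S, (m χ : ℤ) * m χ = 2 := by
      rw [← hsq, hS]
      exact Finset.sum_filter_of_ne fun χ _ h h0 => h (by simp [h0])
    rw [Finset.sum_congr rfl fun χ hχ => by rw [hone χ hχ], Finset.sum_const] at h
    simp at h
    omega
  obtain ⟨A, B, hAB, hSab⟩ := Finset.card_eq_two.1 hcard
  have hπAB : ∀ g, π g = (A : G → ℂ) g + (B : G → ℂ) g := fun g => by
    have : π = ∑ χ ∈ S, (χ : G → ℂ) := by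
      rw [hm, hS, ← Finset.sum_filter_of_ne (p := fun χ => m χ ≠ 0) fun χ _ h h0 => h (by rw [h0, zero_smul])]
      exact Finset.sum_congr rfl fun χ hχ => by rw [hone χ hχ, one_smul]
    rw [this, hSab, Finset.sum_pair hAB]; rfl
  have hdegs : charDegree (A : G → ℂ) + charDegree (B : G → ℂ) = 121 := by
    have h := hπAB 1
    rw [hπ, Pi.mul_apply, theta, theta, F.fval_one, F'.fval_one, OrderFront.val_one, OrderFront.val_one] at h
    have : (121 : ℤ) = (charDegree (A : G → ℂ) : ℤ) + (charDegree (B : G → ℂ) : ℤ) := by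
      norm_num at h
      exact_mod_cast h
    omega
  have hne1 : ∀ χ ∈ S, χ ≠ oneChar := by
    rintro χ hχ rfl
    have h0 : classInner π (fun _ => 1) = 0 := by
      have h := irrC_orth (G := G) ⟨F.theta, F.theta_irr⟩ ⟨F'.theta, F'.theta_irr⟩
      rw [if_neg fun e => hne (congrArg Subtype.val e).symm] at h
      refine Eq.trans ?_ h
      simp only [classInner, hπ, Pi.mul_apply, map_one, mul_one, theta, map_intCast]
    have h1 := decomposition_coeff m hm oneChar
    rw [show classInner π ((oneChar : IrrCharacter G) : G → ℂ) = 0 from h0, hone _ hχ] at h1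
    norm_num at h1
  -- one of degree eleven is impossible
  have key : ∀ φ ψ : IrrCharacter G, φ ≠ oneChar → charDegree (φ : G → ℂ) = 11 → charDegree (ψ : G → ℂ) = 110 →
      (∀ g, π g = (φ : G → ℂ) g + (ψ : G → ℂ) g) → False := by
    intro φ ψ hφ hφd hψd hadd
    have hfac : (Nat.card G).factorization 5 = 1 := by
      rw [F.card_eq, show (95040 : ℕ) = 5 ^ 1 * 19008 by norm_num, Nat.factorization_mul (by norm_num) (by norm_num),
        Finsupp.add_apply, Nat.prime_five.factorization_pow, Finsupp.single_eq_same,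
        Nat.factorization_eq_zero_of_not_dvd (by norm_num)]
    have hval : ∀ (g : G) (i : Fin 13), IsConj (F.rep i) g → i = 9 ∨ i = 12 → (φ : G → ℂ) g = 1 := by
      intro g i h hi
      have hψ0 : (ψ : G → ℂ) g = 0 := by
        refine BSW.defect_zero_vanish Nat.prime_five ?_ ?_
        · rw [hfac, pow_one, ← charDegree_eq_deg, hψd]; norm_num
        · rw [← Fusion.orderOf_isConj h, F.rep_order]
          rcases hi with rfl | rfl <;> decide
      have h1 := hadd g
      rw [hπ, Pi.mul_apply, theta, theta, F.fval_rep h, hsame i (Or.inr hi) g h, hψ0, add_zero] at h1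
      rw [← h1]
      rcases hi with rfl | rfl <;> norm_num [show repVal 9 = -1 from rfl, show repVal 12 = 1 from rfl]
    obtain ⟨z, hz, h4, hlt⟩ := SmallOrderGraph.invol_value F.not_comm hφ F.D.t_order
    rw [hφd] at h4 hlt
    -- an element of order ten
    set w := F.ofM (gen2, cyc5) with hw
    have hwo : orderOf w = 10 := (F.rep_order 9).trans rfl
    have hw5 : w ^ 5 = F.D.t := by rw [hw, ← F.ofM_pow, m5_elements.2.1, F.ofM_t]
    have hwj : ∀ j ∈ Finset.range 10, (φ : G → ℂ) (w ^ j) =
        ((if j = 0 then (11 : ℤ) else if j = 5 then z else 1 : ℤ) : ℂ) := by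
      intro j hj
      have hj10 := Finset.mem_range.1 hj
      by_cases h0 : j = 0
      · subst h0
        rw [pow_zero, if_pos rfl, OrderFront.val_one, hφd]; rfl
      rw [if_neg h0]
      by_cases h5 : j = 5
      · subst h5; rw [if_pos rfl, hw5, hz]
      rw [if_neg h5, Int.cast_one]
      have ho : orderOf (w ^ j) = 10 ∨ orderOf (w ^ j) = 5 := by
        rw [orderOf_pow' _ h0, hwo]
        interval_cases j <;> first | omega | decide
      rcases ho with ho | ho
      · refine hval _ 9 ?_ (Or.inl rfl)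
        rcases F.cover (w ^ j) with e | ⟨i, hi⟩
        · omega
        · have : repOrd i = 10 := by rw [← F.rep_order, Fusion.orderOf_isConj hi, ho]
          obtain rfl : i = 9 := (show ∀ i : Fin 13, repOrd i = 10 → i = 9 by decide) i this
          exact hi
      · exact hval _ 12 (F.five_local.2.1 _ ho) (Or.inr rfl)
    have h10 := (OrderFront.mult_int (irr_isCharacter φ.2) (by norm_num) (hwo ▸ pow_orderOf_eq_one w) (one_pow 10)
      (T := 19 + z) (by
        simp only [one_pow, one_mul]
        rw [Finset.sum_congr rfl hwj, ← Int.cast_sum]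
        norm_cast
        simp [Finset.sum_range_succ]; ring)).1
    -- a dihedral group of order ten
    set f := F.ofM (1, cyc5) with hf
    have hf5 : orderOf f = 5 := F.order_five
    obtain ⟨v, hv1, hv2, hvd⟩ : ∃ v : Equiv.Perm (Fin 5), v * v = 1 ∧ v * cyc5 * v = cyc5⁻¹ ∧
        (∀ j < 5, (v * cyc5 ^ j) * (v * cyc5 ^ j) = 1 ∧ v * cyc5 ^ j ≠ 1) := by decide +kernel
    set i0 := F.ofM (gen2, v) with hi0
    have hrefl : ∀ j ∈ Finset.range 5, (φ : G → ℂ) (i0 * f ^ j) = (z : ℂ) := by
      intro j hj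
      obtain ⟨h1, h2⟩ := hvd j (Finset.mem_range.1 hj)
      rw [hi0, hf, ← F.ofM_pow, ← F.ofM_mul]
      have ho : orderOf (F.ofM ((gen2, v) * ((1, cyc5) : M5) ^ j)) = 2 := by
        rw [F.orderOf_ofM]
        haveI : Fact (Nat.Prime 2) := ⟨Nat.prime_two⟩
        refine orderOf_eq_prime ?_ fun e => ?_
        · refine Prod.ext ?_ ?_
          · simp [two_sq]
            rfl
          · simpa [sq] using h1
        · have := congrArg Prod.snd e
          simp at this
          exact h2 this
      have hc : IsConj F.D.t (F.ofM ((gen2, v) * ((1, cyc5) : M5) ^ j)) := by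
        refine F.isConj_t_of_not ho fun h => ?_
        have := ((F.isX_ofM _).1 h).1
        revert this
        simp [gen2]
      obtain ⟨k, hk⟩ := isConj_iff.1 hc
      rw [← hk, isClassFunction_character (irr_isCharacter φ.2), hz]
    have hfj : ∀ j ∈ Finset.range 5, (φ : G → ℂ) (f ^ j) = ((if j = 0 then (11 : ℤ) else 1 : ℤ) : ℂ) := by
      intro j hj
      by_cases h0 : j = 0
      · subst h0; rw [pow_zero, if_pos rfl, OrderFront.val_one, hφd]; rfl
      rw [if_neg h0, Int.cast_one]
      refine hval _ 12 (F.five_local.2.1 _ ?_) (Or.inr rfl)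
      have hj5 := Finset.mem_range.1 hj
      rw [orderOf_pow' _ h0, hf5, Nat.Coprime.gcd_eq_one (by interval_cases j <;> first | omega | decide), Nat.div_one]
    -- the fixed space of the element of order five under the involution
    obtain ⟨n, ρ, hρ⟩ := irr_isCharacter φ.2
    set E : Module.End ℂ (Fin n → ℂ) := (10 : ℂ)⁻¹ • ((1 + ρ i0) * ∑ j ∈ Finset.range 5, ρ (f ^ j)) with hE
    have hfS : ∀ k : ℕ, ρ (f ^ k) * (∑ j ∈ Finset.range 5, ρ (f ^ j)) = ∑ j ∈ Finset.range 5, ρ (f ^ j) := by
      intro k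
      induction k with
      | zero => rw [pow_zero, map_one, one_mul]
      | succ k ih =>
        rw [pow_succ, map_mul, mul_assoc]
        suffices h : ρ f * (∑ j ∈ Finset.range 5, ρ (f ^ j)) = ∑ j ∈ Finset.range 5, ρ (f ^ j) by rw [h, ih]
        rw [Finset.mul_sum]
        simp only [← map_mul, ← pow_succ']
        rw [Finset.sum_range_succ, Finset.sum_range_succ' (fun j => ρ (f ^ j)),
          show f ^ (4 + 1) = 1 by
            rw [show 4 + 1 = orderOf f by rw [hf5], pow_orderOf_eq_one], pow_zero]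
    set S5 := ∑ j ∈ Finset.range 5, ρ (f ^ j) with hS5
    have hii : i0 * i0 = 1 := by
      rw [hi0, ← F.ofM_mul, show ((gen2, v) : M5) * (gen2, v) = 1 from Prod.ext (two_sq _) hv1, F.ofM_one]
    have hif : i0 * f = f⁻¹ * i0 := by
      have e : ((1, cyc5) : M5) * ((gen2, v) * (1, cyc5)) = (gen2, v) := Prod.ext (by simp) (by
        show cyc5 * (v * cyc5) = v
        calc cyc5 * (v * cyc5) = cyc5 * (v * cyc5 * v) * v⁻¹ := by group
          _ = v⁻¹ := by rw [hv2]; group
          _ = v := inv_eq_of_mul_eq_one_right hv1)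
      have := congrArg F.ofM e
      rw [F.ofM_mul, F.ofM_mul] at this
      exact eq_inv_mul_iff_mul_eq.2 this
    have hiS : ρ i0 * S5 = S5 * ρ i0 := by
      have hp : ∀ j : ℕ, i0 * f ^ j = (f ^ j)⁻¹ * i0 := fun j => by
        induction j with
        | zero => simp
        | succ j ih =>
          calc i0 * f ^ (j + 1) = i0 * f * f ^ j := by rw [pow_succ']; group
            _ = f⁻¹ * (i0 * f ^ j) := by rw [hif]; group
            _ = (f ^ (j + 1))⁻¹ * i0 := by rw [ih, pow_succ]; group
      rw [hS5, Finset.mul_sum, Finset.sum_mul]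
      simp only [← map_mul, hp]
      refine Finset.sum_nbij' (fun j => (5 - j) % 5) (fun j => (5 - j) % 5) ?_ ?_ ?_ ?_ ?_
      · intro j hj; simp only [Finset.coe_range, Set.mem_Iio, Finset.mem_range] at hj ⊢; omega
      · intro j hj; simp only [Finset.coe_range, Set.mem_Iio, Finset.mem_range] at hj ⊢; omega
      · intro j hj; simp only [Finset.coe_range, Set.mem_Iio, Finset.mem_range] at hj ⊢; omega
      · intro j hj; simp only [Finset.coe_range, Set.mem_Iio, Finset.mem_range] at hj ⊢; omega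
      · intro j hj
        simp only [Finset.mem_range] at hj
        rw [show f ^ ((5 - j) % 5) = (f ^ j)⁻¹ from eq_inv_of_mul_eq_one_left (by
          rw [← pow_add, ← pow_mod_orderOf, hf5, show ((5 - j) % 5 + j) % 5 = 0 by omega, pow_zero])]
    have hEE : IsIdempotentElem E := by
      show E * E = E
      have h55 : S5 * S5 = (5 : ℂ) • S5 := by
        conv_lhs => lhs; rw [hS5]
        rw [Finset.sum_mul, Finset.sum_congr rfl fun j _ => hfS j, Finset.sum_const, Finset.card_range,
          ← Nat.cast_smul_eq_nsmul ℂ]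
        norm_num
      have h2 : (1 + ρ i0) * (1 + ρ i0) = (2 : ℂ) • (1 + ρ i0) := by
        rw [add_mul, one_mul, mul_add, mul_one, ← map_mul, hii, map_one, two_smul]; abel
      rw [hE, smul_mul_smul_comm, show (1 + ρ i0) * S5 * ((1 + ρ i0) * S5) = (1 + ρ i0) * (S5 * (1 + ρ i0)) * S5 by
        simp only [mul_assoc], show S5 * (1 + ρ i0) = (1 + ρ i0) * S5 by rw [mul_add, add_mul, mul_one, one_mul, hiS],
        show (1 + ρ i0) * ((1 + ρ i0) * S5) * S5 = (1 + ρ i0) * (1 + ρ i0) * (S5 * S5) by simp only [mul_assoc],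
        h55, h2, smul_mul_smul_comm, smul_smul]
      norm_num
    have htr := (LinearMap.IsIdempotentElem.isProj_range E hEE).trace
    rw [hE, map_smul, add_mul, one_mul, map_add, hS5, Finset.mul_sum, map_sum, map_sum] at htr
    simp only [← map_mul] at htr
    rw [Finset.sum_congr rfl (g := fun j : ℕ => ((if j = 0 then (11 : ℤ) else 1 : ℤ) : ℂ)) fun j hj =>
      (show LinearMap.trace ℂ _ (ρ (f ^ j)) = (φ : G → ℂ) (f ^ j) by rw [← hρ]; rfl).trans (hfj j hj),
      Finset.sum_congr rfl (g := fun _ : ℕ => (z : ℂ)) fun j hj =>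
      (show LinearMap.trace ℂ _ (ρ (i0 * f ^ j)) = (φ : G → ℂ) (i0 * f ^ j) by rw [← hρ]; rfl).trans (hrefl j hj)] at htr
    simp [Finset.sum_range_succ] at htr
    obtain ⟨r, hr⟩ : ∃ r : ℕ, ∀ Z : ℂ, Z = (10 : ℂ)⁻¹ * (11 + 1 + 1 + 1 + 1 + 5 * (z : ℂ)) → Z = (r : ℂ) :=
      ⟨_, fun Z hZ => hZ.trans htr⟩
    have hr2 := hr _ rfl
    have hr3 : ((15 + 5 * z : ℤ) : ℂ) = ((10 * (r : ℤ) : ℤ) : ℂ) := by
      push_cast
      linear_combination 10 * hr2
    have hr' : (15 + 5 * z : ℤ) = 10 * (r : ℤ) := by exact_mod_cast hr3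
    omega
  have hA : A ∈ S := hSab ▸ Finset.mem_insert_self _ _
  have hB : B ∈ S := hSab ▸ Finset.mem_insert_of_mem (Finset.mem_singleton_self _)
  have hA0 : 0 < charDegree (A : G → ℂ) := deg_pos A.2
  have hB0 : 0 < charDegree (B : G → ℂ) := deg_pos B.2
  have hdA : charDegree (A : G → ℂ) ∣ 95040 := F.card_eq ▸ deg_dvd_card A.2
  have hdB : charDegree (B : G → ℂ) ∣ 95040 := F.card_eq ▸ deg_dvd_card B.2
  have hdB' : 121 - charDegree (A : G → ℂ) = charDegree (B : G → ℂ) := by omega
  rcases split_degrees ⟨charDegree (A : G → ℂ), by omega⟩ hdA (by simpa [hdB'] using hdB) with h | h | h | h | h | h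
  · exact ⟨A, h⟩
  · simp only [hdB'] at h; exact ⟨B, h⟩
  · exfalso
    have := one_lt_degree F.not_comm (hne1 A hA)
    simp only at h; omega
  · exact (key A B (hne1 A hA) h (by simp only at h; omega) hπAB).elim
  · exact (key B A (hne1 B hB) (by simp only at h; omega) h fun g => (hπAB g).trans (add_comm _ _)).elim
  · exfalso
    have := one_lt_degree F.not_comm (hne1 B hB)
    simp only at h; omega

end Frame

/-- The two degrees in the concrete group. -/
theorem concrete_degrees : (∃ d ∈ Cfsg.charDegrees ↥Cfsg.Spor.M12, 55 ∣ d) ∧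
    ∃ d ∈ Cfsg.charDegrees ↥Cfsg.Spor.M12, 33 ∣ d := by
  haveI := isM12_concrete.1
  obtain ⟨F⟩ := exists_frame concrete_not_comm concreteSetup
  obtain ⟨χ, hχ⟩ := F.exists_fifty_five
  obtain ⟨ψ, hψ⟩ := F.exists_thirty_three
  exact ⟨⟨55, ⟨χ, hχ⟩, dvd_rfl⟩, ⟨_, ⟨ψ, rfl⟩, hψ⟩⟩

end Cfsg.Agent.MTwelve
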