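import Cfsg.Agent.Lib.Spor.MTwelve.OrderFront.Eleven
import Cfsg.Agent.Lib.Char.SmallDegreeCentralizer
import Cfsg.Agent.Lib.Small.MathieuEleven.Sylow3
import Cfsg.Agent.Lib.Small.StructureConstantTwo

/-!
The simple groups whose order is a large proper divisor of 95040 divisible by eleven have order 7920.
-/

set_option autoImplicit false
set_option linter.unusedSectionVars false
set_option linter.style.haveILetI false
set_option maxRecDepth 100000

namespace Cfsg.Agent.MTwelve.RecogOrders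

open Cfsg Cfsg.Agent.Char Cfsg.Agent.Small.Order459648 Cfsg.Agent.Char.PrimeSylowCount
  Cfsg.Agent.MTwelve.OrderFront
open scoped ComplexConjugate

universe u

local instance fact_eleven : Fact (Nat.Prime 11) := ⟨by norm_num⟩

/-- all sums of the given number of members of a finite set of integers -/
def sumsOf (s : Finset ℤ) : ℕ → Finset ℤ
  | 0 => {0}
  | n + 1 => Finset.image₂ (· + ·) s (sumsOf s n)

theorem sum_mem_sumsOf {α : Type*} (s : Finset ℤ) (t : Finset α) (f : α → ℤ) (h : ∀ x ∈ t, f x ∈ s) :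
    ∑ x ∈ t, f x ∈ sumsOf s t.card := by
  classical
  induction t using Finset.induction_on with
  | empty => simp [sumsOf]
  | insert x t hx ih =>
    rw [Finset.sum_insert hx, Finset.card_insert_of_notMem hx, sumsOf]
    exact Finset.mem_image₂.2 ⟨_, h x (Finset.mem_insert_self x t), _,
      ih fun y hy => h y (Finset.mem_insert_of_mem hy), rfl⟩

theorem small_options : ∀ i < 786, ∀ e ∈ [2, 5, 10], (11 * i + 1) * e ∣ 8640 → 2 ≤ i →
    e = 2 ∨ (i = 13 ∧ (e = 5 ∨ e = 10)) ∨ i = 157 := by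
  decide +kernel

theorem x_five : ∀ d ∈ degList, 22 ≤ d → d ≤ 217 → d ∣ 720 →
    (d % 11 = 1 → (d : ℤ) ∈ ({45, -120, 144} : Finset ℤ)) ∧
    (d % 11 = 10 → -(d : ℤ) ∈ ({45, -120, 144} : Finset ℤ)) := by
  decide +kernel

theorem x_ten : ∀ d ∈ degList, 22 ≤ d → d ≤ 217 → d ∣ 1440 → d ≠ 45 →
    (d % 11 = 1 → (d : ℤ) ∈ ({-32, -120, 144} : Finset ℤ)) ∧
    (d % 11 = 10 → -(d : ℤ) ∈ ({-32, -120, 144} : Finset ℤ)) := by
  decide +kernel

theorem no_five : ∀ f ∈ degList, 22 ≤ f → f ≤ 217 → ∀ δ ∈ ([1, -1] : List ℤ),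
    ((f : ℤ) - δ * 5) % 11 = 0 → δ * (f : ℤ) - 1 ∉ sumsOf {45, -120, 144} 4 := by
  decide +kernel

theorem no_ten : ∀ f ∈ degList, 22 ≤ f → f ≤ 217 → ∀ δ ∈ ([1, -1] : List ℤ),
    ((f : ℤ) - δ * 10) % 11 = 0 → δ * (f : ℤ) - 1 ∉ sumsOf {-32, -120, 144} 9 := by
  decide +kernel

theorem ten_list : ∀ d ∈ degList, d ≤ 126 → d % 11 = 1 ∨ d % 11 = 10 → d ∣ 15840 →
    d ∈ ([10, 12, 32, 45, 54, 120] : List ℕ) := by
  decide +kernel

theorem ten_list' : ∀ d ∈ degList, d ≤ 126 → d % 11 = 1 ∨ d % 11 = 10 → d ∣ 15840 → d ≠ 54 := by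
  decide +kernel

variable {G : Type u} [Group G] [Fintype G] [IsSimpleGroup G]

/-- A character of small degree in the principal block forces a self-centralising Sylow subgroup. -/
theorem cent_of_small (hna : ¬ IsMulCommutative G) (hm : ¬ 11 ^ 2 ∣ Nat.card G) {M : Ideal AlgInt}
    (hM : IsPModular 11 M) (P : Sylow 11 G) (hP : Nat.card P = 11) {χ : IrrCharacter G}
    (hχ : χ ∈ principalBlock M G) (hne : χ ≠ oneChar) (hd : charDegree (χ : G → ℂ) < 22) :
    Nat.card (Subgroup.centralizer ((P : Subgroup G) : Set G)) = 11 := by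
  have hpg := centralizer_sylow_isPGroup_of_small_degree hM (perfect hna) P χ hχ
    (fun g hg => faithful hne (by have := one_lt_degree hna hne; omega) g hg) (by omega)
  obtain ⟨j, hj⟩ := hpg.exists_card_eq
  rw [hj]
  have hd' : Nat.card P ∣ 11 ^ j := hj ▸ Subgroup.card_dvd_of_le (fun a ha =>
    Subgroup.mem_centralizer_iff.2 fun b hb => by
      haveI : IsCyclic (P : Subgroup G) := isCyclic_of_prime_card hP
      exact congrArg Subtype.val (IsCyclic.commutative.is_comm.comm (⟨b, hb⟩ : (P : Subgroup G)) ⟨a, ha⟩))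
  rw [hP] at hd'
  have hj2 : j < 2 := by
    by_contra h
    exact hm ((pow_dvd_pow 11 (by omega : 2 ≤ j)).trans (hj ▸ Subgroup.card_subgroup_dvd_card _))
  interval_cases j
  · norm_num at hd'
  · norm_num

/-- An involution inverting a Sylow subgroup of order eleven when the centraliser has odd order. -/
theorem exists_inverting (P : Sylow 11 G) (hP : Nat.card P = 11) {e : ℕ}
    (he : (Subgroup.centralizer ((P : Subgroup G) : Set G)).relIndex
      (Subgroup.normalizer ((P : Subgroup G) : Set G)) = e) (h2e : 2 ∣ e)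
    (hodd : ¬ 2 ∣ Nat.card (Subgroup.centralizer ((P : Subgroup G) : Set G))) :
    ∃ i : G, orderOf i = 2 ∧ i ∈ Subgroup.normalizer ((P : Subgroup G) : Set G) ∧
      ∀ y ∈ (P : Subgroup G), i * y * i⁻¹ = y⁻¹ := by
  haveI : Fact (Nat.Prime 2) := ⟨Nat.prime_two⟩
  set C := Subgroup.centralizer ((P : Subgroup G) : Set G)
  set N := Subgroup.normalizer ((P : Subgroup G) : Set G)
  have hN : 2 ∣ Nat.card N := by
    have h := Subgroup.card_mul_index (C.subgroupOf N)
    rw [show (C.subgroupOf N).index = e from he] at h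
    exact h ▸ h2e.mul_left _
  obtain ⟨⟨i, hiN⟩, hi⟩ := exists_prime_orderOf_dvd_card' (G := N) 2 hN
  rw [Subgroup.orderOf_mk] at hi
  have hiC : i ∉ C := fun h => hodd (hi ▸ Subgroup.orderOf_dvd_natCard C h)
  refine ⟨i, hi, hiN, fun y hy => ?_⟩
  obtain ⟨g, hgP, hgo, hgz⟩ := MathieuEleven.gen_prime hP
  have hii : i * i = 1 := by rw [← sq, ← hi, pow_orderOf_eq_one]
  have hiinv : i⁻¹ = i := inv_eq_of_mul_eq_one_right hii
  have hmem : i * g * i⁻¹ ∈ Subgroup.zpowers g := by
    rw [hgz]; exact (Subgroup.mem_normalizer_iff.1 hiN g).1 hgP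
  obtain ⟨j, hj⟩ := Subgroup.mem_zpowers_iff.1 hmem
  have hjj : g ^ (j * j) = g := by
    calc g ^ (j * j) = (i * g * i⁻¹) ^ j := by rw [← hj, zpow_mul]
      _ = i * g ^ j * i⁻¹ := conj_zpow
      _ = g := by rw [hj, hiinv]; calc i * (i * g * i) * i = (i * i) * g * (i * i) := by group
          _ = g := by rw [hii]; group
  have h11 : (11 : ℤ) ∣ (j - 1) * (j + 1) := by
    have h := (orderOf_dvd_sub_iff_zpow_eq_zpow).2 (show g ^ (j * j) = g ^ (1 : ℤ) by rw [hjj, zpow_one])
    rw [hgo] at h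
    exact h.trans (dvd_of_eq (by ring))
  have hyz : y ∈ Subgroup.zpowers g := hgz ▸ hy
  obtain ⟨k, rfl⟩ := Subgroup.mem_zpowers_iff.1 hyz
  rcases (Int.prime_iff_natAbs_prime.2 (by norm_num : (11 : ℤ).natAbs.Prime)).dvd_mul.1 h11 with h | h
  · exfalso
    refine hiC (Subgroup.mem_centralizer_iff.2 fun z hz => ?_)
    have hzz : z ∈ Subgroup.zpowers g := hgz ▸ hz
    obtain ⟨m, rfl⟩ := Subgroup.mem_zpowers_iff.1 hzz
    have e1 : i * g * i⁻¹ = g := by
      rw [← hj]
      refine (orderOf_dvd_sub_iff_zpow_eq_zpow.1 ?_).trans (zpow_one g)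
      rw [hgo]; exact h
    exact ((show Commute i g from mul_inv_eq_iff_eq_mul.1 e1).zpow_right m).eq.symm
  · have e1 : i * g * i⁻¹ = g⁻¹ := by
      rw [← hj, ← zpow_neg_one]
      refine orderOf_dvd_sub_iff_zpow_eq_zpow.1 ?_
      rw [hgo]; simpa using h
    rw [← conj_zpow, e1, inv_zpow]

/-- The value of a character at an inverting involution. -/
theorem inverting_bound {χ : IrrCharacter G} {i y : G} (hi : i * i = 1) (hy : orderOf y = 11)
    (hinv : i * y * i⁻¹ = y⁻¹) {a : ℤ} (hval : ∀ j : ℕ, y ^ j ≠ 1 → (χ : G → ℂ) (y ^ j) = a) {z : ℤ}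
    (hz : (χ : G → ℂ) i = z) :
    11 * |z| ≤ (charDegree (χ : G → ℂ) : ℤ) + 10 * a := by
  classical
  obtain ⟨n, ρ, hρ⟩ := irr_isCharacter χ.2
  set S := ρ i with hS
  set E : Module.End ℂ (Fin n → ℂ) := (11 : ℂ)⁻¹ • ∑ j ∈ Finset.range 11, ρ (y ^ j) with hE
  have hy11 : y ^ 11 = 1 := hy ▸ pow_orderOf_eq_one y
  have hshift : ∀ m : ℕ, ρ (y ^ m) * (∑ j ∈ Finset.range 11, ρ (y ^ j)) = ∑ j ∈ Finset.range 11, ρ (y ^ j) := by
    intro m
    induction m with
    | zero => rw [pow_zero, map_one, one_mul]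
    | succ m ih =>
      rw [pow_succ, map_mul, mul_assoc]
      suffices h : ρ y * (∑ j ∈ Finset.range 11, ρ (y ^ j)) = ∑ j ∈ Finset.range 11, ρ (y ^ j) by rw [h, ih]
      rw [Finset.mul_sum]
      simp only [← map_mul, ← pow_succ']
      rw [Finset.sum_range_succ, Finset.sum_range_succ' (fun j => ρ (y ^ j)), hy11, pow_zero]
  have hEE : E * E = E := by
    rw [hE, smul_mul_smul_comm, Finset.sum_mul, Finset.sum_congr rfl fun j _ => hshift j, Finset.sum_const,
      Finset.card_range, ← Nat.cast_smul_eq_nsmul ℂ, smul_smul]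
    norm_num
  have hSS : S * S = 1 := by rw [hS, ← map_mul, hi, map_one]
  have hconjpow : ∀ j : ℕ, i * y ^ j = (y ^ j)⁻¹ * i := fun j => by
    rw [← inv_pow, ← hinv, conj_pow]; group
  have hSE : S * E = E * S := by
    rw [hE, hS, mul_smul_comm, smul_mul_assoc, Finset.mul_sum, Finset.sum_mul]
    simp only [← map_mul, hconjpow]
    congr 1
    refine Finset.sum_nbij' (fun j => (11 - j) % 11) (fun j => (11 - j) % 11) ?_ ?_ ?_ ?_ ?_
    · intro j hj; simp only [Finset.coe_range, Set.mem_Iio, Finset.mem_range] at hj ⊢; omega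
    · intro j hj; simp only [Finset.coe_range, Set.mem_Iio, Finset.mem_range] at hj ⊢; omega
    · intro j hj; simp only [Finset.coe_range, Set.mem_Iio, Finset.mem_range] at hj ⊢; omega
    · intro j hj; simp only [Finset.coe_range, Set.mem_Iio, Finset.mem_range] at hj ⊢; omega
    · intro j hj
      simp only [Finset.mem_range] at hj
      have : y ^ ((11 - j) % 11) = (y ^ j)⁻¹ := by
        refine eq_inv_of_mul_eq_one_left ?_
        rw [← pow_add, ← pow_mod_orderOf, hy, show ((11 - j) % 11 + j) % 11 = 0 by omega, pow_zero]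
      rw [this]
  have hidem : ∀ s : ℂ, s * s = 1 → ∃ r : ℕ,
      LinearMap.trace ℂ _ ((2 : ℂ)⁻¹ • (E + s • (S * E))) = r := by
    intro s hs
    refine ⟨_, (LinearMap.IsIdempotentElem.isProj_range _ ?_).trace⟩
    show _ * _ = _
    have h1 : S * E * (S * E) = E := by
      calc S * E * (S * E) = S * (E * S) * E := by simp only [mul_assoc]
        _ = S * S * (E * E) := by rw [← hSE]; simp only [mul_assoc]
        _ = E := by rw [hSS, hEE, one_mul]
    have h2 : E * (S * E) = S * E := by rw [← mul_assoc, ← hSE, mul_assoc, hEE]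
    have h3 : S * E * E = S * E := by rw [mul_assoc, hEE]
    rw [smul_mul_smul_comm, add_mul, mul_add, mul_add, hEE, mul_smul_comm, h2, smul_mul_assoc, h3,
      smul_mul_smul_comm, h1, hs, one_smul]
    module
  have hd1 : (χ : G → ℂ) 1 = ((charDegree (χ : G → ℂ) : ℤ) : ℂ) := OrderFront.val_one χ
  have htE : LinearMap.trace ℂ _ E = (((charDegree (χ : G → ℂ) : ℤ) + 10 * a : ℤ) : ℂ) / 11 := by
    rw [hE, map_smul, map_sum, Finset.sum_range_succ', Finset.sum_congr rfl (g := fun _ => (a : ℂ)) fun j hj => ?_]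
    · rw [pow_zero, show LinearMap.trace ℂ _ (ρ 1) = (χ : G → ℂ) 1 by rw [← hρ]; rfl, hd1, Finset.sum_const,
        Finset.card_range]
      simp only [smul_eq_mul, nsmul_eq_mul]
      push_cast; ring
    · rw [show LinearMap.trace ℂ _ (ρ (y ^ (j + 1))) = (χ : G → ℂ) (y ^ (j + 1)) by rw [← hρ]; rfl]
      refine hval _ fun h => ?_
      have := Nat.le_of_dvd (by omega) (hy ▸ orderOf_dvd_of_pow_eq_one h)
      have := Finset.mem_range.1 hj
      omega
  have htSE : LinearMap.trace ℂ _ (S * E) = (z : ℂ) := by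
    rw [hE, hS, mul_smul_comm, Finset.mul_sum, map_smul, map_sum,
      Finset.sum_congr rfl (g := fun _ => (z : ℂ)) fun j _ => ?_]
    · rw [Finset.sum_const, Finset.card_range]
      simp only [smul_eq_mul, nsmul_eq_mul]
      push_cast; ring
    · rw [← map_mul, show LinearMap.trace ℂ _ (ρ (i * y ^ j)) = (χ : G → ℂ) (i * y ^ j) by rw [← hρ]; rfl]
      have e1 : i * y ^ j = (y ^ (6 * j))⁻¹ * i * (y ^ (6 * j))⁻¹⁻¹ := by
        rw [inv_inv, ← hconjpow, mul_assoc, ← pow_add]
        congr 1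
        rw [← pow_mod_orderOf, hy, ← pow_mod_orderOf (x := y) (n := 6 * j + 6 * j), hy,
          show (6 * j + 6 * j) % 11 = j % 11 by omega]
      rw [e1, isClassFunction_character (irr_isCharacter χ.2), hz]
  clear_value E
  have key : ∀ s : ℤ, s = 1 ∨ s = -1 → 0 ≤ (charDegree (χ : G → ℂ) : ℤ) + 10 * a + 11 * (s * z) := by
    intro s hs
    obtain ⟨r, hr⟩ := hidem (s : ℂ) (by rcases hs with rfl | rfl <;> simp)
    rw [map_smul, map_add, map_smul, htE, htSE, smul_eq_mul, smul_eq_mul] at hr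
    have h2 : (((charDegree (χ : G → ℂ) : ℤ) + 10 * a + 11 * (s * z) : ℤ) : ℂ) = (((22 * r : ℕ) : ℤ) : ℂ) := by
      push_cast at hr ⊢
      linear_combination 22 * hr
    have h3 : (charDegree (χ : G → ℂ) : ℤ) + 10 * a + 11 * (s * z) = ((22 * r : ℕ) : ℤ) := by exact_mod_cast h2
    rw [h3]; positivity
  have k1 := key 1 (Or.inl rfl)
  have k2 := key (-1) (Or.inr rfl)
  rcases abs_cases z with ⟨h, -⟩ | ⟨h, -⟩ <;> omega

/-- A degree of the rows of the principal block divides the size of a class of elements of order eleven. -/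
theorem deg_dvd_class {M : Ideal AlgInt} {P : Sylow 11 G} (hP : Nat.card P = 11) {e : ℕ}
    (he : (Subgroup.centralizer ((P : Subgroup G) : Set G)).relIndex
      (Subgroup.normalizer ((P : Subgroup G) : Set G)) = e)
    {X Y : Finset (IrrCharacter G)} {a : IrrCharacter G → ℤ} {δ : ℤ} (h : PrimePrincipal M P e X Y a δ)
    {χ : IrrCharacter G} (hχ : χ ∈ X) : charDegree (χ : G → ℂ) ∣ Nat.card (Sylow 11 G) * e := by
  classical
  obtain ⟨y, hy⟩ := SmallOrderGraph.nonOne_nonempty P hP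
  have hy1 : (y : G) ≠ 1 := mem_nonOne.mp hy
  have hclass : Nat.card {x : G // IsConj (y : G) x} = Nat.card (Sylow 11 G) * e := by
    rw [card_conjClass_eq_index, ← centralizer_zpowers_eq, eq_zpowers_of_prime_sylow hP y.2 hy1,
      Sylow.card_eq_index_normalizer P, ← he, Nat.mul_comm]
    exact (Subgroup.relIndex_mul_index (Subgroup.centralizer_le_normalizer _)).symm
  have h2 := omega_isIntegral χ.2 (y : G)
  rw [omega, h.a_val χ hχ y hy, char_one_eq_deg (irr_isCharacter χ.2), ← charDegree_eq_deg] at h2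
  obtain ⟨z, hz⟩ := isIntegral_rat_cast_imp
    (q := (Nat.card {x : G // IsConj (y : G) x} : ℚ) * a χ / charDegree (χ : G → ℂ))
    (by push_cast; exact h2)
  have hd0 : (charDegree (χ : G → ℂ) : ℚ) ≠ 0 := Nat.cast_ne_zero.mpr (deg_pos χ.2).ne'
  have h3 : (Nat.card {x : G // IsConj (y : G) x} : ℤ) * a χ = z * charDegree (χ : G → ℂ) := by
    rw [eq_div_iff hd0] at hz
    exact_mod_cast hz.symm
  rw [hclass] at h3
  refine Int.natCast_dvd_natCast.1 ⟨z * a χ, ?_⟩
  rcases h.a_sign χ hχ with e1 | e1 <;> rw [e1] at h3 ⊢ <;> linarith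

/-- Degree forty-five is excluded when a small element of the centraliser commutes with an element of order five. -/
theorem not_forty_five (hG : Nat.card G ∣ 95040) (hna : ¬ IsMulCommutative G) {M : Ideal AlgInt}
    (hM : IsPModular 11 M) (P : Sylow 11 G) {u f : G}
    (hu : u ∈ Subgroup.centralizer ((P : Subgroup G) : Set G)) {q : ℕ} (hq : q = 2 ∨ q = 3)
    (huq : u ^ q = 1) (hu1 : u ≠ 1) (hf : orderOf f = 5) (hfu : f * u = u * f) {χ : IrrCharacter G}
    (hχ : χ ∈ principalBlock M G) (hne : χ ≠ oneChar) : charDegree (χ : G → ℂ) ≠ 45 := by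
  classical
  intro hd
  have hp := pmod_prime hM
  have hd1 : (χ : G → ℂ) 1 = 45 := by
    rw [OrderFront.val_one, hd]; norm_num
  have hcongr : ∀ x ∈ Subgroup.centralizer ((P : Subgroup G) : Set G),
      MemLocalIdeal M ((χ : G → ℂ) x - (45 : ℕ)) := by
    intro x hx
    have hle : (P : Subgroup G) ≤ Subgroup.centralizer ({x} : Set G) := fun y hy =>
      Subgroup.mem_centralizer_singleton_iff.2 (Subgroup.mem_centralizer_iff.1 hx y hy)
    set k := (Subgroup.centralizer ({x} : Set G)).index with hkdef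
    have hk : ¬ 11 ∣ k := fun h => P.not_dvd_index (h.trans (Subgroup.index_dvd_of_le hle))
    have hk0 : (k : ℂ) ≠ 0 := Nat.cast_ne_zero.2 fun h0 => hk (h0 ▸ dvd_zero 11)
    have h : MemLocalIdeal M ((k : ℂ) * 1 / 1 - (k : ℂ) * (χ : G → ℂ) x / (χ : G → ℂ) 1) := hχ x
    have h2 := memLI_mul_right hp (memLI_mul_right hp h (memLR_natCast hp 45)) (memLR_inv_natCast hM hk)
    have e : ((k : ℂ) * 1 / 1 - (k : ℂ) * (χ : G → ℂ) x / (χ : G → ℂ) 1) * ((45 : ℕ) : ℂ) * (k : ℂ)⁻¹ =
        ((45 : ℕ) : ℂ) - (χ : G → ℂ) x := by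
      rw [hd1]; push_cast; field_simp
    rw [e] at h2
    exact memLI_symm hp h2
  -- the value over five is integral
  set H := Subgroup.centralizer ({u} : Set G) with hH
  have h5 : 5 ∣ Nat.card H := hf ▸ Subgroup.orderOf_dvd_natCard H (Subgroup.mem_centralizer_singleton_iff.2 hfu)
  have hcop : Nat.Coprime H.index 5 := by
    refine ((by norm_num : Nat.Prime 5).coprime_iff_not_dvd.2 fun h => ?_).symm
    have := Nat.mul_dvd_mul h5 h
    rw [Subgroup.card_mul_index] at this
    exact absurd (this.trans hG) (by norm_num)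
  obtain ⟨α, β, hαβ⟩ : ∃ α β : ℤ, α * (H.index : ℤ) + β * 5 = 1 :=
    Int.isCoprime_iff_gcd_eq_one.2 (by exact_mod_cast hcop)
  have hw : IsIntegral ℤ ((χ : G → ℂ) u / 5) := by
    have h2 := omega_isIntegral χ.2 u
    rw [omega, card_conjClass_eq_index, ← hH, hd1] at h2
    have h3 := ((isIntegral_algebraMap (R := ℤ) (A := ℂ) (x := 9 * α)).mul h2).add
      ((isIntegral_algebraMap (R := ℤ) (A := ℂ) (x := β)).mul (char_isIntegral (irr_isCharacter χ.2) u))
    refine Eq.mp (congrArg (IsIntegral ℤ) ?_) h3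
    have hc : (α : ℂ) * (H.index : ℂ) + β * 5 = 1 := by exact_mod_cast hαβ
    simp only [algebraMap_int_eq, eq_intCast]
    push_cast
    linear_combination ((χ : G → ℂ) u / 5) * hc
  have hw' : IsIntegral ℤ ((χ : G → ℂ) u⁻¹ / 5) := by
    have := hw.map (starRingEnd ℂ).toIntAlgHom
    rw [RingHom.toIntAlgHom_apply, map_div₀, ← char_inv (irr_isCharacter χ.2), map_ofNat] at this
    exact this
  -- the eigenvalues
  obtain ⟨n, ρ, hρ⟩ := irr_isCharacter χ.2
  obtain ⟨μ, hμ, htr, -⟩ := exists_eigenvalues ρ u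
  have hq0 : 0 < q := by omega
  have hord : orderOf u ∣ q := orderOf_dvd_of_pow_eq_one huq
  have hμq : ∀ i, μ i ^ q = 1 := fun i => by
    obtain ⟨k, hk⟩ := hord
    rw [hk, pow_mul, hμ i, one_pow]
  let c : ℤ := if q = 2 then 4 else 3
  let s := (Finset.univ.filter fun i => μ i ≠ 1).card
  have hpair : ∀ i, μ i + μ i ^ (q - 1) = 2 - (if μ i ≠ 1 then (c : ℂ) else 0) := by
    intro i
    by_cases h1 : μ i = 1
    · rw [if_neg (not_not.2 h1), h1, one_pow]; norm_num
    rw [if_pos h1]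
    have hroot := hμq i
    rcases hq with rfl | rfl
    · have : μ i = -1 := (sq_eq_one_iff.1 hroot).resolve_left h1
      simp [c, this]; norm_num
    · have h3 : (μ i - 1) * (μ i ^ 2 + μ i + 1) = 0 := by linear_combination hroot
      rcases mul_eq_zero.1 h3 with h | h
      · exact absurd (sub_eq_zero.1 h) h1
      · simp only [c, show ((3 : ℕ) = 2) = False from eq_false (by norm_num), if_false]
        push_cast
        linear_combination h
  have hinv : u⁻¹ = u ^ (q - 1) := inv_eq_of_mul_eq_one_right (by rw [← pow_succ', Nat.sub_add_cancel hq0, huq])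
  have hfr : Module.finrank ℂ (Fin n → ℂ) = 45 := by
    have h := congrFun hρ 1
    rw [Representation.char_one, hd1] at h
    exact_mod_cast h
  have hsum : (χ : G → ℂ) u + (χ : G → ℂ) u⁻¹ = ((90 - c * s : ℤ) : ℂ) := by
    have h1 := htr 1
    rw [pow_one] at h1
    rw [hinv, ← hρ, h1, htr]
    simp only [pow_one]
    rw [← Finset.sum_add_distrib, Finset.sum_congr rfl fun i _ => hpair i, Finset.sum_sub_distrib,
      Finset.sum_const, Finset.card_univ, Fintype.card_fin, ← Finset.sum_filter, Finset.sum_const,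
      show Module.finrank ℂ (Fin n → ℂ) • (2 : ℂ) = 90 by rw [hfr]; norm_num]
    simp only [nsmul_eq_mul, s]
    push_cast; ring
  have hs5 : (5 : ℤ) ∣ c * s := by
    obtain ⟨r, hr⟩ := isIntegral_rat_cast_imp (q := ((90 - c * s : ℤ) : ℚ) / 5) (by
      push_cast
      have := hw.add hw'
      rw [← add_div, hsum] at this
      push_cast at this
      exact this)
    have : (90 - c * s : ℤ) = 5 * r := by
      rw [eq_div_iff (by norm_num)] at hr
      exact_mod_cast (show (((90 - c * s : ℤ)) : ℚ) = ((5 * r : ℤ) : ℚ) by push_cast at hr ⊢; linarith)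
    exact ⟨18 - r, by omega⟩
  have hs11 : (11 : ℤ) ∣ c * s := by
    have h := memLI_add hp (hcongr u hu) (hcongr u⁻¹ (inv_mem hu))
    rw [show (χ : G → ℂ) u - ((45 : ℕ) : ℂ) + ((χ : G → ℂ) u⁻¹ - ((45 : ℕ) : ℂ)) =
      ((-(c * s) : ℤ) : ℂ) by push_cast at hsum ⊢; linear_combination hsum] at h
    exact dvd_neg.1 ((memLI_intCast_iff hM _).1 h)
  have hsle : s ≤ 45 := by
    calc s ≤ Finset.univ.card := Finset.card_le_univ _
      _ = 45 := by rw [Finset.card_univ, Fintype.card_fin, hfr]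
  have hs0 : s = 0 := by
    rcases hq with rfl | rfl <;> simp [c] at hs5 hs11 <;> omega
  refine hu1 (faithful hne (by omega) u ?_)
  have h1 := htr 1
  rw [pow_one] at h1
  have hall : ∀ i, μ i = 1 := fun i => by
    by_contra h
    exact Finset.eq_empty_iff_forall_notMem.1 (Finset.card_eq_zero.1 hs0) i (Finset.mem_filter.2 ⟨Finset.mem_univ _, h⟩)
  rw [← hρ, h1, Finset.sum_congr rfl fun i _ => show μ i ^ 1 = 1 by rw [hall i, pow_one], Finset.sum_const,
    Finset.card_univ, Fintype.card_fin, Representation.char_one, nsmul_one]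

/-- An element of order five centralises the small part of the centraliser. -/
theorem exists_commuting_small (P : Sylow 11 G) (hP : Nat.card P = 11) {e k : ℕ}
    (he : (Subgroup.centralizer ((P : Subgroup G) : Set G)).relIndex
      (Subgroup.normalizer ((P : Subgroup G) : Set G)) = e) (h5e : 5 ∣ e)
    (hk : Nat.card (Subgroup.centralizer ((P : Subgroup G) : Set G)) = 11 * k) (hk23 : k = 2 ∨ k = 3) :
    ∃ u f : G, u ∈ Subgroup.centralizer ((P : Subgroup G) : Set G) ∧ u ^ k = 1 ∧ u ≠ 1 ∧ orderOf f = 5 ∧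
      f * u = u * f := by
  haveI : Fact (Nat.Prime 5) := ⟨Nat.prime_five⟩
  haveI : Fact (Nat.Prime k) := ⟨by rcases hk23 with rfl | rfl <;> norm_num⟩
  set C := Subgroup.centralizer ((P : Subgroup G) : Set G)
  set N := Subgroup.normalizer ((P : Subgroup G) : Set G)
  obtain ⟨⟨u, huC⟩, hu⟩ := exists_prime_orderOf_dvd_card' (G := C) k (hk ▸ dvd_mul_left k 11)
  have hN : 5 ∣ Nat.card N := by
    have h := Subgroup.card_mul_index (C.subgroupOf N)
    rw [show (C.subgroupOf N).index = e from he] at h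
    exact h ▸ h5e.mul_left _
  obtain ⟨⟨f, hfN⟩, hf⟩ := exists_prime_orderOf_dvd_card' (G := N) 5 hN
  rw [Subgroup.orderOf_mk] at hu hf
  obtain ⟨g, hgP, hgo, hgz⟩ := MathieuEleven.gen_prime hP
  have hgC : g ∈ C := Subgroup.mem_centralizer_iff.2 fun b hb => MathieuEleven.comm_of_prime hP b hb g hgP
  have hcomm : Commute (⟨u, huC⟩ : C) ⟨g, hgC⟩ :=
    Subtype.ext (Subgroup.mem_centralizer_iff.1 huC g hgP).symm
  set v : C := ⟨u, huC⟩ * ⟨g, hgC⟩ with hv
  have hvo : orderOf v = Nat.card C := by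
    rw [hcomm.orderOf_mul_eq_mul_orderOf_of_coprime (by
      rw [Subgroup.orderOf_mk, Subgroup.orderOf_mk, hu, hgo]; rcases hk23 with rfl | rfl <;> norm_num),
      Subgroup.orderOf_mk, Subgroup.orderOf_mk, hu, hgo, hk, mul_comm]
  have hfu : f * u * f⁻¹ ∈ C := Subgroup.mem_centralizer_iff.2 fun b hb => by
    have h := Subgroup.mem_centralizer_iff.1 huC _ ((Subgroup.mem_normalizer_iff.1 (inv_mem hfN) b).1 hb)
    rw [inv_inv] at h
    calc b * (f * u * f⁻¹) = f * (f⁻¹ * b * f * u) * f⁻¹ := by group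
      _ = f * (u * (f⁻¹ * b * f)) * f⁻¹ := by rw [h]
      _ = f * u * f⁻¹ * b := by group
  have huk : u ^ k = 1 := hu ▸ pow_orderOf_eq_one u
  -- the elements of order dividing k are the powers of u
  have hpow : ∀ w : C, w ^ k = 1 → ∃ j : ℕ, (w : G) = u ^ j := by
    intro w hw
    have hmem : w ∈ Subgroup.zpowers v := by
      rw [Subgroup.eq_top_of_card_eq (Subgroup.zpowers v) (by rw [Nat.card_zpowers, hvo])]; trivial
    obtain ⟨j, rfl⟩ := (isOfFinOrder_of_finite v).mem_powers_iff_mem_zpowers.2 hmem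
    dsimp only at hw ⊢
    have hd : 11 * k ∣ j * k := hk ▸ hvo ▸ orderOf_dvd_of_pow_eq_one (by rw [pow_mul, hw])
    obtain ⟨i, rfl⟩ := Nat.dvd_of_mul_dvd_mul_right (Fact.out : k.Prime).pos hd
    refine ⟨11 * i, ?_⟩
    rw [hv, hcomm.mul_pow, Subgroup.coe_mul, SubgroupClass.coe_pow, SubgroupClass.coe_pow]
    show u ^ (11 * i) * g ^ (11 * i) = _
    rw [pow_mul g, ← hgo, pow_orderOf_eq_one, one_pow, mul_one]
  obtain ⟨j, hj⟩ := hpow ⟨f * u * f⁻¹, hfu⟩ (Subtype.ext (by
    rw [SubgroupClass.coe_pow]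
    show (f * u * f⁻¹) ^ k = 1
    rw [conj_pow, huk, mul_one, mul_inv_cancel]))
  change f * u * f⁻¹ = u ^ j at hj
  have hiter : ∀ m : ℕ, f ^ m * u * (f ^ m)⁻¹ = u ^ (j ^ m) := by
    intro m
    induction m with
    | zero => simp
    | succ m ih =>
      calc f ^ (m + 1) * u * (f ^ (m + 1))⁻¹ = f * (f ^ m * u * (f ^ m)⁻¹) * f⁻¹ := by rw [pow_succ']; group
        _ = (f * u * f⁻¹) ^ (j ^ m) := by rw [ih, conj_pow]
        _ = u ^ (j ^ (m + 1)) := by rw [hj, ← pow_mul, pow_succ' j m]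
  have h5 : u ^ (j ^ 5) = u := by
    rw [← hiter 5, ← hf, pow_orderOf_eq_one]; group
  refine ⟨u, f, huC, huk, fun h => ?_, hf, ?_⟩
  · rw [h, orderOf_one] at hu; exact (Fact.out : k.Prime).ne_one hu.symm
  · have hj' : u ^ j = u := by
      have hm : j ^ 5 % k = 1 % k := by
        have := pow_eq_pow_iff_modEq.1 (h5.trans (pow_one u).symm)
        rwa [hu] at this
      rw [← pow_mod_orderOf, hu]
      rw [Nat.pow_mod] at hm
      rcases hk23 with rfl | rfl
      · rcases Nat.mod_two_eq_zero_or_one j with h | h <;> simp_all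
      · rcases (by omega : j % 3 = 0 ∨ j % 3 = 1 ∨ j % 3 = 2) with h | h | h <;> simp_all
    rw [hj'] at hj
    exact mul_inv_eq_iff_eq_mul.1 hj

/-- An inverting involution commutes with an element of order five when the automiser is full. -/
theorem five_dvd_cent (P : Sylow 11 G) (hP : Nat.card P = 11)
    (he : (Subgroup.centralizer ((P : Subgroup G) : Set G)).relIndex
      (Subgroup.normalizer ((P : Subgroup G) : Set G)) = 10)
    (hC : Nat.card (Subgroup.centralizer ((P : Subgroup G) : Set G)) = 11) {i : G}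
    (hiN : i ∈ Subgroup.normalizer ((P : Subgroup G) : Set G))
    (hinv : ∀ y ∈ (P : Subgroup G), i * y * i⁻¹ = y⁻¹) :
    5 ∣ Nat.card (Subgroup.centralizer ({i} : Set G)) := by
  classical
  set C := Subgroup.centralizer ((P : Subgroup G) : Set G)
  set N := Subgroup.normalizer ((P : Subgroup G) : Set G)
  have hN : Nat.card N = 110 := by
    have h := Subgroup.card_mul_index (C.subgroupOf N)
    rw [show (C.subgroupOf N).index = 10 from he,
      Nat.card_congr (Subgroup.subgroupOfEquivOfLe (Subgroup.centralizer_le_normalizer _)).toEquiv, hC] at h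
    exact h.symm
  set i' : N := ⟨i, hiN⟩
  set K := Subgroup.centralizer ({i'} : Set N)
  have hmul := MathieuEleven.class_mul_centralizer i'
  rw [hN] at hmul
  have hle : Nat.card {x : N // IsConj i' x} ≤ 11 := by
    rw [← hC]
    refine Nat.card_le_card_of_injective (fun x => ⟨((x : N) : G) * i⁻¹, ?_⟩) ?_
    · obtain ⟨⟨x, hx⟩, hconj⟩ := x
      obtain ⟨⟨n, hn⟩, hxe⟩ := isConj_iff.1 hconj
      have hxe' : n * i * n⁻¹ = x := congrArg Subtype.val hxe
      refine Subgroup.mem_centralizer_iff.2 fun b hb => ?_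
      show b * (x * i⁻¹) = x * i⁻¹ * b
      have h1 := hinv b⁻¹ (inv_mem hb)
      rw [inv_inv] at h1
      have hnb : n⁻¹ * b * n ∈ (P : Subgroup G) := by
        have := (Subgroup.mem_normalizer_iff.1 (inv_mem hn) b).1 hb
        simpa using this
      have h2 := hinv _ hnb
      have hxb : x * b⁻¹ * x⁻¹ = b := by
        rw [← hxe']
        calc n * i * n⁻¹ * b⁻¹ * (n * i * n⁻¹)⁻¹ = n * (i * (n⁻¹ * b * n) * i⁻¹)⁻¹ * n⁻¹ := by group
          _ = b := by rw [h2]; group
      calc b * (x * i⁻¹) = x * b⁻¹ * x⁻¹ * (x * i⁻¹) := by rw [hxb]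
        _ = x * b⁻¹ * i⁻¹ := by group
        _ = x * i⁻¹ * (i * b⁻¹ * i⁻¹) := by group
        _ = x * i⁻¹ * b := by rw [h1]
    · intro x z h
      exact Subtype.ext (Subtype.ext (mul_right_cancel (congrArg Subtype.val h)))
  have hKd : Nat.card K ∣ 110 := hN ▸ Subgroup.card_subgroup_dvd_card K
  have h11 : ¬ 11 ∣ Nat.card K := by
    intro h
    obtain ⟨⟨⟨w, hwN⟩, hwK⟩, hw⟩ := exists_prime_orderOf_dvd_card' (G := K) 11 h
    simp only [Subgroup.orderOf_mk] at hw
    have hwP : w ∈ (P : Subgroup G) := MathieuEleven.mem_of_normalises ⟨1, by rw [pow_one, ← hw, pow_orderOf_eq_one]⟩ P hwN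
    have hc : w * i = i * w := congrArg Subtype.val (Subgroup.mem_centralizer_singleton_iff.1 hwK)
    have h2 := hinv w hwP
    rw [← hc, mul_inv_cancel_right] at h2
    have : orderOf w ∣ 2 := orderOf_dvd_of_pow_eq_one (by
      rw [sq]; nth_rewrite 1 [h2]; rw [inv_mul_cancel])
    rw [hw] at this
    exact absurd this (by norm_num)
  have h5 : 5 ∣ Nat.card K := by
    have hge : 110 ≤ 11 * Nat.card K := hmul ▸ Nat.mul_le_mul_right _ hle
    have key : ∀ d < 111, d ∣ 110 → ¬ 11 ∣ d → 10 ≤ d → 5 ∣ d := by decide +kernel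
    exact key _ (Nat.lt_succ_of_le (Nat.le_of_dvd (by norm_num) hKd)) hKd h11 (by omega)
  refine h5.trans ?_
  rw [← Subgroup.card_map_of_injective N.subtype_injective]
  refine Subgroup.card_dvd_of_le ?_
  rintro _ ⟨a, ha, rfl⟩
  exact Subgroup.mem_centralizer_singleton_iff.2 (congrArg Subtype.val (Subgroup.mem_centralizer_singleton_iff.1 ha))

/-- The case of a full automiser with a self-centralising Sylow subgroup. -/
theorem no_full (hG : Nat.card G = 15840) (hna : ¬ IsMulCommutative G) (P : Sylow 11 G) (hP : Nat.card P = 11)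
    (he : (Subgroup.centralizer ((P : Subgroup G) : Set G)).relIndex
      (Subgroup.normalizer ((P : Subgroup G) : Set G)) = 10)
    (hC : Nat.card (Subgroup.centralizer ((P : Subgroup G) : Set G)) = 11) : False := by
  classical
  obtain ⟨M, hM⟩ := exists_pModular (show Nat.Prime 11 by norm_num)
  obtain ⟨X, Y, a, δ, h, h1X, hone, hYc⟩ :=
    Solv.BReyn.exists_principal_one_mem hM hP he (by norm_num) (t := 1) (by norm_num) (by norm_num)
  change (oneChar : IrrCharacter G) ∈ X at h1X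
  change a (oneChar : IrrCharacter G) = 1 at hone
  obtain ⟨θ, hθY⟩ := Finset.card_eq_one.1 hYc
  have hθ : θ ∈ Y := by rw [hθY]; exact Finset.mem_singleton_self θ
  have hθne : θ ≠ oneChar := fun e => Finset.disjoint_left.1 h.disj h1X (e ▸ hθ)
  obtain ⟨i, hi, hiN, hinv⟩ := exists_inverting P hP he (by norm_num) (by rw [hC]; norm_num)
  have h5i := five_dvd_cent P hP he hC hiN hinv
  have hii : i * i = 1 := by rw [← sq, ← hi, pow_orderOf_eq_one]
  have hi11 : ¬ 11 ∣ orderOf i := by rw [hi]; norm_num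
  have hp1 : ¬ 11 ∣ orderOf (1 : G) := by rw [orderOf_one]; norm_num
  obtain ⟨y, hyP, hy, hyz⟩ := MathieuEleven.gen_prime hP
  have hcent : Subgroup.centralizer ((P : Subgroup G) : Set G) = (P : Subgroup G) :=
    (Subgroup.eq_of_le_of_card_ge (fun a ha => Subgroup.mem_centralizer_iff.2 fun b hb =>
      MathieuEleven.comm_of_prime hP b hb a ha) (by rw [hC]; exact hP.ge)).symm
  have hval1 : ∀ χ : IrrCharacter G, (χ : G → ℂ) 1 = ((charDegree (χ : G → ℂ) : ℤ) : ℂ) := OrderFront.val_one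
  -- the values on the Sylow subgroup
  have hXval : ∀ χ ∈ X, ∀ j : ℕ, y ^ j ≠ 1 → (χ : G → ℂ) (y ^ j) = (a χ : ℂ) := fun χ hχ j hj =>
    h.a_val χ hχ ⟨y ^ j, pow_mem hyP j⟩ (mem_nonOne.2 hj)
  have hθval : ∀ j : ℕ, y ^ j ≠ 1 → (θ : G → ℂ) (y ^ j) = ((-δ : ℤ) : ℂ) := by
    intro j hj
    have ho : orderOf (y ^ j) = 11 := by
      rcases (Nat.dvd_prime (by norm_num : Nat.Prime 11)).1 (hy ▸ orderOf_pow_dvd j) with e | e
      · exact absurd (orderOf_eq_one_iff.1 e) hj
      · exact e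
    have hz : Subgroup.zpowers (y ^ j) = (P : Subgroup G) :=
      Subgroup.eq_of_le_of_card_ge (Subgroup.zpowers_le.2 (pow_mem hyP j)) (by rw [Nat.card_zpowers, ho]; exact hP.le)
    have hcy : Subgroup.centralizer ({y ^ j} : Set G) = Subgroup.zpowers (y ^ j) := by
      rw [← MathieuEleven.centralizer_gen hz, hz, hcent]
    have h2 := second_orth (y ^ j) (1 : G)
    rw [if_neg fun e => hj (isConj_one_left.mp e), ← Finset.sum_subset (Finset.subset_univ (X ∪ Y)) fun ψ _ hψ => by
      rw [Small.StructureConstantTwo.vanish_outside hM ho hcy fun hm => hψ (Finset.mem_union.2 ((h.mem_iff ψ).mp hm)),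
        zero_mul], Finset.sum_union h.disj, hθY, Finset.sum_singleton] at h2
    have hrel := h.rel θ hθ 1 hp1
    simp only [hval1] at hrel h2
    simp only [map_intCast] at h2
    rw [Finset.sum_congr rfl fun χ hχ => by rw [hXval χ hχ j hj]] at h2
    have hd0 : ((charDegree (θ : G → ℂ) : ℤ) : ℂ) ≠ 0 := by exact_mod_cast (deg_pos θ.2).ne'
    refine mul_right_cancel₀ hd0 ?_
    push_cast at h2 hrel ⊢
    linear_combination h2 + hrel
  -- every value is a multiple of five
  have key : ∀ χ : IrrCharacter G, χ ≠ oneChar → ∀ b : ℤ, (b = 1 ∨ b = -1) →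
      (charDegree (χ : G → ℂ) : ℤ) % 11 = b % 11 → (∀ j : ℕ, y ^ j ≠ 1 → (χ : G → ℂ) (y ^ j) = (b : ℂ)) →
      ∃ z : ℤ, (χ : G → ℂ) i = z ∧ (5 : ℤ) ∣ z := by
    intro χ hne b hb hcg hv
    obtain ⟨z, hz, h4, hlt⟩ := SmallOrderGraph.invol_value hna hne hi
    refine ⟨z, hz, ?_⟩
    set d := charDegree (χ : G → ℂ) with hd
    have hdG : d ∣ 15840 := hG ▸ deg_dvd_card χ.2
    have hd126 : d ≤ 126 := by
      have h1 := one_add_sq_le (g := (1 : G)) hne (hval1 χ)
      have hC1 : Nat.card (Subgroup.centralizer ({1} : Set G)) ≤ Nat.card G := Subgroup.card_le_card_group _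
      rw [hG] at hC1
      nlinarith
    have hd8 : d ∈ degList := mem_degList (one_lt_degree hna hne) (by
      refine ((((by norm_num : Nat.Prime 11)).coprime_iff_not_dvd.2 fun h11 => ?_).symm).dvd_of_dvd_mul_left
        (hdG.trans (show 15840 ∣ 11 * 8640 by norm_num))
      rcases hb with rfl | rfl <;> omega) (by omega)
    have hd11 : d % 11 = 1 ∨ d % 11 = 10 := by rcases hb with rfl | rfl <;> omega
    have hlist := ten_list d hd8 hd126 hd11 hdG
    have h54 := ten_list' d hd8 hd126 hd11 hdG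
    by_cases h5 : 5 ∣ d
    · have h2 := class_dvd χ hz rfl hG
      rw [← hd] at h2
      have h3 : ((5 : ℕ) : ℤ) ∣ ((15840 / Nat.card (Subgroup.centralizer ({i} : Set G)) : ℕ) : ℤ) * z :=
        (Int.natCast_dvd_natCast.2 h5).trans h2
      refine ((Nat.prime_iff_prime_int.1 Nat.prime_five).dvd_mul.1 h3).resolve_left fun h6 => ?_
      rw [Int.natCast_dvd_natCast] at h6
      obtain ⟨q, hq⟩ := (hG ▸ Subgroup.card_subgroup_dvd_card _ :
        Nat.card (Subgroup.centralizer ({i} : Set G)) ∣ 15840)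
      rw [hq, Nat.mul_div_cancel_left _ Nat.card_pos] at h6
      have := Nat.mul_dvd_mul h5i h6
      rw [← hq] at this
      norm_num at this
    · have hbd := inverting_bound hii hy (hinv y hyP) hv hz
      have hab := abs_le.1 (le_refl |z|)
      rw [← hd] at hbd
      simp only [List.mem_cons, List.not_mem_nil, or_false] at hlist
      have hz0 : z = 0 := by rcases hlist with e | e | e | e | e | e <;> omega
      rw [hz0]; exact dvd_zero _
  obtain ⟨u, hu, hu5⟩ := key θ hθne (-δ) (by rcases h.sign with e | e <;> simp [e]) (by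
    have := (h.congrY θ hθ).eq
    rcases h.sign with e | e <;> rw [e] at this ⊢ <;> omega) hθval
  have hX5 : ∀ χ ∈ X.erase oneChar, ∃ z : ℤ, (χ : G → ℂ) i = z ∧ (5 : ℤ) ∣ z := fun χ hχ => by
    obtain ⟨hne, hχX⟩ := Finset.mem_erase.1 hχ
    exact key χ hne (a χ) (h.a_sign χ hχX) (h.a_congr χ hχX).eq (hXval χ hχX)
  choose! zf hzf hz5 using hX5
  have hrel := h.rel θ hθ i hi11
  rw [← Finset.add_sum_erase X _ h1X, hone, hu, Finset.sum_congr rfl (g := fun χ : IrrCharacter G =>
    ((a χ * zf χ : ℤ) : ℂ)) fun χ hχ => by rw [hzf χ hχ, Int.cast_mul]] at hrel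
  simp only [oneChar] at hrel hz5
  have h3 : δ * u = 1 + ∑ χ ∈ X.erase oneChar, a χ * zf χ := by
    have : ((δ * u : ℤ) : ℂ) = ((1 + ∑ χ ∈ X.erase oneChar, a χ * zf χ : ℤ) : ℂ) := by
      push_cast at hrel ⊢
      simpa [oneChar] using hrel
    exact_mod_cast this
  have h4 : (5 : ℤ) ∣ ∑ χ ∈ X.erase oneChar, a χ * zf χ :=
    Finset.dvd_sum fun χ hχ => Dvd.dvd.mul_left (hz5 χ hχ) _
  have h5 : (5 : ℤ) ∣ δ * u := Dvd.dvd.mul_left hu5 _
  omega

/-- A simple group whose order is a large divisor of 95040 divisible by eleven. -/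
theorem card_cases (hG : Nat.card G ∣ 95040) (h11 : 11 ∣ Nat.card G) (hbig : 6000 ≤ Nat.card G) :
    Nat.card G = 7920 ∨ Nat.card G = 95040 := by
  classical
  refine or_iff_not_imp_right.2 fun hne => ?_
  obtain ⟨m, hm⟩ := h11
  have hm8 : m ∣ 8640 := Nat.dvd_of_mul_dvd_mul_left (by norm_num : 0 < 11) (hm ▸ hG)
  have hmle : m ≤ 4320 := by
    obtain ⟨c, hc⟩ := hm8
    rcases Nat.lt_or_ge c 2 with h | h
    · interval_cases c <;> omega
    · have := Nat.mul_le_mul_left m h
      omega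
  have hm11 : ¬ 11 ∣ m := fun h => absurd (h.trans hm8) (by norm_num)
  obtain ⟨P, n, e, k, hP, hn, hk, hnek, hn1, hne1, he10, he1, he⟩ := data (G := G) (p := 11) hm hm11 (by omega)
  have hna : ¬ IsMulCommutative G := Lead.BlockDeg.not_comm (p := 11) (by norm_num) hm (by omega)
  have hC : Nat.card (Subgroup.centralizer ((P : Subgroup G) : Set G)) = 11 * k := hk
  obtain ⟨i, hi⟩ : ∃ i, n = 11 * i + 1 := ⟨n / 11, by omega⟩
  have hdvd : n * e ∣ 8640 := (Dvd.intro k hnek).trans hm8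
  have hn8640 : n ≤ 8640 := Nat.le_of_dvd (by norm_num) ((dvd_mul_right n e).trans hdvd)
  have hel : e ∈ [2, 5, 10] := by
    have key : ∀ e' ≤ 10, e' ∣ 10 → e' ≠ 1 → e' ∈ [2, 5, 10] := by decide
    exact key e (Nat.le_of_dvd (by norm_num) he10) he10 he1
  have he10' : e ≤ 10 := Nat.le_of_dvd (by norm_num) he10
  have he2 : 2 ≤ e := by
    simp only [List.mem_cons, List.not_mem_nil, or_false] at hel
    omega
  have hi2 : 2 ≤ i := by
    by_contra hlt
    have hi1 : i = 1 := by omega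
    subst hi1 hi
    have h := cent_twelve P hP hn
    rw [show centCard 11 P = 11 * k from hk] at h
    have : k ≤ 1 := by omega
    interval_cases k <;> omega
  have hsq : ¬ 11 ^ 2 ∣ Nat.card G := fun h => absurd (h.trans hG) (by norm_num)
  have hdeg : ∀ χ : IrrCharacter G, χ ≠ oneChar → ¬ 11 ∣ charDegree (χ : G → ℂ) →
      charDegree (χ : G → ℂ) ∈ degList ∧ charDegree (χ : G → ℂ) ≤ 217 := by
    intro χ hne h
    have h1 := one_add_sq_le (g := (1 : G)) hne (OrderFront.val_one χ)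
    have hC1 : Nat.card (Subgroup.centralizer ({1} : Set G)) ≤ Nat.card G := Subgroup.card_le_card_group _
    have hle : charDegree (χ : G → ℂ) ≤ 217 := by nlinarith
    exact ⟨mem_degList (one_lt_degree hna hne) ((((by norm_num : Nat.Prime 11)).coprime_iff_not_dvd.2 h).symm.dvd_of_dvd_mul_left
      ((deg_dvd_card χ.2).trans (hG.trans (show 95040 ∣ 11 * 8640 by norm_num)))) (by omega), hle⟩
  obtain ⟨t, ht, het⟩ : ∃ t, 0 < t ∧ e * t + 1 = 11 := by
    simp only [List.mem_cons, List.not_mem_nil, or_false] at hel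
    rcases hel with rfl | rfl | rfl
    · exact ⟨5, by norm_num⟩
    · exact ⟨2, by norm_num⟩
    · exact ⟨1, by norm_num⟩
  obtain ⟨M, hM⟩ := exists_pModular (show Nat.Prime 11 by norm_num)
  obtain ⟨X, Y, a, δ, h, h1X, hone, hYc⟩ :=
    Solv.BReyn.exists_principal_one_mem hM hP he (by omega) ht het
  change (oneChar : IrrCharacter G) ∈ X at h1X
  change a (oneChar : IrrCharacter G) = 1 at hone
  obtain ⟨θ, hθ⟩ : Y.Nonempty := Finset.card_pos.1 (by omega)
  have hθne : θ ≠ oneChar := fun e => Finset.disjoint_left.1 h.disj h1X (e ▸ hθ)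
  have hθd : charDegree (θ : G → ℂ) ∈ degList ∧ charDegree (θ : G → ℂ) ≤ 217 := hdeg θ hθne fun hd => by
    have h1 := (h.congrY θ hθ).eq
    rcases h.sign with e1 | e1 <;> rw [e1] at h1 <;> omega
  have hXd : ∀ χ ∈ X.erase oneChar, charDegree (χ : G → ℂ) ∈ degList ∧ charDegree (χ : G → ℂ) ≤ 217 ∧
      ((charDegree (χ : G → ℂ) % 11 = 1 ∧ a χ = 1) ∨ (charDegree (χ : G → ℂ) % 11 = 10 ∧ a χ = -1)) := by
    intro χ hχ
    obtain ⟨hne, hχX⟩ := Finset.mem_erase.1 hχ
    have hs := signed_deg (h.a_sign χ hχX) (h.a_congr χ hχX)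
    obtain ⟨h1, h2⟩ := hdeg χ hne (by omega)
    exact ⟨h1, h2, hs⟩
  have hrel : δ * (charDegree (θ : G → ℂ) : ℤ) = 1 + ∑ χ ∈ X.erase oneChar, a χ * (charDegree (χ : G → ℂ) : ℤ) := by
    have h2 := h.rel θ hθ 1 (by rw [orderOf_one]; norm_num)
    rw [← Finset.add_sum_erase X _ h1X, hone] at h2
    simp only [OrderFront.val_one] at h2
    have h3 : ((δ * (charDegree (θ : G → ℂ) : ℤ) : ℤ) : ℂ) =
        ((1 + ∑ χ ∈ X.erase oneChar, a χ * (charDegree (χ : G → ℂ) : ℤ) : ℤ) : ℂ) := by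
      push_cast at h2 ⊢
      simp only [oneChar, charDegree] at h2 ⊢
      simpa using h2
    exact_mod_cast h3
  have hsmall : k ≠ 1 → ∀ χ : IrrCharacter G, χ ≠ oneChar → χ ∈ X ∨ χ ∈ Y → 22 ≤ charDegree (χ : G → ℂ) := by
    intro hk1 χ hne hmem
    by_contra hlt
    have := cent_of_small hna hsq hM P hP ((h.mem_iff χ).2 hmem) hne (by omega)
    omega
  have hδm : δ ∈ ([1, -1] : List ℤ) := by rcases h.sign with e1 | e1 <;> simp [e1]
  have hθc : ((charDegree (θ : G → ℂ) : ℤ) - δ * (e : ℤ)) % 11 = 0 :=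
    Int.emod_eq_zero_of_dvd (Int.modEq_iff_dvd.1 (h.congrY θ hθ).symm)
  rcases small_options i (by omega) e hel (hi ▸ hdvd) hi2 with rfl | ⟨rfl, he'⟩ | rfl
  · exfalso
    obtain ⟨χ, hχ⟩ : ∃ χ, X.erase oneChar = {χ} := Finset.card_eq_one.1 (by
      rw [Finset.card_erase_of_mem h1X, h.cardX])
    have hχm : χ ∈ X.erase oneChar := hχ ▸ Finset.mem_singleton_self χ
    obtain ⟨hne', hχX⟩ := Finset.mem_erase.1 hχm
    obtain ⟨hd1, -, hs⟩ := hXd χ hχm
    rw [hχ, Finset.sum_singleton] at hrel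
    have hd : charDegree (χ : G → ℂ) = 10 := by
      refine two_degree _ hd1 _ hθd.1 (a χ) ?_ δ hδm ?_ hθc hrel
      · rcases h.a_sign χ hχX with e1 | e1 <;> simp [e1]
      · exact Int.emod_eq_zero_of_dvd (Int.modEq_iff_dvd.1 (h.a_congr χ hχX).symm)
    have ha : a χ = -1 := by omega
    have hC1 := cent_of_small hna hsq hM P hP ((h.mem_iff χ).2 (Or.inl hχX)) hne' (by omega)
    obtain ⟨v, hv, -, hinv⟩ := exists_inverting P hP he dvd_rfl (by rw [hC1]; norm_num)
    obtain ⟨z, hz, h4, -⟩ := SmallOrderGraph.invol_value hna hne' hv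
    obtain ⟨y, hyP, hy, -⟩ := MathieuEleven.gen_prime hP
    have hb := inverting_bound (χ := χ) (by rw [← sq, ← hv, pow_orderOf_eq_one]) hy (hinv y hyP) (a := -1)
      (fun j hj => ha ▸ h.a_val χ hχX ⟨y ^ j, pow_mem hyP j⟩ (mem_nonOne.2 hj)) hz
    rw [hd] at hb h4
    have h0 : z = 0 := abs_nonpos_iff.1 (by push_cast at hb; omega)
    subst h0
    omega
  · subst hi
    rcases he' with rfl | rfl
    · by_cases hk1 : k = 1
      · subst hk1; omega
      exfalso
      refine no_five _ hθd.1 (hsmall hk1 θ hθne (Or.inr hθ)) hθd.2 δ hδm (by simpa using hθc) ?_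
      rw [show δ * (charDegree (θ : G → ℂ) : ℤ) - 1 = ∑ χ ∈ X.erase oneChar, a χ * (charDegree (χ : G → ℂ) : ℤ) by omega,
        show 4 = (X.erase oneChar).card by rw [Finset.card_erase_of_mem h1X, h.cardX]]
      refine sum_mem_sumsOf _ _ _ fun χ hχ => ?_
      obtain ⟨hne', hχX⟩ := Finset.mem_erase.1 hχ
      obtain ⟨h1, h2, hs⟩ := hXd χ hχ
      have hdv : charDegree (χ : G → ℂ) ∣ 720 := by
        have := deg_dvd_class hP he h hχX
        rwa [hn] at this
      have hx := x_five _ h1 (hsmall hk1 χ hne' (Or.inl hχX)) h2 hdv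
      rcases hs with ⟨h3, h4⟩ | ⟨h3, h4⟩ <;> rw [h4]
      · simpa using hx.1 h3
      · simpa using hx.2 h3
    · exfalso
      by_cases hk1 : k = 1
      · subst hk1
        exact no_full (by omega) hna P hP he (by omega)
      have hk23 : k = 2 ∨ k = 3 := by
        have hk3 : k ≤ 3 := by
          by_contra hlt
          have : 1440 * 4 ≤ m := by
            rw [← hnek]
            exact Nat.mul_le_mul_left _ (by omega)
          omega
        have hk0 : k ≠ 0 := by rintro rfl; omega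
        omega
      obtain ⟨u, f, huC, huk, hu1, hf, hfu⟩ := exists_commuting_small P hP he (by norm_num) hC hk23
      refine no_ten _ hθd.1 (hsmall hk1 θ hθne (Or.inr hθ)) hθd.2 δ hδm (by simpa using hθc) ?_
      rw [show δ * (charDegree (θ : G → ℂ) : ℤ) - 1 = ∑ χ ∈ X.erase oneChar, a χ * (charDegree (χ : G → ℂ) : ℤ) by omega,
        show 9 = (X.erase oneChar).card by rw [Finset.card_erase_of_mem h1X, h.cardX]]
      refine sum_mem_sumsOf _ _ _ fun χ hχ => ?_
      obtain ⟨hne', hχX⟩ := Finset.mem_erase.1 hχ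
      obtain ⟨h1, h2, hs⟩ := hXd χ hχ
      have hdv : charDegree (χ : G → ℂ) ∣ 1440 := by
        have := deg_dvd_class hP he h hχX
        rwa [hn] at this
      have hx := x_ten _ h1 (hsmall hk1 χ hne' (Or.inl hχX)) h2 hdv
        (not_forty_five hG hna hM P huC hk23 huk hu1 hf hfu ((h.mem_iff χ).2 (Or.inl hχX)) hne')
      rcases hs with ⟨h3, h4⟩ | ⟨h3, h4⟩ <;> rw [h4]
      · simpa using hx.1 h3
      · simpa using hx.2 h3
  · exfalso
    subst hi
    have : 1728 * 2 * k ≤ m := by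
      rw [← hnek]
      exact Nat.mul_le_mul_right _ (Nat.mul_le_mul_left _ (by omega))
    have hk0 : k ≠ 0 := by rintro rfl; omega
    have hk1 : k = 1 := by omega
    subst hk1
    simp only [List.mem_cons, List.not_mem_nil, or_false] at hel
    rcases hel with rfl | rfl | rfl <;> omega

end Cfsg.Agent.MTwelve.RecogOrders
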