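import Cfsg.Agent.Lib.Spor.MTwelve.RecogCounts
import Cfsg.Agent.Lib.Spor.MTwelve.RecogOrders
import Cfsg.Agent.Lib.Spor.MTwelve.RecogDegrees
import Cfsg.Agent.Lib.Char.PrimitiveDegree
import Cfsg.Agent.Lib.Char.DegreeSplit
import Cfsg.Agent.Lib.Char.SmallOrderGraph.List
import Cfsg.Agent.Lib.Small.MathieuEleven.Degrees
import Cfsg.Agent.Lib.Small.MathieuEleven.Iso
import Cfsg.Agent.Lib.Spor.MathieuMultEleven
import Cfsg.Agent.Lib.Spor.MathieuOutEleven

/-!
Groups of order 95040 with two prescribed pairs of primes in character degrees.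
-/

set_option autoImplicit false
set_option linter.style.haveILetI false
set_option linter.unusedSectionVars false

namespace Cfsg.Agent.MTwelve.RecogGraph

open Cfsg Cfsg.Agent.Char MulAction
open scoped ComplexConjugate Pointwise commutatorElement

universe u

local instance fact_eleven : Fact (Nat.Prime 11) := ⟨by norm_num⟩

variable {G : Type u} [Group G] [Finite G]

/-- An element of order eleven centralises the prime power subgroups it normalises. -/
theorem cent_pgroup (hG : Nat.card G ∣ 95040) {x : G} (hx : orderOf x = 11) {q : ℕ} [Fact q.Prime] (hq : q ≠ 11)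
    (M : Subgroup G) (hM : IsPGroup q M) (hxn : x ∈ Subgroup.normalizer (M : Set G)) : ∀ m ∈ M, m * x = x * m := by
  classical
  have hqp : q.Prime := Fact.out
  obtain ⟨k, hk⟩ := hM.exists_card_eq
  let X := Subgroup.zpowers (⟨x, hxn⟩ : Subgroup.normalizer (M : Set G))
  let φ : X →* MulAut M := (M.normalizerMonoidHom).comp X.subtype
  letI : MulAction X M := MulAction.compHom _ φ
  have hmod := (IsPGroup.of_card (n := 1) (by rw [Nat.card_zpowers, Subgroup.orderOf_mk, hx, pow_one]) :
    IsPGroup 11 X).card_modEq_card_fixedPoints M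
  set C : Subgroup M := (Subgroup.centralizer ({x} : Set G)).comap M.subtype with hC
  have hfix : fixedPoints X M = (C : Set M) := by
    ext c
    constructor
    · intro hc
      exact Subgroup.mem_centralizer_singleton_iff.2
        (mul_inv_eq_iff_eq_mul.1 (congrArg Subtype.val (hc ⟨_, Subgroup.mem_zpowers _⟩))).symm
    · intro hc s
      obtain ⟨i, hi⟩ := Subgroup.mem_zpowers_iff.1 s.2
      refine Subtype.ext ?_
      show ((s : Subgroup.normalizer (M : Set G)) : G) * c * ((s : Subgroup.normalizer (M : Set G)) : G)⁻¹ = c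
      have hcx : Commute (c : G) x := Subgroup.mem_centralizer_singleton_iff.1 hc
      rw [← hi]
      show x ^ i * (c : G) * (x ^ i)⁻¹ = c
      rw [← (hcx.zpow_right i).eq, mul_inv_cancel_right]
  rw [hfix, hk] at hmod
  obtain ⟨j, hjk, hj⟩ := (Nat.dvd_prime_pow hqp).1 (hk ▸ Subgroup.card_subgroup_dvd_card C)
  change q ^ k ≡ Nat.card C [MOD 11] at hmod
  rw [hj, show q ^ k = q ^ j * q ^ (k - j) by rw [← pow_add, Nat.add_sub_cancel' hjk]] at hmod
  have hco : Nat.Coprime 11 q := (Nat.coprime_primes (by norm_num) hqp).2 hq.symm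
  have h1 : q ^ (k - j) % 11 = 1 := by
    have h := Nat.ModEq.cancel_left_of_coprime (hco.pow_right j).gcd_eq_one
      (hmod.trans (by rw [mul_one]) : q ^ j * q ^ (k - j) ≡ q ^ j * 1 [MOD 11])
    exact h
  have hd : q ^ (k - j) ∣ 8640 := by
    have h7 : q ^ (k - j) ∣ 11 * 8640 :=
      (pow_dvd_pow q (Nat.sub_le k j)).trans ((hk ▸ Subgroup.card_subgroup_dvd_card M).trans hG)
    exact ((hco.symm.pow_left (k - j))).dvd_of_dvd_mul_left h7
  have h2 := prime_power_one hqp hd h1
  have hkj : k = j := by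
    rcases Nat.pow_eq_one.1 h2 with h | h
    · exact absurd h hqp.one_lt.ne'
    · omega
  have htop : C = ⊤ := Subgroup.eq_top_of_card_eq C (by rw [hj, hk, hkj])
  intro m hm
  have : (⟨m, hm⟩ : M) ∈ C := htop ▸ Subgroup.mem_top _
  exact Subgroup.mem_centralizer_singleton_iff.1 this

/-- An element of order eleven centralises the subgroups of order prime to eleven that it normalises. -/
theorem cent_normalised (hG : Nat.card G ∣ 95040) {x : G} (hx : orderOf x = 11) (N : Subgroup G)
    (hxN : x ∈ Subgroup.normalizer (N : Set G)) (h11 : ¬ 11 ∣ Nat.card N) : ∀ n ∈ N, n * x = x * n := by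
  classical
  set C : Subgroup N := (Subgroup.centralizer ({x} : Set G)).comap N.subtype with hC
  suffices h : C = ⊤ by
    intro n hn
    have : (⟨n, hn⟩ : N) ∈ C := h ▸ Subgroup.mem_top _
    exact Subgroup.mem_centralizer_singleton_iff.1 this
  rw [← Subgroup.index_eq_one]
  by_contra hne
  obtain ⟨q, hq, hqC⟩ := Nat.exists_prime_and_dvd hne
  haveI := Fact.mk hq
  have hqN : q ∣ Nat.card N := hqC.trans C.index_dvd_card
  let X := Subgroup.zpowers (⟨x, hxN⟩ : Subgroup.normalizer (N : Set G))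
  let φ : X →* MulAut N := (N.normalizerMonoidHom).comp X.subtype
  letI : MulDistribMulAction X N := MulDistribMulAction.compHom _ φ
  have hnq : ¬ 11 ∣ Nat.card (Sylow q N) := fun h => by
    obtain ⟨Q⟩ : Nonempty (Sylow q N) := inferInstance
    exact h11 (h.trans (Q.card_dvd_index.trans (Q : Subgroup N).index_dvd_card))
  obtain ⟨Q, hQ⟩ := (IsPGroup.of_card (n := 1) (by rw [Nat.card_zpowers, Subgroup.orderOf_mk, hx, pow_one]) :
    IsPGroup 11 X).nonempty_fixed_point_of_prime_not_dvd_card (Sylow q N) hnq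
  set M := (Q : Subgroup N).map N.subtype with hM
  have hxM : x ∈ Subgroup.normalizer (M : Set G) := by
    refine Subgroup.mem_normalizer_fintype fun n hn => ?_
    obtain ⟨y, hy, rfl⟩ := hn
    refine ⟨(⟨_, Subgroup.mem_zpowers _⟩ : X) • y, ?_, rfl⟩
    have h := Subgroup.smul_mem_pointwise_smul y (⟨_, Subgroup.mem_zpowers _⟩ : X) _ hy
    exact (congrArg (fun R : Sylow q N => (R : Subgroup N)) (hQ ⟨_, Subgroup.mem_zpowers _⟩)).le h
  have hqne : q ≠ 11 := fun e => h11 (e ▸ hqN)
  have hcent := cent_pgroup hG hx hqne M (Q.isPGroup'.map _) hxM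
  exact Q.not_dvd_index (hqC.trans (Subgroup.index_dvd_of_le fun y hy =>
    Subgroup.mem_centralizer_singleton_iff.2 (hcent y ⟨y, hy, rfl⟩)))

variable {L : Type u} [Group L] [Finite L]

/-- The normal subgroups of a group generated by elements of order eleven. -/
theorem normal_cases (hG : Nat.card L ∣ 95040) (hgen : Subgroup.closure {x : L | orderOf x = 11} = ⊤)
    (M : Subgroup L) [hM : M.Normal] : M ≤ Subgroup.center L ∨ M = ⊤ := by
  classical
  by_cases h11 : 11 ∣ Nat.card M
  · right
    obtain ⟨y, hy⟩ := exists_prime_orderOf_dvd_card' (G := M) 11 h11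
    rw [eq_top_iff, ← hgen, Subgroup.closure_le]
    intro x hx
    have hsyl : ∀ z : L, orderOf z = 11 → ∃ P : Sylow 11 L, Subgroup.zpowers z = (P : Subgroup L) := by
      intro z hz
      obtain ⟨P, hP⟩ := (IsPGroup.of_card (n := 1) (by rw [Nat.card_zpowers, hz, pow_one]) :
        IsPGroup 11 (Subgroup.zpowers z)).exists_le_sylow
      refine ⟨P, Subgroup.eq_of_le_of_card_ge hP ?_⟩
      obtain ⟨k, hk⟩ := P.isPGroup'.exists_card_eq
      rw [Nat.card_zpowers, hz, hk]
      rcases Nat.lt_or_ge 1 k with h | h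
      · exfalso
        have h2 : 11 ^ 2 ∣ 95040 :=
          (pow_dvd_pow 11 h).trans ((hk ▸ Subgroup.card_subgroup_dvd_card (P : Subgroup L)).trans hG)
        norm_num at h2
      · exact (Nat.pow_le_pow_right (by norm_num) h).trans_eq (pow_one 11)
    obtain ⟨P₀, hP₀⟩ := hsyl (y : L) (by rw [Subgroup.orderOf_coe, hy])
    obtain ⟨P, hP⟩ := hsyl x hx
    obtain ⟨g, rfl⟩ := MulAction.exists_smul_eq L P₀ P
    have hxP : x ∈ ((g • P₀ : Sylow 11 L) : Subgroup L) := hP ▸ Subgroup.mem_zpowers x
    have h' := (MathieuEleven.mem_smul_sylow P₀).1 hxP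
    rw [← hP₀] at h'
    have h'' := hM.conj_mem _ ((Subgroup.zpowers_le).2 y.2 h') g
    rwa [show g * (g⁻¹ * x * g) * g⁻¹ = x by group] at h''
  · left
    intro m hm
    rw [Subgroup.mem_center_iff]
    intro l
    have hle : (⊤ : Subgroup L) ≤ Subgroup.centralizer ({m} : Set L) := by
      rw [← hgen, Subgroup.closure_le]
      intro x hx
      refine Subgroup.mem_centralizer_singleton_iff.2 (cent_normalised hG hx M ?_ h11 m hm).symm
      rw [Subgroup.normalizer_eq_top]
      exact Subgroup.mem_top x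
    exact Subgroup.mem_centralizer_singleton_iff.1 (hle (Subgroup.mem_top l))

/-- A central product with a central factor does not change the degrees. -/
theorem deg_eq_of_central [Fintype L] (A B : Subgroup L) [Fintype A] (hB : B ≤ Subgroup.center L)
    (hbij : Function.Bijective fun p : A × B => (p.1 : L) * p.2) (η : IrrCharacter L) :
    ∃ θ : IrrCharacter A, deg (η : L → ℂ) = deg (θ : A → ℂ) := by
  classical
  haveI := Fintype.ofFinite B
  have hc : IsCharacter A (fun a : A => (η : L → ℂ) a) := isCharacter_comp A.subtype (irr_isCharacter η.2)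
  have h1 : ∑ g : L, ‖(η : L → ℂ) g‖ ^ 2 = (Nat.card L : ℝ) := by
    have h := irr_self η.2
    rw [classInner_self_re, ← Complex.ofReal_one, Complex.ofReal_inj,
      inv_mul_eq_one₀ (Nat.cast_ne_zero.2 Nat.card_pos.ne')] at h
    exact h.symm
  rw [← Fintype.sum_bijective _ hbij (fun p : A × B => ‖(η : L → ℂ) p.1‖ ^ 2) (fun g => ‖(η : L → ℂ) g‖ ^ 2)
    (fun p => by
      show _ = ‖(η : L → ℂ) ((p.1 : L) * p.2)‖ ^ 2
      rw [Subgroup.mem_center_iff.1 (hB p.2.2) p.1, character_central_mul η.2 (hB p.2.2)]),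
    Fintype.sum_prod_type] at h1
  simp only [Finset.sum_const, nsmul_eq_mul, ← Finset.mul_sum] at h1
  have hnorm : classInner (fun a : A => (η : L → ℂ) a) (fun a : A => (η : L → ℂ) a) = 1 := by
    rw [classInner_self_re, Complex.ofReal_eq_one]
    have hcard : Nat.card L = Nat.card A * Nat.card B := by
      rw [← Nat.card_prod, ← Nat.card_congr (Equiv.ofBijective _ hbij)]
    rw [hcard, Finset.card_univ, ← Nat.card_eq_fintype_card, Nat.cast_mul, mul_comm (Nat.card A : ℝ)] at h1
    rw [mul_left_cancel₀ (Nat.cast_ne_zero.2 Nat.card_pos.ne') h1,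
      inv_mul_cancel₀ (Nat.cast_ne_zero.2 Nat.card_pos.ne')]
  exact ⟨⟨_, isIrr_of_norm_one hc hnorm⟩, Nat.cast_injective (R := ℂ) (by
    rw [← char_one_eq_deg (irr_isCharacter η.2), ← char_one_eq_deg hc]
    rfl)⟩

theorem degree_list [Fintype L] (hL : Cfsg.IsM11 L) (θ : IrrCharacter L) :
    deg (θ : L → ℂ) ∈ ([1, 10, 11, 16, 44, 45, 55] : List ℕ) := by
  classical
  have h := (MathieuEleven.degrees hL).2 (deg (θ : L → ℂ))
  have hpos : 0 < Nat.card {χ : IrrCharacter L // deg (χ : L → ℂ) = deg (θ : L → ℂ)} := by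
    haveI : Nonempty {χ : IrrCharacter L // deg (χ : L → ℂ) = deg (θ : L → ℂ)} := ⟨⟨θ, rfl⟩⟩
    exact Nat.card_pos
  rw [h] at hpos
  split_ifs at hpos with a b c
  · rcases a with e | e | e | e | e <;> simp [e]
  · simp [b]
  · simp [c]
  · omega

omit [Finite L] in
theorem alt_four [Finite L] (hC : Nat.card L = 12) (hn : ∀ P : Sylow 3 L, ¬ (P : Subgroup L).Normal) :
    Nonempty (L ≃* alternatingGroup (Fin 4)) := by
  classical
  haveI : Fact (Nat.Prime 3) := ⟨Nat.prime_three⟩
  have hP : ∀ P : Sylow 3 L, Nat.card (P : Subgroup L) = 3 := fun P => by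
    rw [P.card_eq_multiplicity, hC, show (12 : ℕ) = 3 ^ 1 * 4 by norm_num,
      Nat.factorization_mul (by norm_num) (by norm_num), Finsupp.add_apply,
      Nat.prime_three.factorization_pow, Finsupp.single_eq_same,
      Nat.factorization_eq_zero_of_not_dvd (by norm_num)]
    norm_num
  obtain ⟨P⟩ : Nonempty (Sylow 3 L) := inferInstance
  have h4 : Nat.card (Sylow 3 L) = 4 := by
    have hd := P.card_dvd_index
    have h' := (P : Subgroup L).index_mul_card
    rw [hP P, hC] at h'
    rw [show (P : Subgroup L).index = 4 by omega] at hd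
    have hm : Nat.card (Sylow 3 L) % 3 = 1 := card_sylow_modEq_one 3 L
    have hle := Nat.le_of_dvd (by norm_num) hd
    by_contra hne
    have h1 : Nat.card (Sylow 3 L) = 1 := by omega
    haveI := (Nat.card_eq_one_iff_unique.1 h1).1
    exact hn P P.normal_of_subsingleton
  have hN : ∀ R : Sylow 3 L, Subgroup.normalizer ((R : Subgroup L) : Set L) = (R : Subgroup L) := fun R => by
    have h := MathieuEleven.sylow_mul_normalizer R
    rw [h4, hC] at h
    exact (Subgroup.eq_of_le_of_card_ge Subgroup.le_normalizer (by rw [hP R]; omega)).symm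
  let e : Sylow 3 L ≃ Fin 4 := Finite.equivFinOfCardEq h4
  let f : L →* Equiv.Perm (Fin 4) := e.permCongrHom.toMonoidHom.comp (MulAction.toPermHom L (Sylow 3 L))
  have hf : Function.Injective f := by
    refine e.permCongrHom.injective.comp ((injective_iff_map_eq_one _).2 fun g hg => ?_)
    have hmem : ∀ R : Sylow 3 L, g ∈ (R : Subgroup L) := fun R => by
      rw [← hN R]
      exact Sylow.smul_eq_iff_mem_normalizer.1 (congrArg (fun σ : Equiv.Perm (Sylow 3 L) => σ R) hg)
    obtain ⟨R, hR⟩ : ∃ R : Sylow 3 L, R ≠ P := by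
      by_contra hcon
      push Not at hcon
      haveI : Subsingleton (Sylow 3 L) := ⟨fun a b => (hcon a).trans (hcon b).symm⟩
      have := Finite.card_le_one_iff_subsingleton.2 (inferInstance : Subsingleton (Sylow 3 L))
      omega
    by_contra hg1
    have key : ∀ S : Sylow 3 L, Subgroup.zpowers g = (S : Subgroup L) := fun S =>
      Subgroup.eq_of_le_of_card_ge (Subgroup.zpowers_le.2 (hmem S)) (by
        rw [Nat.card_zpowers, hP S, MathieuEleven.prime_order hP S g (hmem S) hg1])
    exact hR (Sylow.ext ((key R).symm.trans (key P)))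
  have hidx : f.range.index = 2 := by
    have h := f.range.index_mul_card
    rw [← Nat.card_congr (MonoidHom.ofInjective hf).toEquiv, hC, Nat.card_perm, Nat.card_fin] at h
    norm_num [Nat.factorial] at h
    omega
  exact ⟨(MonoidHom.ofInjective hf).trans
    (MulEquiv.subgroupCongr (Equiv.Perm.eq_alternatingGroup_of_index_eq_two hidx))⟩

/-- A group of order 95040 with degrees divisible by 55 and by 33. -/
theorem graph_cases (hG : Nat.card G = 95040) (h55 : ∃ d ∈ charDegrees G, 55 ∣ d)
    (h33 : ∃ d ∈ charDegrees G, 33 ∣ d) :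
    Cfsg.IsM12 G ∨ Nonempty (G ≃* alternatingGroup (Fin 4) × ↥Cfsg.Spor.M11) := by
  classical
  haveI := Fintype.ofFinite G
  obtain ⟨_, ⟨χ, rfl⟩, h55⟩ := h55
  obtain ⟨_, ⟨ψ, rfl⟩, h33⟩ := h33
  rw [charDegree_eq_deg] at h55 h33
  have hP := sylow_eleven_of_card hG
  have hnn : ∀ P : Sylow 11 G, ¬ (P : Subgroup G).Normal := fun P hn => by
    haveI := hn
    have h := deg_dvd_index_abelian_normal χ.2 (P : Subgroup G) fun a b =>
      Subtype.ext (MathieuEleven.comm_of_prime (hP P) a a.2 b b.2)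
    have hi := (P : Subgroup G).index_mul_card
    rw [hP P, hG] at hi
    rw [show (P : Subgroup G).index = 8640 by omega] at h
    exact absurd (((dvd_mul_left 11 5).trans h55).trans h) (by norm_num)
  -- two commuting elements of order eleven lie in one Sylow subgroup
  have hsame : ∀ z : G, orderOf z = 11 → ∃ P : Sylow 11 G, Subgroup.zpowers z = (P : Subgroup G) ∧
      ∀ x : G, orderOf x = 11 → x * z = z * x → x ∈ (P : Subgroup G) := by
    intro z hz
    obtain ⟨P, hPz⟩ := (IsPGroup.of_card (n := 1) (by rw [Nat.card_zpowers, hz, pow_one]) :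
      IsPGroup 11 (Subgroup.zpowers z)).exists_le_sylow
    have e : Subgroup.zpowers z = (P : Subgroup G) :=
      Subgroup.eq_of_le_of_card_ge hPz (by rw [Nat.card_zpowers, hz, hP P])
    refine ⟨P, e, fun x hx hxz => MathieuEleven.mem_of_normalises ⟨1, by rw [pow_one, ← hx, pow_orderOf_eq_one]⟩ P ?_⟩
    refine Subgroup.centralizer_le_normalizer _ ?_
    rw [MathieuEleven.centralizer_gen e]
    exact Subgroup.mem_centralizer_singleton_iff.2 hxz
  set L := Subgroup.closure {x : G | orderOf x = 11} with hLdef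
  haveI hLn : L.Normal := ⟨fun n hn g => by
    have hle : L ≤ L.comap (MulAut.conj g).toMonoidHom := (Subgroup.closure_le _).2 fun x hx =>
      Subgroup.subset_closure (((MulAut.conj g).orderOf_eq x).trans hx)
    exact hle hn⟩
  have hgen : Subgroup.closure {x : L | orderOf x = 11} = ⊤ := by
    rw [show {x : L | orderOf x = 11} = Subtype.val ⁻¹' {x : G | orderOf x = 11} by
      ext x; simp [Subgroup.orderOf_coe]]
    exact Subgroup.closure_closure_coe_preimage
  have hLd : Nat.card L ∣ 95040 := hG ▸ Subgroup.card_subgroup_dvd_card L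
  have hLna : ∃ a b : L, a * b ≠ b * a := by
    by_contra hcon
    push Not at hcon
    obtain ⟨P⟩ : Nonempty (Sylow 11 G) := inferInstance
    refine hnn P ⟨fun a ha g => ?_⟩
    by_cases ha1 : a = 1
    · simp [ha1]
    have ho : orderOf a = 11 := MathieuEleven.prime_order hP P a ha ha1
    have hog : orderOf (g * a * g⁻¹) = 11 := ((MulAut.conj g).orderOf_eq a).trans ho
    obtain ⟨P', hP', hmem⟩ := hsame a ho
    obtain rfl : P' = P := Sylow.ext (hP'.symm.trans
      (Subgroup.eq_of_le_of_card_ge (Subgroup.zpowers_le.2 ha) (by rw [Nat.card_zpowers, ho, hP P])))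
    exact hmem _ hog (congrArg Subtype.val
      (hcon ⟨_, Subgroup.subset_closure hog⟩ ⟨a, Subgroup.subset_closure ho⟩))
  obtain ⟨u, v, huv⟩ := hLna
  set Z := Subgroup.center L with hZdef
  have hZ11 : ¬ 11 ∣ Nat.card Z := fun h => by
    obtain ⟨z, hz⟩ := exists_prime_orderOf_dvd_card' (G := Z) 11 h
    obtain ⟨P, -, hmem⟩ := hsame ((z : L) : G) (by rw [Subgroup.orderOf_coe, Subgroup.orderOf_coe, hz])
    have hle : L ≤ (P : Subgroup G) := (Subgroup.closure_le _).2 fun x hx =>
      hmem x hx (congrArg Subtype.val (Subgroup.mem_center_iff.1 z.2 ⟨x, Subgroup.subset_closure hx⟩))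
    exact huv (Subtype.ext (MathieuEleven.comm_of_prime (hP P) u (hle u.2) v (hle v.2)))
  have hcases := fun (M : Subgroup L) (hM : M.Normal) => normal_cases hLd hgen M (hM := hM)
  haveI hTn : Nontrivial (L ⧸ Z) := by
    rw [← Finite.one_lt_card_iff_nontrivial]
    by_contra hle
    have h1 : Z.index = 1 := le_antisymm (not_lt.1 hle) (Nat.one_le_iff_ne_zero.2 Subgroup.index_ne_zero_of_finite)
    have h2 : v ∈ Z := Subgroup.index_eq_one.1 h1 ▸ Subgroup.mem_top v
    exact huv (Subgroup.mem_center_iff.1 h2 u)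
  haveI hT : IsSimpleGroup (L ⧸ Z) := ⟨fun N hN => by
    rcases hcases (N.comap (QuotientGroup.mk' Z)) (hN.comap _) with h | h
    · left
      rw [← Subgroup.map_comap_eq_self_of_surjective (QuotientGroup.mk'_surjective Z) N, Subgroup.map_eq_bot_iff,
        QuotientGroup.ker_mk']
      exact h
    · right
      rw [← Subgroup.map_comap_eq_self_of_surjective (QuotientGroup.mk'_surjective Z) N, h,
        Subgroup.map_top_of_surjective _ (QuotientGroup.mk'_surjective Z)]⟩
  have hLcard : Nat.card L = Nat.card (L ⧸ Z) * Nat.card Z := Subgroup.card_eq_card_quotient_mul_card_subgroup Z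
  have h11T : 11 ∣ Nat.card (L ⧸ Z) := by
    have h1 : 11 ∣ Nat.card L := by
      obtain ⟨P⟩ : Nonempty (Sylow 11 G) := inferInstance
      obtain ⟨z, hz⟩ := exists_prime_orderOf_dvd_card' (G := (P : Subgroup G)) 11 (dvd_of_eq (hP P).symm)
      have h := Subgroup.orderOf_dvd_natCard L (Subgroup.subset_closure (show (z : G) ∈ {x : G | orderOf x = 11} by
        simp [Subgroup.orderOf_coe, hz]))
      rwa [Subgroup.orderOf_coe, hz] at h
    exact ((Nat.Prime.dvd_mul (by norm_num)).1 (hLcard ▸ h1)).resolve_right hZ11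
  have hna : ¬ IsMulCommutative (L ⧸ Z) := fun h => by
    letI : CommGroup (L ⧸ Z) := { (inferInstance : Group (L ⧸ Z)) with mul_comm := fun a b => h.is_comm.comm a b }
    haveI : Fact (Nat.card (L ⧸ Z)).Prime := ⟨IsSimpleGroup.prime_card (α := L ⧸ Z)⟩
    haveI : IsCyclic (L ⧸ Z) := isCyclic_of_prime_card rfl
    have h2 := (QuotientGroup.mk' Z).isMulCommutative_of_isCyclic_of_ker_le_center (QuotientGroup.ker_mk' Z).le
    exact huv (h2.is_comm.comm u v)
  have hperf : commutator L = ⊤ := by
    refine (hcases _ inferInstance).resolve_left fun h => hna ⟨⟨fun a b => ?_⟩⟩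
    obtain ⟨a, rfl⟩ := QuotientGroup.mk'_surjective Z a
    obtain ⟨b, rfl⟩ := QuotientGroup.mk'_surjective Z b
    rw [← commutatorElement_eq_one_iff_mul_comm, ← map_commutatorElement]
    exact (QuotientGroup.eq_one_iff _).2
      (h (Subgroup.commutator_mem_commutator (Subgroup.mem_top a) (Subgroup.mem_top b)))
  haveI := Fintype.ofFinite L
  haveI := Fintype.ofFinite (L ⧸ Z)
  have hTd : Nat.card (L ⧸ Z) ∣ 95040 := (Dvd.intro _ hLcard.symm).trans hLd
  rcases lt_or_ge (Nat.card (L ⧸ Z)) 6000 with hlt | hge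
  · exfalso
    have h660 : Nat.card (L ⧸ Z) = 660 := by
      have h := SmallOrderGraph.card_mem_orders hna hlt
      simp only [SmallOrderGraph.orders, List.mem_cons, List.not_mem_nil, or_false] at h
      omega
    obtain ⟨θ, hθ⟩ := FROrbit.exists_constituent_below L χ
    have hd := DegreeSplit.deg_dvd_index_mul L χ θ hθ
    have hsq := Prim.sq_deg_mul_card_le θ Z le_rfl
    rw [hLcard, h660] at hsq
    have hθ2 := Nat.le_of_mul_le_mul_right hsq Nat.card_pos
    have hi := L.index_mul_card
    rw [hLcard, h660, hG] at hi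
    have hi2 : L.index ∣ 144 := Dvd.intro (Nat.card Z) (by nlinarith)
    have hco : Nat.Coprime 55 L.index := Nat.Coprime.coprime_dvd_right hi2 (by norm_num)
    have h55' : 55 ∣ deg (θ : L → ℂ) := hco.dvd_of_dvd_mul_left (h55.trans hd)
    have := Nat.le_of_dvd (deg_pos θ.2) h55'
    nlinarith
  rcases RecogOrders.card_cases hTd h11T hge with h7920 | hbig
  swap
  · left
    have hLc := Subgroup.card_le_card_group L
    have hZ1 : Nat.card Z = 1 := by
      have : 0 < Nat.card Z := Nat.card_pos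
      rw [hLcard, hbig, hG] at hLc
      omega
    have hLtop : L = ⊤ := Subgroup.eq_top_of_card_eq L (by rw [hLcard, hbig, hZ1, hG])
    let e : (L ⧸ Z) ≃* G := (QuotientGroup.quotientMulEquivOfEq (Subgroup.card_eq_one.1 hZ1)).trans
      (QuotientGroup.quotientBot.trans ((MulEquiv.subgroupCongr hLtop).trans Subgroup.topEquiv))
    exact ⟨MulEquiv.isSimpleGroup e.symm, hG⟩
  right
  have hM : Cfsg.IsM11 (L ⧸ Z) := ⟨hT, h7920⟩
  obtain ⟨f⟩ := MathieuEleven.iso_of_isM11 hM MathieuEleven.isM11_concrete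
  haveI : Finite (Shrink.{0} L) := Finite.of_equiv L (equivShrink.{0} L)
  let s : Shrink.{0} L ≃* L := Shrink.mulEquiv
  let σ : Shrink.{0} L →* ↥Cfsg.Spor.M11 := f.toMonoidHom.comp ((QuotientGroup.mk' Z).comp s.toMonoidHom)
  have hker : ∀ a, σ a = 1 ↔ s a ∈ Z := fun a => by
    show f (QuotientGroup.mk' Z (s a)) = 1 ↔ _
    rw [EmbeddingLike.map_eq_one_iff]
    exact QuotientGroup.eq_one_iff _
  have hstem : Cfsg.IsStemExtension σ := by
    refine ⟨f.surjective.comp ((QuotientGroup.mk'_surjective Z).comp s.surjective), fun a ha => ?_, ?_⟩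
    · rw [Subgroup.mem_center_iff]
      intro b
      refine s.injective ?_
      rw [map_mul, map_mul]
      exact Subgroup.mem_center_iff.1 ((hker a).1 ha) (s b)
    · intro a _
      have h : (commutator (Shrink.{0} L)).map s.toMonoidHom = commutator L := by
        rw [commutator_def, Subgroup.map_commutator, Subgroup.map_top_of_surjective _ s.surjective, commutator_def]
      obtain ⟨b, hb, hba⟩ : s a ∈ (commutator (Shrink.{0} L)).map s.toMonoidHom := by
        rw [h, hperf]; exact Subgroup.mem_top _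
      exact s.injective hba ▸ hb
  obtain ⟨π, hπ⟩ := Cfsg.Agent.Spor.MathieuMult.eleven_trivial.2 (Shrink.{0} L) σ hstem
  have hZbot : Z = ⊥ := by
    rw [eq_bot_iff]
    intro z hz
    haveI : Subsingleton σ.ker := hπ.subsingleton
    have h := Subsingleton.elim (⟨s.symm z, (hker _).2 (by rw [s.apply_symm_apply]; exact hz)⟩ : σ.ker) 1
    have h2 : s.symm z = 1 := congrArg Subtype.val h
    rw [Subgroup.mem_bot]
    exact s.symm.injective (h2.trans (map_one s.symm).symm)
  let e : L ≃* ↥Cfsg.Spor.M11 :=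
    QuotientGroup.quotientBot.symm.trans ((QuotientGroup.quotientMulEquivOfEq hZbot.symm).trans f)
  have hL7920 : Nat.card L = 7920 := by rw [hLcard, h7920, hZbot, Subgroup.card_bot]
  set C := Subgroup.centralizer (L : Set G) with hC
  have hcomm : ∀ (a : L) (c : C), Commute (L.subtype a) (C.subtype c) := fun a c =>
    Subgroup.mem_centralizer_iff.1 c.2 a a.2
  let Ψ : L × C →* G := MonoidHom.noncommCoprod L.subtype C.subtype hcomm
  have hΨ : Function.Bijective Ψ := by
    refine ⟨(injective_iff_map_eq_one _).2 ?_, fun g => ?_⟩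
    · rintro ⟨a, c⟩ (hac : (a : G) * c = 1)
      have hca : (c : G) ∈ L := by
        rw [eq_inv_of_mul_eq_one_right hac]
        exact inv_mem a.2
      have haz : a ∈ Z := by
        rw [hZdef, Subgroup.mem_center_iff]
        intro b
        refine Subtype.ext ?_
        have h1 : (b : G) * ((c : G)⁻¹) = ((c : G)⁻¹) * b := Subgroup.mem_centralizer_iff.1 (inv_mem c.2) b b.2
        show (b : G) * a = a * b
        rwa [eq_inv_of_mul_eq_one_left hac]
      rw [hZbot, Subgroup.mem_bot] at haz
      subst haz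
      have : c = 1 := Subtype.ext (by simpa using hac)
      rw [this]; rfl
    · obtain ⟨m, hm⟩ := Cfsg.Agent.Spor.MathieuOutEleven.aut_M11_inner
        (e.symm.trans ((MulAut.conjNormal g : MulAut L).trans e))
      have hl : (e.symm m : G)⁻¹ * g ∈ C := by
        refine Subgroup.mem_centralizer_iff.2 fun a ha => ?_
        have h := DFunLike.congr_fun hm (e ⟨a, ha⟩)
        simp only [MulAut.conj_apply, MulEquiv.trans_apply, MulEquiv.symm_apply_apply] at h
        have h2 := congrArg (fun b => ((e.symm b : L) : G)) h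
        simp only [map_mul, map_inv, MulEquiv.symm_apply_apply, Subgroup.coe_mul, Subgroup.coe_inv,
          MulAut.conjNormal_apply] at h2
        calc a * ((e.symm m : G)⁻¹ * g)
            = (e.symm m : G)⁻¹ * ((e.symm m : G) * a * (e.symm m : G)⁻¹) * g := by group
          _ = (e.symm m : G)⁻¹ * g * a := by rw [h2]; group
      refine ⟨(e.symm m, ⟨_, hl⟩), ?_⟩
      show (e.symm m : G) * ((e.symm m : G)⁻¹ * g) = g
      group
  have hC12 : Nat.card C = 12 := by
    have h := Nat.card_congr (Equiv.ofBijective _ hΨ)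
    rw [Nat.card_prod, hL7920, hG] at h
    omega
  by_cases hn : ∀ P : Sylow 3 C, ¬ (P : Subgroup C).Normal
  · obtain ⟨a4⟩ := alt_four hC12 hn
    exact ⟨(MulEquiv.ofBijective Ψ hΨ).symm.trans ((e.prodCongr a4).trans MulEquiv.prodComm)⟩
  exfalso
  push Not at hn
  obtain ⟨P, hPn⟩ := hn
  haveI : Fact (Nat.Prime 3) := ⟨Nat.prime_three⟩
  set Q := (P : Subgroup C).map C.subtype with hQ
  have hQC : Q ≤ C := Subgroup.map_subtype_le _
  have hQ3 : Nat.card Q = 3 := by
    rw [hQ, Subgroup.card_map_of_injective Subtype.val_injective, P.card_eq_multiplicity, hC12,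
      show (12 : ℕ) = 3 ^ 1 * 4 by norm_num, Nat.factorization_mul (by norm_num) (by norm_num), Finsupp.add_apply,
      Nat.prime_three.factorization_pow, Finsupp.single_eq_same,
      Nat.factorization_eq_zero_of_not_dvd (by norm_num)]
    norm_num
  haveI hQn : Q.Normal := ⟨fun q hq g => by
    obtain ⟨q', hq', rfl⟩ := hq
    obtain ⟨⟨a, c⟩, rfl⟩ := hΨ.2 g
    have h1 : c * q' * c⁻¹ ∈ (P : Subgroup C) := hPn.conj_mem q' hq' c
    have h2 := (hcomm a (c * q' * c⁻¹)).eq
    refine ⟨_, h1, ?_⟩
    show ((c * q' * c⁻¹ : C) : G) = (a : G) * c * q' * ((a : G) * c)⁻¹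
    calc ((c * q' * c⁻¹ : C) : G) = (a : G) * ((c * q' * c⁻¹ : C) : G) * (a : G)⁻¹ := by
          rw [show (a : G) * ((c * q' * c⁻¹ : C) : G) = ((c * q' * c⁻¹ : C) : G) * a from h2, mul_inv_cancel_right]
      _ = _ := by simp only [Subgroup.coe_mul, Subgroup.coe_inv]; group⟩
  set N := L ⊔ Q with hN
  haveI := Fintype.ofFinite N
  haveI := Fintype.ofFinite (L.subgroupOf N)
  have hB : Q.subgroupOf N ≤ Subgroup.center N := by
    intro q hq
    rw [Subgroup.mem_center_iff]
    intro n
    refine Subtype.ext (Subgroup.mem_centralizer_singleton_iff.1 ((sup_le ?_ ?_ : N ≤ _) n.2))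
    · exact fun a ha => Subgroup.mem_centralizer_singleton_iff.2 (hcomm ⟨a, ha⟩ ⟨_, hQC hq⟩).eq
    · exact fun b hb => Subgroup.mem_centralizer_singleton_iff.2 (MathieuEleven.comm_of_prime hQ3 b hb _ hq)
  have hbij : Function.Bijective fun p : (L.subgroupOf N) × (Q.subgroupOf N) => (p.1 : N) * p.2 := by
    constructor
    · intro p p' hpp
      have h := @hΨ.1 (⟨_, p.1.2⟩, ⟨_, hQC p.2.2⟩) (⟨_, p'.1.2⟩, ⟨_, hQC p'.2.2⟩) (congrArg Subtype.val hpp)
      simp only [Prod.mk.injEq, Subtype.mk.injEq] at h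
      exact Prod.ext (Subtype.ext (Subtype.val_injective (show ((p.1 : N) : G) = ((p'.1 : N) : G) from congrArg (fun a : L => (a : G)) h.1))) (Subtype.ext (Subtype.val_injective h.2))
    · intro n
      obtain ⟨a, ha, b, hb, hab⟩ : (n : G) ∈ (L : Set G) * (Q : Set G) := by
        rw [← Subgroup.normal_mul]; exact n.2
      exact ⟨(⟨⟨a, le_sup_left (b := Q) ha⟩, ha⟩, ⟨⟨b, le_sup_right (a := L) hb⟩, hb⟩), Subtype.ext hab⟩
  let eA : L.subgroupOf N ≃* L := Subgroup.subgroupOfEquivOfLe le_sup_left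
  have hA : Cfsg.IsM11 (L.subgroupOf N) := by
    haveI := MathieuEleven.isM11_concrete.1
    exact ⟨MulEquiv.isSimpleGroup (eA.trans e), (Nat.card_congr eA.toEquiv).trans hL7920⟩
  obtain ⟨η, hη⟩ := FROrbit.exists_constituent_below N ψ
  obtain ⟨θ, hθ⟩ := deg_eq_of_central (L.subgroupOf N) (Q.subgroupOf N) hB hbij η
  have hd := h33.trans (DegreeSplit.deg_dvd_index_mul N ψ η hη)
  have hi : N.index = 4 := by
    have h := N.index_mul_card
    rw [← Nat.card_congr (Equiv.ofBijective _ hbij), Nat.card_prod, hA.2,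
      Nat.card_congr (Subgroup.subgroupOfEquivOfLe (le_sup_right : Q ≤ N)).toEquiv, hQ3, hG] at h
    omega
  rw [hi, hθ] at hd
  have hl := degree_list hA θ
  simp only [List.mem_cons, List.not_mem_nil, or_false] at hl
  omega

/-- The same, from the character degree graph. -/
theorem cases_of_graph (hcard : Nat.card G = Nat.card ↥Cfsg.Spor.M12)
    (hΔ : Cfsg.degreeGraph G = Cfsg.degreeGraph ↥Cfsg.Spor.M12) :
    Cfsg.IsM12 G ∨ Nonempty (G ≃* alternatingGroup (Fin 4) × ↥Cfsg.Spor.M11) := by
  obtain ⟨⟨d, hd, hd55⟩, ⟨d', hd', hd33⟩⟩ := concrete_degrees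
  rw [isM12_concrete.2] at hcard
  obtain ⟨-, -, -, a, ha, ha55⟩ : (Cfsg.degreeGraph G).Adj 5 11 := by
    rw [hΔ]; exact ⟨by norm_num, by norm_num, by norm_num, d, hd, hd55⟩
  obtain ⟨-, -, -, b, hb, hb33⟩ : (Cfsg.degreeGraph G).Adj 3 11 := by
    rw [hΔ]; exact ⟨by norm_num, by norm_num, by norm_num, d', hd', hd33⟩
  exact graph_cases hcard ⟨a, ha, ha55⟩ ⟨b, hb, hb33⟩

end Cfsg.Agent.MTwelve.RecogGraph
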