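import Cfsg.Agent.Lib.Spor.MTwelve.ThreeGroup

/-!
The class function is a generalized character on a Sylow three-subgroup.
-/

set_option autoImplicit false
set_option linter.style.haveILetI false
set_option linter.unusedSectionVars false

namespace Cfsg.Agent.MTwelve

universe u

theorem three_elems {Q : Type*} [Group Q] {a v : Q} (ha : a ^ 3 = 1) (hv : v ∈ Subgroup.zpowers a) :
    v = 1 ∨ v = a ∨ v = a⁻¹ := by
  obtain ⟨k, rfl⟩ := Subgroup.mem_zpowers_iff.1 hv
  have h : a ^ k = a ^ (k % 3) := by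
    conv_lhs => rw [← Int.emod_add_mul_ediv k 3]
    rw [zpow_add, zpow_mul, show a ^ (3 : ℤ) = 1 by exact_mod_cast ha, one_zpow, mul_one]
  rw [h]
  have h0 := Int.emod_nonneg k (show (3 : ℤ) ≠ 0 by norm_num)
  have h3 := Int.emod_lt_of_pos k (show (0 : ℤ) < 3 by norm_num)
  rcases (by omega : k % 3 = 0 ∨ k % 3 = 1 ∨ k % 3 = 2) with e | e | e <;> rw [e]
  · left; simp
  · right; left; simp
  · right; right
    exact eq_inv_of_mul_eq_one_left (by rw [show (2 : ℤ) = ((2 : ℕ) : ℤ) from rfl, zpow_natCast, ← pow_succ]; exact ha)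

/-- induced trivial character -/
theorem indFun_one_apply {S : Type u} [Group S] [Fintype S] (H : Subgroup S) (g : S) :
    Cfsg.indFun H (fun _ => (1 : ℂ)) g =
      (Nat.card H : ℂ)⁻¹ * (Nat.card {v : S // v⁻¹ * g * v ∈ H} : ℂ) := by
  classical
  unfold Cfsg.indFun
  congr 1
  rw [Finset.sum_congr rfl (g := fun v => if v⁻¹ * g * v ∈ H then (1 : ℂ) else 0) fun v _ => ?_,
    Finset.sum_boole, Nat.card_eq_fintype_card, Fintype.card_subtype]
  by_cases h : v⁻¹ * g * v ∈ H
  · rw [if_pos h, Char.extendByZero_mem H _ h]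
  · rw [if_neg h, Char.extendByZero_not_mem H _ h]

namespace Frame

variable {G : Type u} [Group G] (F : Frame G)
variable [Finite G] [IsSimpleGroup G]

open C0 in
theorem three_char {S : Subgroup G} {s₁ s₂ : G} (h : F.ThreeData S s₁ s₂) :
    Cfsg.IsGeneralizedCharacter S (fun g : S => (F.fval (g : G) : ℂ)) := by
  classical
  haveI : Fact (Nat.Prime 3) := ⟨Nat.prime_three⟩
  haveI := Fintype.ofFinite S
  have hcub : ∀ g : S, g ^ 3 = 1 := fun g => by
    by_cases h1 : (g : G) = 1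
    · rw [show g = 1 from Subtype.ext h1, one_pow]
    · exact Subtype.ext (F.three_order ((h.mem_S g).1 g.2).2 h1)
  have hxS : F.xel ∈ S := (h.mem_S _).2 ⟨rfl, by
    rw [show 27 = 3 * 9 from rfl, pow_mul, ← F.xel_order, pow_orderOf_eq_one, one_pow]⟩
  let x : S := ⟨F.xel, hxS⟩
  let X := Subgroup.zpowers x
  have hxc : ∀ g : S, g * x = x * g := fun g => Subtype.ext ((h.mem_S g).1 g.2).1
  haveI hXn : X.Normal := ⟨fun v hv g => by
    obtain ⟨k, rfl⟩ := Subgroup.mem_zpowers_iff.1 hv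
    rw [((show Commute g x from hxc g).zpow_right k).eq, mul_inv_cancel_right]
    exact Subgroup.zpow_mem _ (Subgroup.mem_zpowers x) k⟩
  have hXc : Nat.card X = 3 := by rw [Nat.card_zpowers, Subgroup.orderOf_mk, F.xel_order]
  have hX3 : ∀ v ∈ X, v = 1 ∨ v = x ∨ v = x⁻¹ := fun v hv => three_elems (hcub x) hv
  have hQc : Nat.card (S ⧸ X) = 3 ^ 2 := by
    have := Subgroup.card_mul_index X
    rw [hXc, h.card_S, Subgroup.index_eq_card] at this
    omega
  have hQcomm : ∀ p q : S ⧸ X, p * q = q * p := (IsPGroup.isMulCommutative_of_card_eq_prime_sq hQc).is_comm.comm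
  let π : S →* S ⧸ X := QuotientGroup.mk' X
  have hπ : ∀ g : S, π g = 1 ↔ g ∈ X := fun g => QuotientGroup.eq_one_iff g
  -- conjugation by involutions
  have hconjS : ∀ i : G, (i * F.xel * i⁻¹ = F.xel ∨ i * F.xel * i⁻¹ = F.xel⁻¹) → ∀ g ∈ S, i * g * i⁻¹ ∈ S := by
    intro i hi g hg
    obtain ⟨hc, h27⟩ := (h.mem_S g).1 hg
    refine (h.mem_S _).2 ⟨?_, by rw [conj_pow, h27, mul_one, mul_inv_cancel]⟩
    have hc0 : Commute (i * g * i⁻¹) (i * F.xel * i⁻¹) := by
      show i * g * i⁻¹ * (i * F.xel * i⁻¹) = i * F.xel * i⁻¹ * (i * g * i⁻¹)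
      calc i * g * i⁻¹ * (i * F.xel * i⁻¹) = i * (g * F.xel) * i⁻¹ := by group
        _ = i * (F.xel * g) * i⁻¹ := by rw [hc]
        _ = _ := by group
    rcases hi with e | e <;> rw [e] at hc0
    · exact hc0.eq
    · simpa using hc0.inv_right.eq
  have hzx : F.z * F.xel * F.z⁻¹ = F.xel := mul_inv_eq_iff_eq_mul.2 (F.D.commute_z (repK 5)).symm
  let σz : S →* S :=
    { toFun := fun g => ⟨F.z * g * F.z⁻¹, hconjS _ (Or.inl hzx) g g.2⟩
      map_one' := Subtype.ext (by simp)
      map_mul' := fun g k => Subtype.ext (by simp) }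
  let σr : S →* S :=
    { toFun := fun g => ⟨F.rel * g * F.rel⁻¹, hconjS _ (Or.inr F.rel_xel) g g.2⟩
      map_one' := Subtype.ext (by simp)
      map_mul' := fun g k => Subtype.ext (by simp) }
  have hσzc : ∀ g : S, IsConj (g : G) (σz g : G) := fun g => isConj_iff.2 ⟨F.z, rfl⟩
  have hσrc : ∀ g : S, IsConj (g : G) (σr g : G) := fun g => isConj_iff.2 ⟨F.rel, rfl⟩
  have hσzx : σz x = x := Subtype.ext hzx
  have hσrx : σr x = x⁻¹ := Subtype.ext F.rel_xel
  have hσzX : ∀ v ∈ X, σz v = v := fun v hv => by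
    rcases hX3 v hv with rfl | rfl | rfl <;> simp [hσzx]
  have hσzσz : ∀ g, σz (σz g) = g := fun g => Subtype.ext (by
    show F.z * (F.z * (g : G) * F.z⁻¹) * F.z⁻¹ = g
    rw [show F.z * (F.z * (g : G) * F.z⁻¹) * F.z⁻¹ = F.z * F.z * g * (F.z * F.z)⁻¹ by group, F.D.z_sq]
    group)
  have hzfix : ∀ g : S, π (σz g) = π g → π g = 1 := fun g hg => by
    have ht : g⁻¹ * σz g ∈ X := (hπ _).1 (by rw [map_mul, map_inv, hg, inv_mul_cancel])
    set t := g⁻¹ * σz g with htd
    have e : σz g = g * t := by rw [htd, mul_inv_cancel_left]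
    have e2 : g = g * t * t := by
      conv_lhs => rw [← hσzσz g]
      rw [e, map_mul, hσzX t ht, e]
    have ht2 : t * t = 1 := by
      have := e2.symm
      rwa [mul_assoc, mul_eq_left] at this
    have ht1 : t = 1 := by
      have := hcub t
      rwa [pow_succ, sq, ht2, one_mul] at this
    rw [ht1, mul_one] at e
    have hgz : (g : G) * F.z = F.z * g := (mul_inv_eq_iff_eq_mul.1 (congrArg Subtype.val e)).symm
    obtain ⟨c, hc⟩ := F.D.exists_pre hgz
    obtain ⟨hgx, h27⟩ := (h.mem_S g).1 g.2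
    have hcx : c * repK 5 = repK 5 * c := F.inj (by rw [map_mul, map_mul, hc]; exact hgx)
    have hc27 : c ^ 27 = 1 := F.inj (by rw [map_pow, hc, h27, map_one])
    rw [hπ]
    rcases x0_cubed c hcx hc27 with rfl | rfl | rfl
    · rw [show g = 1 from Subtype.ext (by rw [← hc, map_one]; rfl)]; exact X.one_mem
    · rw [show g = x from Subtype.ext hc.symm]; exact Subgroup.mem_zpowers x
    · rw [show g = x⁻¹ from Subtype.ext (by rw [← hc, map_inv]; rfl)]; exact X.inv_mem (Subgroup.mem_zpowers x)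
  have hσzπ : ∀ g, π (σz g) = (π g)⁻¹ := fun g => by
    have hw : π (g * σz g) = 1 := hzfix _ (by rw [map_mul, hσzσz, map_mul, map_mul, hQcomm])
    rw [map_mul] at hw
    exact eq_inv_of_mul_eq_one_right hw
  -- the two fixed elements
  let u₁ : S := ⟨s₁, h.s₁_mem⟩
  let u₂ : S := ⟨s₂, h.s₂_mem⟩
  let a := π u₁
  let b := π u₂
  have hru1 : σr u₁ = u₁ := Subtype.ext (mul_inv_eq_iff_eq_mul.2 h.s₁_comm.symm)
  have hru2 : σr u₂ = σz u₂ := Subtype.ext (by
    show F.rel * s₂ * F.rel⁻¹ = F.z * s₂ * F.z⁻¹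
    have e : F.rel * F.z * s₂ * (F.rel * F.z)⁻¹ = s₂ := mul_inv_eq_iff_eq_mul.2 h.s₂_comm.symm
    calc F.rel * s₂ * F.rel⁻¹ = F.rel * F.rel * (F.z * s₂ * F.z⁻¹) * (F.rel * F.rel)⁻¹ := by
          conv_lhs => rw [← e]
          group
      _ = F.z * s₂ * F.z⁻¹ := by rw [F.rel_sq]; group)
  have ha1 : a ≠ 1 := fun e => by
    rcases hX3 _ ((hπ u₁).1 e) with e' | e' | e'
    · exact h.s₁_ne (congrArg Subtype.val e')
    all_goals
      have h2 := hru1
      rw [e'] at h2
      simp only [map_inv, hσrx, inv_inv] at h2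
      have h3 := hcub x
      rw [pow_succ, sq] at h3
      have : x * x = 1 := by
        first
          | exact inv_eq_iff_mul_eq_one.1 h2
          | exact inv_eq_iff_mul_eq_one.1 h2.symm
      rw [this, one_mul] at h3
      exact h.s₁_ne (congrArg Subtype.val (show u₁ = 1 by simp [e', h3]))
  have hb1 : b ≠ 1 := fun e => by
    have hz2 : σz u₂ = u₂ := hσzX _ ((hπ u₂).1 e)
    have hr2 : σr u₂ = u₂ := by rw [hru2, hz2]
    rcases hX3 _ ((hπ u₂).1 e) with e' | e' | e'
    · exact h.s₂_ne (congrArg Subtype.val e')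
    all_goals
      rw [e'] at hr2
      simp only [map_inv, hσrx, inv_inv] at hr2
      have h3 := hcub x
      rw [pow_succ, sq] at h3
      have : x * x = 1 := by
        first
          | exact inv_eq_iff_mul_eq_one.1 hr2
          | exact inv_eq_iff_mul_eq_one.1 hr2.symm
      rw [this, one_mul] at h3
      exact h.s₂_ne (congrArg Subtype.val (show u₂ = 1 by simp [e', h3]))
  have hcubQ : ∀ q : S ⧸ X, q ^ 3 = 1 := fun q => by
    obtain ⟨g, rfl⟩ := QuotientGroup.mk_surjective q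
    rw [← QuotientGroup.mk_pow, hcub, QuotientGroup.mk_one]
  have hA3 : ∀ v ∈ Subgroup.zpowers a, v = 1 ∨ v = a ∨ v = a⁻¹ := fun v hv => three_elems (hcubQ a) hv
  have hB3 : ∀ v ∈ Subgroup.zpowers b, v = 1 ∨ v = b ∨ v = b⁻¹ := fun v hv => three_elems (hcubQ b) hv
  have hσrπ : π (σr u₁) = a ∧ π (σr u₂) = b⁻¹ := ⟨by rw [hru1], by rw [hru2, hσzπ]⟩
  have hba : b ∉ Subgroup.zpowers a := fun hb => by
    obtain ⟨k, hk⟩ := Subgroup.mem_zpowers_iff.1 hb
    have hd : (u₁ ^ k)⁻¹ * u₂ ∈ X := (hπ _).1 (by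
      rw [map_mul, map_inv, map_zpow, show π u₁ ^ k = b from hk, inv_mul_cancel])
    have hd' : π (σr ((u₁ ^ k)⁻¹ * u₂)) = 1 := (hπ _).2 (by
      rcases hX3 _ hd with e | e | e <;> rw [e]
      · rw [map_one]; exact X.one_mem
      · rw [hσrx]; exact X.inv_mem (Subgroup.mem_zpowers x)
      · rw [map_inv, hσrx, inv_inv]; exact Subgroup.mem_zpowers x)
    rw [map_mul, map_inv, map_zpow, hru1, map_mul, map_inv, map_zpow, show π u₁ ^ k = b from hk, hσrπ.2] at hd'
    have : b * b = 1 := by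
      have := congrArg (·⁻¹) hd'
      simpa using this
    have h3 := hcubQ b
    rw [pow_succ, sq, this, one_mul] at h3
    exact hb1 h3
  have hcover : ∀ q : S ⧸ X, ∃ v w, (v = 1 ∨ v = a ∨ v = a⁻¹) ∧ (w = 1 ∨ w = b ∨ w = b⁻¹) ∧ q = v * w := by
    intro q
    letI : CommGroup (S ⧸ X) := { (inferInstance : Group (S ⧸ X)) with mul_comm := hQcomm }
    have htop : Subgroup.zpowers a ⊔ Subgroup.zpowers b = ⊤ := by
      refine Subgroup.eq_top_of_card_eq _ ?_
      have hA : Nat.card (Subgroup.zpowers a) = 3 := by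
        rw [Nat.card_zpowers]
        exact (orderOf_eq_prime_iff (p := 3)).2 ⟨hcubQ a, ha1⟩
      have hlt : Subgroup.zpowers a < Subgroup.zpowers a ⊔ Subgroup.zpowers b :=
        lt_of_le_of_ne le_sup_left fun e => hba (e ▸ Subgroup.mem_sup_right (Subgroup.mem_zpowers b))
      have hd : Nat.card ↥(Subgroup.zpowers a ⊔ Subgroup.zpowers b) ∣ 3 ^ 2 := hQc ▸ Subgroup.card_subgroup_dvd_card _
      obtain ⟨j, hj, hj'⟩ := (Nat.dvd_prime_pow Nat.prime_three).1 hd
      have hlt' : Nat.card (Subgroup.zpowers a) < Nat.card ↥(Subgroup.zpowers a ⊔ Subgroup.zpowers b) := by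
        by_contra hge
        exact hlt.ne (Subgroup.eq_of_le_of_card_ge hlt.le (not_lt.1 hge))
      rw [hA, hj'] at hlt'
      rw [hj', hQc]
      interval_cases j
      · simp at hlt'
      · simp at hlt'
      · rfl
    obtain ⟨v, hv, w, hw, e⟩ := Subgroup.mem_sup.1 (htop.ge (Subgroup.mem_top q))
    exact ⟨v, w, hA3 v hv, hB3 w hw, e.symm⟩
  -- a class is a coset
  have hcent : ∀ g : S, π g ≠ 1 → Nat.card (Subgroup.centralizer ({g} : Set S)) = 9 := by
    intro g hg
    set C := Subgroup.centralizer ({g} : Set S) with hC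
    have hgC : g ∈ C := Subgroup.mem_centralizer_singleton_iff.2 rfl
    have hXC : X ≤ C := (Subgroup.zpowers_le).2 (Subgroup.mem_centralizer_singleton_iff.2 (hxc g).symm)
    have hd : Nat.card C ∣ 3 ^ 3 := by
      have := Subgroup.card_subgroup_dvd_card C
      rwa [h.card_S] at this
    obtain ⟨j, hj, hj'⟩ := (Nat.dvd_prime_pow Nat.prime_three).1 hd
    have hlt : 3 < Nat.card C := by
      rw [← hXc]
      by_contra hge
      exact hg ((hπ g).2 (by rw [Subgroup.eq_of_le_of_card_ge hXC (not_lt.1 hge)]; exact hgC))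
    have hne : Nat.card C ≠ 27 := fun e => by
      have hgc : ∀ k : S, k * g = g * k := fun k => Subgroup.mem_centralizer_singleton_iff.1 (by
        rw [← hC, Subgroup.eq_top_of_card_eq C (by rw [e, h.card_S])]
        exact Subgroup.mem_top k)
      let Z := Subgroup.center S
      haveI : Z.Normal := inferInstance
      have hgZ : g ∈ Z := Subgroup.mem_center_iff.2 hgc
      have hXZ : X ≤ Z := (Subgroup.zpowers_le).2 (Subgroup.mem_center_iff.2 hxc)
      have hZ9 : 9 ∣ Nat.card Z := by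
        have hd : Nat.card Z ∣ 3 ^ 3 := by
          have := Subgroup.card_subgroup_dvd_card Z
          rwa [h.card_S] at this
        obtain ⟨j, hj, hj'⟩ := (Nat.dvd_prime_pow Nat.prime_three).1 hd
        have : 3 < Nat.card Z := by
          rw [← hXc]
          by_contra hge
          exact hg ((hπ g).2 (by rw [Subgroup.eq_of_le_of_card_ge hXZ (not_lt.1 hge)]; exact hgZ))
        rw [hj'] at this ⊢
        interval_cases j <;> simp_all
      haveI : IsCyclic (S ⧸ Z) := by
        have hmul := Subgroup.card_mul_index Z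
        rw [h.card_S, Subgroup.index_eq_card] at hmul
        have : Nat.card (S ⧸ Z) ∣ 3 := by
          obtain ⟨m, hm⟩ := hZ9
          rw [hm] at hmul
          exact ⟨m, by nlinarith⟩
        rcases (Nat.dvd_prime Nat.prime_three).1 this with e | e
        · haveI := (Nat.card_eq_one_iff_unique.1 e).1
          exact isCyclic_of_subsingleton
        · exact isCyclic_of_prime_card e
      obtain ⟨p, hp, q, hq, hpq⟩ := h.nonabelian
      refine hpq ?_
      exact congrArg Subtype.val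
        (commutative_of_cyclic_center_quotient (QuotientGroup.mk' Z) (by simp [Z]) (⟨p, hp⟩ : S) ⟨q, hq⟩)
    rw [hj'] at hlt hne ⊢
    interval_cases j <;> simp_all
  have hclass : ∀ g k : S, π g ≠ 1 → π k = π g → IsConj g k := by
    intro g k hg hk
    have hcl := MathieuEleven.class_mul_centralizer g
    rw [hcent g hg, h.card_S] at hcl
    let φ : {v : S // IsConj g v} → X := fun v => ⟨g⁻¹ * v.1, (hπ _).1 (by
      obtain ⟨c, hc⟩ := isConj_iff.1 v.2
      rw [map_mul, map_inv, ← hc, map_mul, map_mul, map_inv, hQcomm (π c), mul_assoc, mul_inv_cancel, mul_one,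
        inv_mul_cancel])⟩
    have hφ : Function.Injective φ := fun v w e => Subtype.ext (mul_left_cancel (congrArg Subtype.val e))
    have hbij : Function.Bijective φ := by
      haveI := Fintype.ofFinite {v : S // IsConj g v}
      haveI := Fintype.ofFinite X
      refine (Fintype.bijective_iff_injective_and_card φ).2 ⟨hφ, ?_⟩
      rw [← Nat.card_eq_fintype_card, ← Nat.card_eq_fintype_card, hXc]
      omega
    obtain ⟨v, hv⟩ := hbij.2 ⟨g⁻¹ * k, (hπ _).1 (by rw [map_mul, map_inv, hk, inv_mul_cancel])⟩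
    rw [← mul_left_cancel (congrArg Subtype.val hv)]
    exact v.2
  -- values
  have htoG : ∀ g k : S, IsConj g k → IsConj (g : G) (k : G) := fun g k e => S.subtype.map_isConj e
  have hX2 : ∀ g : S, g ∈ X → g ≠ 1 → F.fval (g : G) = 2 := by
    intro g hg hg1
    refine F.fval_x (F.three_X (congrArg Subtype.val (hcub g)) (fun e => hg1 (Subtype.ext e)) (IsConj.refl _) ?_)
    have := congrArg Subtype.val (hσzX g hg)
    exact (mul_inv_eq_iff_eq_mul.1 this).symm
  have hu1v : F.fval s₁ = 2 := F.fval_x (F.three_X (congrArg Subtype.val (hcub u₁)) h.s₁_ne F.isConj_rel.1 h.s₁_comm)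
  have hu1v' : F.fval s₁⁻¹ = 2 := F.fval_x (F.three_X (by rw [inv_pow, show s₁ ^ 3 = 1 from congrArg Subtype.val (hcub u₁), inv_one])
    (inv_ne_one.2 h.s₁_ne) F.isConj_rel.1 ((show Commute s₁ F.rel from h.s₁_comm).inv_left).eq)
  have hu2v : F.fval s₂ = 2 := F.fval_x (F.three_X (congrArg Subtype.val (hcub u₂)) h.s₂_ne F.isConj_rel.2 h.s₂_comm)
  have hu2v' : F.fval s₂⁻¹ = 2 := F.fval_x (F.three_X (by rw [inv_pow, show s₂ ^ 3 = 1 from congrArg Subtype.val (hcub u₂), inv_one])
    (inv_ne_one.2 h.s₂_ne) F.isConj_rel.2 ((show Commute s₂ (F.rel * F.z) from h.s₂_comm).inv_left).eq)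
  have ha' : a⁻¹ ≠ 1 := inv_ne_one.2 ha1
  have hb' : b⁻¹ ≠ 1 := inv_ne_one.2 hb1
  have hline : ∀ g : S, (π g ∈ Subgroup.zpowers a ∨ π g ∈ Subgroup.zpowers b) → g ≠ 1 → F.fval (g : G) = 2 := by
    intro g hg hg1
    by_cases h0 : π g = 1
    · exact hX2 g ((hπ g).1 h0) hg1
    rcases hg with hg | hg
    · rcases hA3 _ hg with e | e | e
      · exact absurd e h0
      · exact (F.fval_conj (htoG _ _ (hclass g u₁ h0 e.symm))).trans hu1v
      · exact (F.fval_conj (htoG _ _ (hclass g u₁⁻¹ h0 (by rw [map_inv]; exact e.symm)))).trans hu1v'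
    · rcases hB3 _ hg with e | e | e
      · exact absurd e h0
      · exact (F.fval_conj (htoG _ _ (hclass g u₂ h0 e.symm))).trans hu2v
      · exact (F.fval_conj (htoG _ _ (hclass g u₂⁻¹ h0 (by rw [map_inv]; exact e.symm)))).trans hu2v'
  have hmixconj : ∀ g : S, π g ∉ Subgroup.zpowers a → π g ∉ Subgroup.zpowers b →
      IsConj ((u₁ * u₂ : S) : G) (g : G) := by
    intro g hga hgb
    have h0 : π g ≠ 1 := fun e => hga (e ▸ one_mem _)
    obtain ⟨v, w, hv, hw, hvw⟩ := hcover (π g)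
    have e1 : π (u₁ * u₂) = a * b := map_mul _ _ _
    have e2 : π (σz (u₁ * u₂)) = a⁻¹ * b⁻¹ := by rw [hσzπ, e1, mul_inv_rev, hQcomm]
    have e3 : π (σr (u₁ * u₂)) = a * b⁻¹ := by rw [map_mul, map_mul, hσrπ.1, hσrπ.2]
    have e4 : π (σz (σr (u₁ * u₂))) = a⁻¹ * b := by rw [hσzπ, e3, mul_inv_rev, inv_inv, hQcomm]
    have hbmem : ∀ k : S ⧸ X, k = b ∨ k = b⁻¹ → k ∈ Subgroup.zpowers b := fun k hk => by
      rcases hk with rfl | rfl
      · exact Subgroup.mem_zpowers b
      · exact inv_mem (Subgroup.mem_zpowers b)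
    have key : ∀ p : S, π p = π g → IsConj ((u₁ * u₂ : S) : G) (p : G) → IsConj ((u₁ * u₂ : S) : G) (g : G) :=
      fun p hp hc => hc.trans (htoG _ _ (hclass p g (hp ▸ h0) hp.symm))
    rcases hv with rfl | rfl | rfl
    · rw [one_mul] at hvw
      rcases hw with rfl | hw
      · exact absurd hvw h0
      · exact absurd (hbmem _ hw) (hvw ▸ hgb)
    · rcases hw with rfl | rfl | rfl
      · rw [mul_one] at hvw; exact absurd (hvw ▸ Subgroup.mem_zpowers a) hga
      · exact key _ (e1.trans hvw.symm) (IsConj.refl _)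
      · exact key _ (e3.trans hvw.symm) (hσrc _)
    · rcases hw with rfl | rfl | rfl
      · rw [mul_one] at hvw; exact absurd (hvw ▸ inv_mem (Subgroup.mem_zpowers a)) hga
      · exact key _ (e4.trans hvw.symm) ((hσrc _).trans (hσzc _))
      · exact key _ (e2.trans hvw.symm) (hσzc _)
  obtain ⟨y, hy, hyc⟩ := h.has_y
  have hyv : F.fval y = -1 := F.fval_y hyc
  have hy1 : (⟨y, hy⟩ : S) ≠ 1 := fun e => by
    rw [show y = 1 from congrArg Subtype.val e, F.fval_one] at hyv
    norm_num at hyv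
  have hmix : ∀ g : S, π g ∉ Subgroup.zpowers a → π g ∉ Subgroup.zpowers b → F.fval (g : G) = -1 := by
    intro g hga hgb
    have hya : π ⟨y, hy⟩ ∉ Subgroup.zpowers a := fun e => by
      have := hline ⟨y, hy⟩ (Or.inl e) hy1
      rw [show ((⟨y, hy⟩ : S) : G) = y from rfl, hyv] at this
      norm_num at this
    have hyb : π ⟨y, hy⟩ ∉ Subgroup.zpowers b := fun e => by
      have := hline ⟨y, hy⟩ (Or.inr e) hy1
      rw [show ((⟨y, hy⟩ : S) : G) = y from rfl, hyv] at this
      norm_num at this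
    rw [← F.fval_conj ((hmixconj _ hga hgb).symm.trans (hmixconj _ hya hyb)).symm]
    exact hyv
  -- the two induced characters
  let M : Subgroup S := (Subgroup.zpowers a).comap π
  let H := Subgroup.zpowers u₂
  have hMmem : ∀ g v : S, v⁻¹ * g * v ∈ M ↔ π g ∈ Subgroup.zpowers a := fun g v => by
    rw [Subgroup.mem_comap]
    rw [map_mul, map_mul, map_inv, hQcomm (π v)⁻¹, mul_assoc, inv_mul_cancel, mul_one]
  have hMc : Nat.card M = 9 := by
    have h1 : M.index = 3 := by
      rw [Subgroup.index_comap_of_surjective _ (QuotientGroup.mk'_surjective X)]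
      have := Subgroup.card_mul_index (Subgroup.zpowers a)
      rw [Nat.card_zpowers, (orderOf_eq_prime_iff (p := 3)).2 ⟨hcubQ a, ha1⟩, hQc] at this
      omega
    have := Subgroup.card_mul_index M
    rw [h1, h.card_S] at this
    omega
  have hHc : Nat.card H = 3 := by
    rw [Nat.card_zpowers]
    exact (orderOf_eq_prime_iff (p := 3)).2 ⟨hcub u₂, fun e => h.s₂_ne (congrArg Subtype.val e)⟩
  have hHinj : ∀ v ∈ H, ∀ w ∈ H, π v = π w → v = w := by
    intro v hv w hw e
    have e' : π (v⁻¹ * w) = 1 := by rw [map_mul, map_inv, e, inv_mul_cancel]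
    rcases three_elems (hcub u₂) (mul_mem (inv_mem hv) hw : v⁻¹ * w ∈ H) with e2 | e2 | e2
    · exact inv_mul_eq_one.1 e2
    · rw [e2] at e'; exact absurd e' hb1
    · rw [e2, map_inv] at e'; exact absurd e' hb'
  have hIM : ∀ g : S, Cfsg.indFun M (fun _ => (1 : ℂ)) g = if π g ∈ Subgroup.zpowers a then 3 else 0 := by
    intro g
    rw [indFun_one_apply, hMc]
    split_ifs with hg
    · rw [Nat.card_congr (Equiv.subtypeUnivEquiv fun v => (hMmem g v).2 hg), h.card_S]
      norm_num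
    · haveI : IsEmpty {v : S // v⁻¹ * g * v ∈ M} := ⟨fun v => hg ((hMmem g v.1).1 v.2)⟩
      simp
  have hIH : ∀ g : S, Cfsg.indFun H (fun _ => (1 : ℂ)) g =
      if g = 1 then 9 else if π g ∈ Subgroup.zpowers b ∧ π g ≠ 1 then 3 else 0 := by
    intro g
    rw [indFun_one_apply, hHc]
    have hπc : ∀ v : S, π (v⁻¹ * g * v) = π g := fun v => by
      rw [map_mul, map_mul, map_inv, hQcomm (π v)⁻¹, mul_assoc, inv_mul_cancel, mul_one]
    split_ifs with h1 h2
    · rw [Nat.card_congr (Equiv.subtypeUnivEquiv fun v => by rw [h1, mul_one, inv_mul_cancel]; exact H.one_mem),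
        h.card_S]
      norm_num
    · obtain ⟨hgb, hg0⟩ := h2
      obtain ⟨k, hk⟩ := Subgroup.mem_zpowers_iff.1 hgb
      obtain ⟨v₀, hv₀⟩ := isConj_iff.1 (hclass g (u₂ ^ k) hg0 (by rw [map_zpow]; exact hk))
      have hiff : ∀ v : S, v⁻¹ * g * v ∈ H ↔ v⁻¹ * g * v = v₀ * g * v₀⁻¹ := fun v => by
        refine ⟨fun hv => hHinj _ hv _ (hv₀ ▸ Subgroup.zpow_mem _ (Subgroup.mem_zpowers _) k) ?_, fun e => ?_⟩
        · have := hπc v₀⁻¹
          rw [inv_inv] at this
          rw [hπc, this]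
        · rw [e, hv₀]; exact Subgroup.zpow_mem _ (Subgroup.mem_zpowers _) k
      let E : {v : S // v⁻¹ * g * v ∈ H} ≃ Subgroup.centralizer ({g} : Set S) :=
        { toFun := fun v => ⟨v.1 * v₀, Subgroup.mem_centralizer_singleton_iff.2 (by
            have e := (hiff v.1).1 v.2
            calc v.1 * v₀ * g = v.1 * (v₀ * g * v₀⁻¹) * v₀ := by group
              _ = v.1 * (v.1⁻¹ * g * v.1) * v₀ := by rw [e]
              _ = _ := by group)⟩
          invFun := fun c => ⟨c.1 * v₀⁻¹, (hiff _).2 (by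
            have e := Subgroup.mem_centralizer_singleton_iff.1 c.2
            calc (c.1 * v₀⁻¹)⁻¹ * g * (c.1 * v₀⁻¹) = v₀ * c.1⁻¹ * (g * c.1) * v₀⁻¹ := by group
              _ = v₀ * c.1⁻¹ * (c.1 * g) * v₀⁻¹ := by rw [e]
              _ = _ := by group)⟩
          left_inv := fun v => Subtype.ext (mul_inv_cancel_right _ _)
          right_inv := fun c => Subtype.ext (inv_mul_cancel_right _ _) }
      rw [Nat.card_congr E, hcent g hg0]
      norm_num
    · haveI : IsEmpty {v : S // v⁻¹ * g * v ∈ H} := ⟨fun v => by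
        have hb2 : π g ∈ Subgroup.zpowers b := by
          rw [← hπc v.1]
          obtain ⟨k, hk⟩ := Subgroup.mem_zpowers_iff.1 v.2
          rw [← hk, map_zpow]
          exact Subgroup.zpow_mem _ (Subgroup.mem_zpowers _) k
        refine h2 ⟨hb2, fun e => ?_⟩
        have := hHinj _ v.2 _ H.one_mem (by rw [hπc, e, map_one])
        exact h1 (by
          calc g = v.1 * (v.1⁻¹ * g * v.1) * v.1⁻¹ := by group
            _ = 1 := by rw [this]; group)⟩
      simp
  refine ⟨fun g => Cfsg.indFun M (fun _ => (1 : ℂ)) g + Cfsg.indFun H (fun _ => (1 : ℂ)) g, fun _ => 1, ?_,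
    Char.isCharacter_one, funext fun g => ?_⟩
  · exact Char.isCharacter_add (Char.isCharacter_indFun _ Char.isCharacter_one)
      (Char.isCharacter_indFun _ Char.isCharacter_one)
  simp only [Pi.sub_apply, hIM, hIH]
  by_cases h1 : g = 1
  · subst h1
    simp [F.fval_one]
    norm_num
  by_cases hga : π g ∈ Subgroup.zpowers a
  · rw [hline g (Or.inl hga) h1, if_pos hga, if_neg h1, if_neg]
    · norm_num
    · rintro ⟨hgb, hg0⟩
      rcases hB3 _ hgb with e | e | e
      · exact hg0 e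
      · exact hba (e ▸ hga)
      · exact hba (by simpa using inv_mem (e ▸ hga : b⁻¹ ∈ Subgroup.zpowers a))
  · have h0 : π g ≠ 1 := fun e => hga (e ▸ one_mem _)
    by_cases hgb : π g ∈ Subgroup.zpowers b
    · rw [hline g (Or.inr hgb) h1, if_neg hga, if_neg h1, if_pos ⟨hgb, h0⟩]
      norm_num
    · rw [hmix g hga hgb, if_neg hga, if_neg h1, if_neg (fun e => hgb e.1)]
      norm_num

end Frame

end Cfsg.Agent.MTwelve
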