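import Cfsg.Agent.Lib.Spor.MTwelve.CharVal
import Cfsg.Agent.Lib.Char.BrauerChar
import Mathlib.GroupTheory.FixedPointFree
import Mathlib.GroupTheory.PGroup

/-!
A Sylow three-subgroup of a frame and the class function on it.
-/

set_option autoImplicit false
set_option linter.style.haveILetI false
set_option linter.unusedSectionVars false

namespace Cfsg.Agent.MTwelve

open C0

universe u

theorem r0_facts : r0 * r0 = 1 ∧ r0 * repK 5 * r0⁻¹ = (repK 5)⁻¹ ∧ kd r0 = 2 ∧ kd (r0 * z0) = 2 := by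
  decide +kernel

theorem x0_cubed (c : C0) (h : c * repK 5 = repK 5 * c) (h3 : c ^ 27 = 1) :
    c = 1 ∨ c = repK 5 ∨ c = (repK 5)⁻¹ := by
  have h' := forall_of_all (p := fun c => !(decide (c * repK 5 = repK 5 * c) && decide (c ^ 27 = 1)) ||
    (c == 1 || c == repK 5 || c == (repK 5)⁻¹)) (by decide +kernel) c
  simp only [h, h3, decide_true, Bool.and_self, Bool.not_true, Bool.false_or, Bool.or_eq_true, beq_iff_eq] at h'
  rcases h' with (h' | h') | h' <;> simp [h']

namespace Frame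

variable {G : Type u} [Group G] (F : Frame G)
variable [Finite G] [IsSimpleGroup G]

/-- the element of order three -/
def xel : G := F.ι (repK 5)

/-- its inverting involution -/
def rel : G := F.ι r0

theorem xel_order : orderOf F.xel = 3 := (F.order_iota 5 rep_counts.2.1).trans (by decide)

theorem rel_sq : F.rel * F.rel = 1 := by rw [rel, ← map_mul, r0_facts.1, map_one]

theorem rel_inv : F.rel⁻¹ = F.rel := inv_eq_of_mul_eq_one_right F.rel_sq

theorem z_inv : F.z⁻¹ = F.z := inv_eq_of_mul_eq_one_right F.D.z_sq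

theorem rel_z : F.rel * F.z = F.z * F.rel := F.D.commute_z r0

theorem rel_xel : F.rel * F.xel * F.rel⁻¹ = F.xel⁻¹ := by
  rw [rel, xel, ← map_inv, ← map_mul, ← map_mul, r0_facts.2.1, map_inv]

theorem isConj_rel : IsConj F.z F.rel ∧ IsConj F.z (F.rel * F.z) := by
  obtain ⟨-, -, k2, k2'⟩ := r0_facts
  have h1 := F.D.isX_rep (c := r0) (by omega) (by omega)
  have h2 := F.D.isX_rep (c := r0 * z0) (by omega) (by omega)
  refine ⟨F.isX_r, ?_⟩
  have : IsConj F.z (F.ι (r0 * z0)) := h2.2 (by rw [k2']; exact F.isX_r)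
  rwa [map_mul, F.map_z] at this

/-- an element of order three centralising a conjugate of the central involution -/
theorem three_X {g i : G} (h3 : g ^ 3 = 1) (h1 : g ≠ 1) (hi : IsConj F.z i) (hc : g * i = i * g) :
    IsConj F.xel g := by
  obtain ⟨k, hk⟩ := isConj_iff.1 hi
  have hz : k⁻¹ * g * k * F.z = F.z * (k⁻¹ * g * k) := by
    rw [← hk] at hc
    calc k⁻¹ * g * k * F.z = k⁻¹ * (g * (k * F.z * k⁻¹)) * k := by group
      _ = k⁻¹ * (k * F.z * k⁻¹ * g) * k := by rw [hc]
      _ = _ := by group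
  obtain ⟨c, hc'⟩ := F.D.exists_pre hz
  have hc3 : c ^ 27 = 1 := F.inj (by
    rw [map_pow, hc', map_one, show k⁻¹ * g * k = MulAut.conj k⁻¹ g by simp, ← map_pow,
      show 27 = 3 * 9 from rfl, pow_mul, h3, one_pow, map_one])
  have hc1 : c ≠ 1 := fun e => h1 (by
    rw [e, map_one] at hc'
    calc g = k * (k⁻¹ * g * k) * k⁻¹ := by group
      _ = 1 := by rw [← hc']; group)
  obtain ⟨d, hd⟩ := conj_repK c
  rw [three_power c hc3 hc1] at hd
  refine (isConj_iff.2 ⟨F.ι d, ?_⟩ : IsConj F.xel (F.ι c)).trans (isConj_iff.2 ⟨k, by rw [hc']; group⟩)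
  rw [xel, ← map_inv, ← map_mul, ← map_mul, hd]

include F in
theorem three_order {g : G} (h27 : g ^ 27 = 1) (h1 : g ≠ 1) : g ^ 3 = 1 := by
  rcases F.three_sizes.2.2 g (orderOf_dvd_of_pow_eq_one h27) (fun e => h1 (orderOf_eq_one_iff.1 e))
    with e | e <;>
  · have := Fusion.orderOf_isConj e
    rw [F.rep_order] at this
    rw [← orderOf_dvd_iff_pow_eq_one, ← this]
    decide

theorem card_xel : Nat.card (Subgroup.centralizer ({F.xel} : Set G)) = 54 := by
  have h := MathieuEleven.class_mul_centralizer (F.rep 10)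
  rw [F.rep_size 10, F.card_eq] at h
  change repSize 10 * Nat.card (Subgroup.centralizer ({F.xel} : Set G)) = 95040 at h
  have e : repSize 10 = 1760 := rfl
  rw [e] at h
  omega

/-- the Sylow subgroup inside the centraliser of the element of order three -/
theorem exists_three : ∃ S : Subgroup G, Nat.card S = 27 ∧
    ∀ g : G, g ∈ S ↔ g * F.xel = F.xel * g ∧ g ^ 27 = 1 := by
  haveI : Fact (Nat.Prime 3) := ⟨Nat.prime_three⟩
  set C := Subgroup.centralizer ({F.xel} : Set G) with hC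
  obtain ⟨P⟩ : Nonempty (Sylow 3 C) := inferInstance
  have hC54 : Nat.card C = 54 := F.card_xel
  have hP : Nat.card (P : Subgroup C) = 27 := by
    rw [P.card_eq_multiplicity, hC54]
    have : (54 : ℕ).factorization 3 = 3 := by
      rw [show (54 : ℕ) = 3 ^ 3 * 2 by norm_num,
        Nat.factorization_mul (by norm_num) (by norm_num), Finsupp.add_apply,
        Nat.Prime.factorization_pow Nat.prime_three, Finsupp.single_eq_same,
        Nat.factorization_eq_zero_of_not_dvd (by norm_num)]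
    rw [this]
    norm_num
  have hidx : (P : Subgroup C).index = 2 := by
    have := Subgroup.card_mul_index (P : Subgroup C)
    rw [hP, hC54] at this
    omega
  haveI := Subgroup.normal_of_index_eq_two hidx
  refine ⟨(P : Subgroup C).map C.subtype, by rw [Subgroup.card_map_of_injective C.subtype_injective, hP],
    fun g => ⟨?_, ?_⟩⟩
  · rintro ⟨a, ha, rfl⟩
    refine ⟨Subgroup.mem_centralizer_singleton_iff.1 a.2, ?_⟩
    have := pow_card_eq_one' (x := (⟨a, ha⟩ : (P : Subgroup C)))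
    rw [hP] at this
    exact congrArg (fun b : (P : Subgroup C) => ((b : C) : G)) this
  · rintro ⟨hc, h27⟩
    let a : C := ⟨g, Subgroup.mem_centralizer_singleton_iff.2 hc⟩
    have h2 : ((a : C) : C ⧸ (P : Subgroup C)) ^ 2 = 1 := by
      rw [← hidx, Subgroup.index_eq_card]
      exact pow_card_eq_one'
    have h27' : ((a : C) : C ⧸ (P : Subgroup C)) ^ 27 = 1 := by
      rw [← QuotientGroup.mk_pow, show a ^ 27 = 1 from Subtype.ext h27, QuotientGroup.mk_one]
    have : ((a : C) : C ⧸ (P : Subgroup C)) = 1 := by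
      rw [show (27 : ℕ) = 2 * 13 + 1 from rfl, pow_succ, pow_mul, h2, one_pow, one_mul] at h27'
      exact h27'
    exact ⟨a, (QuotientGroup.eq_one_iff a).1 this, rfl⟩

/-- conjugation by an involution fixing the subgroup fixes a point outside the identity unless abelian -/
theorem exists_fixed {S : Subgroup G} {i : G} (hi : i * i = 1) (hS : ∀ g ∈ S, i * g * i⁻¹ ∈ S)
    (hna : ∃ a ∈ S, ∃ b ∈ S, a * b ≠ b * a) : ∃ s ∈ S, s ≠ 1 ∧ s * i = i * s := by
  by_contra hcon
  push Not at hcon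
  let φ : S →* S :=
    { toFun := fun g => ⟨i * g * i⁻¹, hS g g.2⟩
      map_one' := Subtype.ext (by simp)
      map_mul' := fun g h => Subtype.ext (by simp) }
  have hφ : MonoidHom.FixedPointFree φ := fun g hg => by
    by_contra h1
    have e : i * (g : G) * i⁻¹ = g := congrArg Subtype.val hg
    exact hcon g g.2 (fun e' => h1 (Subtype.ext e')) (mul_inv_eq_iff_eq_mul.1 e).symm
  have hinv : Function.Involutive φ := fun g => Subtype.ext (by
    show i * (i * (g : G) * i⁻¹) * i⁻¹ = g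
    rw [show i * (i * (g : G) * i⁻¹) * i⁻¹ = i * i * g * (i * i)⁻¹ by group, hi]
    group)
  obtain ⟨a, ha, b, hb, hab⟩ := hna
  exact hab (congrArg Subtype.val (hφ.commute_all_of_involutive hinv ⟨a, ha⟩ ⟨b, hb⟩).eq)

/-- the data of the Sylow subgroup -/
structure ThreeData (S : Subgroup G) (s₁ s₂ : G) : Prop where
  card_S : Nat.card S = 27
  mem_S : ∀ g : G, g ∈ S ↔ g * F.xel = F.xel * g ∧ g ^ 27 = 1
  s₁_mem : s₁ ∈ S
  s₂_mem : s₂ ∈ S
  s₁_ne : s₁ ≠ 1
  s₂_ne : s₂ ≠ 1
  s₁_comm : s₁ * F.rel = F.rel * s₁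
  s₂_comm : s₂ * (F.rel * F.z) = F.rel * F.z * s₂
  nonabelian : ∃ a ∈ S, ∃ b ∈ S, a * b ≠ b * a
  has_y : ∃ y ∈ S, IsConj (F.ofM (1, cyc3)) y

theorem exists_data : ∃ S s₁ s₂, F.ThreeData S s₁ s₂ := by
  haveI : Fact (Nat.Prime 3) := ⟨Nat.prime_three⟩
  obtain ⟨S, hS, hmem⟩ := F.exists_three
  have hf : (Nat.card G).factorization 3 = 3 := by
    rw [F.card_eq, show (95040 : ℕ) = 3 ^ 3 * 3520 by norm_num,
      Nat.factorization_mul (by norm_num) (by norm_num), Finsupp.add_apply,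
      Nat.Prime.factorization_pow Nat.prime_three, Finsupp.single_eq_same,
      Nat.factorization_eq_zero_of_not_dvd (by norm_num)]
  let P : Sylow 3 G := Sylow.ofCard S (by rw [hS, hf]; norm_num)
  have hy3 : orderOf (F.ofM (1, cyc3)) = 3 := (F.orderOf_ofM _).trans order_three_model.1
  obtain ⟨Q, hQ⟩ := (IsPGroup.of_card (n := 1) (by rw [Nat.card_zpowers, hy3, pow_one]) :
    IsPGroup 3 (Subgroup.zpowers (F.ofM (1, cyc3)))).exists_le_sylow
  obtain ⟨k, hk⟩ := MulAction.exists_smul_eq G Q P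
  have hyS : k * F.ofM (1, cyc3) * k⁻¹ ∈ S := by
    have : k * F.ofM (1, cyc3) * k⁻¹ ∈ ((k • Q : Sylow 3 G) : Subgroup G) :=
      ⟨_, hQ (Subgroup.mem_zpowers _), rfl⟩
    rw [hk] at this
    exact this
  have hyc : IsConj (F.ofM (1, cyc3)) (k * F.ofM (1, cyc3) * k⁻¹) := isConj_iff.2 ⟨k, rfl⟩
  have hna : ∃ a ∈ S, ∃ b ∈ S, a * b ≠ b * a := by
    by_contra hcon
    push Not at hcon
    have hle : S ≤ Subgroup.centralizer ({k * F.ofM (1, cyc3) * k⁻¹} : Set G) := fun a ha =>
      Subgroup.mem_centralizer_singleton_iff.2 (hcon a ha _ hyS)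
    have hd := Subgroup.card_dvd_of_le hle
    rw [hS, ← conj_centralizer_card hyc] at hd
    have h11 := MathieuEleven.class_mul_centralizer (F.rep 11)
    rw [F.rep_size 11, F.card_eq, show repSize 11 = 2640 from rfl] at h11
    change 2640 * Nat.card (Subgroup.centralizer ({F.ofM (1, cyc3)} : Set G)) = 95040 at h11
    omega
  have hrS : ∀ g ∈ S, F.rel * g * F.rel⁻¹ ∈ S := fun g hg => by
    obtain ⟨hc, h27⟩ := (hmem g).1 hg
    refine (hmem _).2 ⟨?_, by rw [conj_pow, h27, mul_one, mul_inv_cancel]⟩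
    have e := F.rel_xel
    have hc' : g * F.xel⁻¹ = F.xel⁻¹ * g := ((show Commute g F.xel from hc).inv_right).eq
    have e' : F.rel⁻¹ * F.xel * F.rel = F.xel⁻¹ := by
      have := F.rel_xel
      rw [F.rel_inv] at this ⊢
      exact this
    calc F.rel * g * F.rel⁻¹ * F.xel = F.rel * (g * (F.rel⁻¹ * F.xel * F.rel)) * F.rel⁻¹ := by group
      _ = F.rel * (F.xel⁻¹ * g) * F.rel⁻¹ := by rw [e', hc']
      _ = F.xel * (F.rel * g * F.rel⁻¹) := by
        rw [← e']
        group
  have hzS : ∀ g ∈ S, F.z * g * F.z⁻¹ ∈ S := fun g hg => by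
    obtain ⟨hc, h27⟩ := (hmem g).1 hg
    refine (hmem _).2 ⟨?_, by rw [conj_pow, h27, mul_one, mul_inv_cancel]⟩
    have hzx : Commute F.z F.xel := (F.D.commute_z (repK 5)).symm
    exact ((hzx.mul_left hc).mul_left hzx.inv_left).eq
  obtain ⟨s₁, h1, h1', h1''⟩ := exists_fixed F.rel_sq hrS hna
  obtain ⟨s₂, h2, h2', h2''⟩ := exists_fixed (i := F.rel * F.z)
    (by rw [mul_assoc, ← mul_assoc F.z, ← F.rel_z, mul_assoc F.rel, F.D.z_sq, mul_one, F.rel_sq])
    (fun g hg => by
      have := hrS _ (hzS g hg)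
      rwa [show F.rel * (F.z * g * F.z⁻¹) * F.rel⁻¹ = F.rel * F.z * g * (F.rel * F.z)⁻¹ by group] at this)
    hna
  exact ⟨S, s₁, s₂, hS, hmem, h1, h2, h1', h2', h1'', h2'', hna, _, hyS, hyc⟩

end Frame

end Cfsg.Agent.MTwelve
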